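import Mathlib.GroupTheory.Perm.Fin
import Mathlib.GroupTheory.SpecificGroups.Alternating
import Mathlib.Data.ZMod.Basic
import Mathlib.Data.Fintype.Powerset
import Mathlib.Algebra.BigOperators.Group.Finset.Basic
import Mathlib.Data.Nat.Choose.Basic

/-!
# Additive maps normalizing the alternating group on the even-weight module are permutations
-/

set_option autoImplicit false
set_option linter.unusedSectionVars false
set_option linter.style.haveILetI false

namespace CfsgLib.BlockPair.AltNorm

open Finset

variable {n : ℕ}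

/-- The indicator vector of a set. -/
def vec (s : Finset (Fin n)) : Fin n → ZMod 2 := fun i => if i ∈ s then 1 else 0

/-- The support of a vector. -/
def supp (v : Fin n → ZMod 2) : Finset (Fin n) := univ.filter fun i => v i = 1

/-- The permutation action on vectors. -/
def act (σ : Equiv.Perm (Fin n)) (v : Fin n → ZMod 2) : Fin n → ZMod 2 := fun i => v (σ⁻¹ i)

theorem z2_cases (a : ZMod 2) : a = 0 ∨ a = 1 := (show ∀ x : ZMod 2, x = 0 ∨ x = 1 by decide) a

theorem vec_supp (v : Fin n → ZMod 2) : vec (supp v) = v := by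
  funext i
  rcases z2_cases (v i) with h | h <;> simp [vec, supp, h]

theorem supp_vec (s : Finset (Fin n)) : supp (vec s) = s := by
  ext i
  by_cases h : i ∈ s <;> simp [vec, supp, h]

theorem vec_injective {s t : Finset (Fin n)} (h : vec s = vec t) : s = t := by
  rw [← supp_vec s, h, supp_vec]

theorem sum_vec (s : Finset (Fin n)) : ∑ i, vec s i = (s.card : ZMod 2) := by
  simp [vec, Finset.sum_ite_mem]

theorem even_iff (s : Finset (Fin n)) : ∑ i, vec s i = 0 ↔ Even s.card := by
  rw [sum_vec, ZMod.natCast_eq_zero_iff_even]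

theorem act_vec (σ : Equiv.Perm (Fin n)) (s : Finset (Fin n)) :
    act σ (vec s) = vec (s.map σ.toEmbedding) := by
  funext i
  simp [act, vec, Finset.mem_map_equiv]

/-- The alternating group is transitive on the subsets of a given cardinality at least two. -/
theorem exists_alt_map {s t : Finset (Fin n)} (h : s.card = t.card) (h2 : 2 ≤ s.card) :
    ∃ σ ∈ alternatingGroup (Fin n), s.map σ.toEmbedding = t := by
  classical
  have h' : Fintype.card {x // x ∈ s} = Fintype.card {x // x ∈ t} := by
    simpa [Fintype.card_coe] using h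
  set σ : Equiv.Perm (Fin n) := (Fintype.equivOfCardEq h').extendSubtype with hσ
  have hmap : s.map σ.toEmbedding = t := by
    refine Finset.eq_of_subset_of_card_le (fun i hi => ?_) (by rw [Finset.card_map, h])
    obtain ⟨j, hj, rfl⟩ := Finset.mem_map.mp hi
    exact Equiv.extendSubtype_mem _ j hj
  rcases Int.units_eq_one_or (Equiv.Perm.sign σ) with hs | hs
  · exact ⟨σ, hs, hmap⟩
  obtain ⟨a, ha, b, hb, hab⟩ := Finset.one_lt_card.mp h2
  refine ⟨σ * Equiv.swap a b, ?_, ?_⟩
  · rw [Equiv.Perm.mem_alternatingGroup, map_mul, Equiv.Perm.sign_swap hab, hs]; simp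
  · refine Finset.eq_of_subset_of_card_le (fun i hi => ?_) (by rw [Finset.card_map, h])
    obtain ⟨j, hj, rfl⟩ := Finset.mem_map.mp hi
    rw [← hmap]
    refine Finset.mem_map.mpr ⟨Equiv.swap a b j, ?_, rfl⟩
    rcases eq_or_ne j a with rfl | hja
    · rwa [Equiv.swap_apply_left]
    rcases eq_or_ne j b with rfl | hjb
    · rwa [Equiv.swap_apply_right]
    rwa [Equiv.swap_apply_of_ne_of_ne hja hjb]

/-- There are more subsets of cardinality strictly between `2` and `n - 2` than pairs. -/
theorem choose_two_lt : ∀ (n k : ℕ), 3 ≤ k → k + 3 ≤ n → n.choose 2 < n.choose k := by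
  intro n
  induction n with
  | zero => intro k h1 h2; omega
  | succ n ih =>
    intro k h3 hk
    have hn : n ≤ n.choose 2 := by
      obtain ⟨m, rfl⟩ : ∃ m, n = m + 5 := ⟨n - 5, by omega⟩
      rw [Nat.choose_succ_succ' (m + 4) 1, Nat.choose_one_right, show (1 + 1 : ℕ) = 2 from rfl]
      have : 1 ≤ (m + 4).choose 2 := Nat.choose_pos (by omega)
      omega
    obtain ⟨j, rfl⟩ : ∃ j, k = j + 1 := ⟨k - 1, by omega⟩
    rw [Nat.choose_succ_succ' n 1, Nat.choose_one_right, Nat.choose_succ_succ' n j,
      show (1 + 1 : ℕ) = 2 from rfl]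
    have hj : n ≤ n.choose j := by
      rcases Nat.lt_or_ge j 3 with h | h
      · obtain rfl : j = 2 := by omega
        exact hn
      · exact (ih j h (by omega)).le.trans' hn
    rcases Nat.lt_or_ge (j + 1 + 3) (n + 1) with h | h
    · have := ih (j + 1) h3 (by omega)
      omega
    · have he : n.choose (j + 1) = n.choose 2 := Nat.choose_symm_of_eq_add (by omega)
      have hj2 : n.choose 2 < n.choose j ∨ j = 2 := by
        rcases Nat.lt_or_ge j 3 with h' | h'
        · right; omega
        · exact Or.inl (ih j h' (by omega))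
      rcases hj2 with h' | h'
      · omega
      · -- `n = 5`
        obtain rfl : n = 5 := by omega
        subst h'
        decide

/-- An additive map normalizing the alternating group is induced by a permutation. -/
theorem exists_perm (hn : 5 ≤ n) (hodd : Odd n) (A : (Fin n → ZMod 2) → (Fin n → ZMod 2))
    (heven : ∀ v, ∑ i, v i = 0 → ∑ i, A v i = 0)
    (hadd : ∀ v v', ∑ i, v i = 0 → ∑ i, v' i = 0 → A (v + v') = A v + A v')
    (hinj : ∀ v v', ∑ i, v i = 0 → ∑ i, v' i = 0 → A v = A v' → v = v')
    (heq : ∀ σ ∈ alternatingGroup (Fin n), ∃ σ' ∈ alternatingGroup (Fin n),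
      ∀ v, ∑ i, v i = 0 → A (act σ v) = act σ' (A v))
    (heq' : ∀ σ' ∈ alternatingGroup (Fin n), ∃ σ ∈ alternatingGroup (Fin n),
      ∀ v, ∑ i, v i = 0 → A (act σ v) = act σ' (A v)) :
    ∃ π : Equiv.Perm (Fin n), ∀ v, ∑ i, v i = 0 → A v = act π v := by
  classical
  let f : Finset (Fin n) → Finset (Fin n) := fun s => supp (A (vec s))
  have hf : ∀ s, A (vec s) = vec (f s) := fun s => (vec_supp _).symm
  have he : ∀ {s : Finset (Fin n)}, s.card = 2 → ∑ i, vec s i = 0 := fun {s} hs =>
    (even_iff s).mpr (by rw [hs]; exact even_two)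
  have hA0 : A 0 = 0 := by
    have h := hadd 0 0 (by simp) (by simp)
    rw [add_zero] at h
    simpa using h
  have hfinj : ∀ {s t : Finset (Fin n)}, s.card = 2 → t.card = 2 → f s = f t → s = t :=
    fun {s t} hs ht h => vec_injective (hinj _ _ (he hs) (he ht) (by rw [hf, hf, h]))
  -- pairs go to pairs
  have hpair : ∀ {s : Finset (Fin n)}, s.card = 2 → (f s).card = 2 := by
    intro s hs
    set k := (f s).card with hk
    have hkeven : Even k := (even_iff _).mp (by rw [← hf]; exact heven _ (he hs))
    have hk0 : k ≠ 0 := fun h0 => by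
      have h1 : vec s = vec (∅ : Finset (Fin n)) := by
        refine hinj _ _ (he hs) ((even_iff _).mpr (by simp)) ?_
        rw [hf s, Finset.card_eq_zero.mp h0,
          show vec (∅ : Finset (Fin n)) = 0 from funext fun i => by simp [vec], hA0]
      rw [vec_injective h1] at hs
      simp at hs
    have hk2 : 2 ≤ k := by
      rcases hkeven with ⟨r, hr⟩
      omega
    have hkn : k ≤ n := (Finset.card_le_univ _).trans (by simp)
    have h1 : ∀ t : Finset (Fin n), t.card = 2 → (f t).card = k := by
      intro t ht
      obtain ⟨σ, hσ, hσt⟩ := exists_alt_map (hs.trans ht.symm) hs.ge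
      obtain ⟨σ', -, h⟩ := heq σ hσ
      have e := h (vec s) (he hs)
      rw [act_vec, hσt, hf s, act_vec, hf t] at e
      rw [vec_injective e, Finset.card_map]
    have h2 : ∀ u : Finset (Fin n), u.card = k → ∃ t : Finset (Fin n), t.card = 2 ∧ f t = u := by
      intro u hu
      obtain ⟨σ', hσ', hσu⟩ := exists_alt_map hu.symm hk2
      obtain ⟨σ, -, h⟩ := heq' σ' hσ'
      have e := h (vec s) (he hs)
      rw [act_vec, hf s, act_vec, hσu, hf] at e
      exact ⟨_, by rw [Finset.card_map, hs], vec_injective e⟩
    have h3 : n.choose 2 = n.choose k := by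
      have e : (powersetCard 2 (univ : Finset (Fin n))).card =
          (powersetCard k (univ : Finset (Fin n))).card := by
        refine Finset.card_bij (fun t _ => f t)
          (fun t ht => mem_powersetCard.mpr ⟨subset_univ _, h1 t (mem_powersetCard.mp ht).2⟩)
          (fun t ht t' ht' h => hfinj (mem_powersetCard.mp ht).2 (mem_powersetCard.mp ht').2 h)
          fun u hu => ?_
        obtain ⟨t, ht, rfl⟩ := h2 u (mem_powersetCard.mp hu).2
        exact ⟨t, mem_powersetCard.mpr ⟨subset_univ _, ht⟩, rfl⟩
      simpa using e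
    by_contra hne
    obtain ⟨r, hr⟩ := hkeven
    obtain ⟨q, hq⟩ := hodd
    rcases Nat.lt_or_ge (k + 2) n with h | h
    · exact absurd h3 (choose_two_lt n k (by omega) (by omega)).ne
    · have hnk : n = k + 1 := by omega
      rw [hnk, Nat.choose_succ_self_right, Nat.choose_succ_succ' k 1, Nat.choose_one_right,
        show (1 + 1 : ℕ) = 2 from rfl] at h3
      have : 2 ≤ k.choose 2 := by
        obtain ⟨m, hm⟩ : ∃ m, k = m + 4 := ⟨k - 4, by omega⟩
        rw [hm, Nat.choose_succ_succ' (m + 3) 1, Nat.choose_one_right]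
        omega
      omega
  -- images of adjacent pairs meet
  have hadj : ∀ {i j k : Fin n}, i ≠ j → i ≠ k → j ≠ k → (f {i, j} ∩ f {i, k}).Nonempty := by
    intro i j k hij hik hjk
    by_contra hne
    rw [Finset.not_nonempty_iff_eq_empty] at hne
    have hc1 : ({i, j} : Finset (Fin n)).card = 2 := Finset.card_pair hij
    have hc2 : ({i, k} : Finset (Fin n)).card = 2 := Finset.card_pair hik
    have hc3 : ({j, k} : Finset (Fin n)).card = 2 := Finset.card_pair hjk
    have hsum : vec ({j, k} : Finset (Fin n)) = vec {i, j} + vec {i, k} := by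
      funext l
      rcases eq_or_ne l i with rfl | hli
      · simp [vec, hij, hik]; rfl
      rcases eq_or_ne l j with rfl | hlj
      · simp [vec, hli, hjk]
      rcases eq_or_ne l k with rfl | hlk
      · simp [vec, hli, hlj]
      · simp [vec, hli, hlj, hlk]
    have h := hadd _ _ (he hc1) (he hc2)
    rw [← hsum, hf, hf, hf] at h
    have hdisj : Disjoint (f {i, j}) (f {i, k}) := Finset.disjoint_iff_inter_eq_empty.mpr hne
    have h4 : vec (f {i, j}) + vec (f {i, k}) = vec (f {i, j} ∪ f {i, k}) := by
      funext l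
      by_cases h1 : l ∈ f {i, j}
      · simp [vec, h1, Finset.disjoint_left.mp hdisj h1]
      · by_cases h2 : l ∈ f {i, k} <;> simp [vec, h1, h2]
    rw [h4] at h
    have h5 := congrArg Finset.card (vec_injective h)
    rw [hpair hc3, Finset.card_union_of_disjoint hdisj, hpair hc1, hpair hc2] at h5
    omega
  -- the point belonging to `i`
  have hstar : ∀ i : Fin n, ∃ c, ∀ j, j ≠ i → c ∈ f {i, j} := by
    intro i
    have h4 : 4 ≤ (univ.erase i).card := by
      rw [Finset.card_erase_of_mem (mem_univ i), Finset.card_univ, Fintype.card_fin]; omega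
    obtain ⟨j1, hj1, j2, hj2, h12⟩ := Finset.one_lt_card.mp (by omega : 1 < (univ.erase i).card)
    rw [mem_erase] at hj1 hj2
    have hc1 := hpair (Finset.card_pair hj1.1.symm)
    have hc2 := hpair (Finset.card_pair hj2.1.symm)
    obtain ⟨c, hc⟩ := hadj hj1.1.symm hj2.1.symm h12
    obtain ⟨hcm1, hcm2⟩ := Finset.mem_inter.mp hc
    obtain ⟨a, hfa⟩ : ∃ a, f {i, j1} = {c, a} ∧ c ≠ a := by
      obtain ⟨x, y, hxy, he1⟩ := Finset.card_eq_two.mp hc1
      rw [he1, mem_insert, mem_singleton] at hcm1
      rcases hcm1 with rfl | rfl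
      · exact ⟨y, he1, hxy⟩
      · exact ⟨x, by rw [he1, Finset.pair_comm], hxy.symm⟩
    obtain ⟨b, hfb⟩ : ∃ b, f {i, j2} = {c, b} ∧ c ≠ b := by
      obtain ⟨x, y, hxy, he1⟩ := Finset.card_eq_two.mp hc2
      rw [he1, mem_insert, mem_singleton] at hcm2
      rcases hcm2 with rfl | rfl
      · exact ⟨y, he1, hxy⟩
      · exact ⟨x, by rw [he1, Finset.pair_comm], hxy.symm⟩
    refine ⟨c, fun j hj => ?_⟩
    by_contra hcj
    have hj1' : j ≠ j1 := fun h => hcj (h ▸ hcm1)
    have hj2' : j ≠ j2 := fun h => hcj (h ▸ hcm2)
    have hab : ∀ l, l ≠ i → l ≠ j1 → l ≠ j2 → c ∉ f {i, l} → f {i, l} = {a, b} := by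
      intro l hl hl1 hl2 hcl
      have ha : a ∈ f {i, l} := by
        obtain ⟨x, hx⟩ := hadj hl.symm hj1.1.symm hl1
        rw [Finset.mem_inter, hfa.1, mem_insert, mem_singleton] at hx
        rcases hx.2 with rfl | rfl
        · exact absurd hx.1 hcl
        · exact hx.1
      have hb : b ∈ f {i, l} := by
        obtain ⟨x, hx⟩ := hadj hl.symm hj2.1.symm hl2
        rw [Finset.mem_inter, hfb.1, mem_insert, mem_singleton] at hx
        rcases hx.2 with rfl | rfl
        · exact absurd hx.1 hcl
        · exact hx.1
      have hne : a ≠ b := fun h => h12 (by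
        have he2 := hfinj (Finset.card_pair hj1.1.symm) (Finset.card_pair hj2.1.symm)
          (by rw [hfa.1, hfb.1, h])
        have h' : j1 ∈ ({i, j2} : Finset (Fin n)) := he2 ▸ mem_insert_of_mem (mem_singleton_self j1)
        rw [mem_insert, mem_singleton] at h'
        exact h'.resolve_left hj1.1)
      refine (Finset.eq_of_subset_of_card_le ?_ ?_).symm
      · intro x hx
        rw [mem_insert, mem_singleton] at hx
        rcases hx with rfl | rfl
        · exact ha
        · exact hb
      · rw [hpair (Finset.card_pair hl.symm), Finset.card_pair hne]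
    have hj' := hab j hj hj1' hj2' hcj
    -- a fourth pair
    have hex : ∃ l, l ∈ ((univ.erase i).erase j1).erase j2 ∧ l ≠ j := by
      by_contra hall
      simp only [not_exists, not_and, not_not] at hall
      have hsub : ((univ.erase i).erase j1).erase j2 ⊆ {j} := fun l hl => mem_singleton.mpr (hall l hl)
      have h1 := Finset.card_le_card hsub
      have h2 := Finset.pred_card_le_card_erase (a := j2) (s := (univ.erase i).erase j1)
      have h3 := Finset.pred_card_le_card_erase (a := j1) (s := univ.erase i)
      rw [Finset.card_singleton] at h1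
      omega
    obtain ⟨l, hl, hlj⟩ := hex
    rw [mem_erase, mem_erase, mem_erase] at hl
    obtain ⟨hl2, hl1, hli, -⟩ := hl
    have hcl : c ∈ f {i, l} := by
      by_contra hcl
      have h := hfinj (Finset.card_pair hli.symm) (Finset.card_pair hj.symm)
        ((hab l hli hl1 hl2 hcl).trans hj'.symm)
      have h' : l ∈ ({i, j} : Finset (Fin n)) := h ▸ mem_insert_of_mem (mem_singleton_self l)
      rw [mem_insert, mem_singleton] at h'
      exact hlj (h'.resolve_left hli)
    obtain ⟨x, hx⟩ := hadj hli.symm hj.symm hlj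
    rw [Finset.mem_inter, hj', mem_insert, mem_singleton] at hx
    obtain ⟨d, d', hdd, he1⟩ := Finset.card_eq_two.mp (hpair (Finset.card_pair hli.symm))
    have hxc : x ≠ c := by rcases hx.2 with rfl | rfl; exacts [hfa.2.symm, hfb.2.symm]
    have heq2 : f {i, l} = {c, x} := by
      refine (Finset.eq_of_subset_of_card_le ?_ ?_).symm
      · intro y hy
        rw [mem_insert, mem_singleton] at hy
        rcases hy with rfl | rfl
        · exact hcl
        · exact hx.1
      · rw [hpair (Finset.card_pair hli.symm), Finset.card_pair hxc.symm]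
    have key : ∀ m, m ≠ i → f {i, l} = f {i, m} → l = m := fun m hm h => by
      have he2 := hfinj (Finset.card_pair hli.symm) (Finset.card_pair hm.symm) h
      have h' : l ∈ ({i, m} : Finset (Fin n)) := he2 ▸ mem_insert_of_mem (mem_singleton_self l)
      rw [mem_insert, mem_singleton] at h'
      exact h'.resolve_left hli
    rcases hx.2 with rfl | rfl
    · exact hl1 (key j1 hj1.1 (by rw [heq2, hfa.1]))
    · exact hl2 (key j2 hj2.1 (by rw [heq2, hfb.1]))
  choose c hc using hstar
  have hcinj : Function.Injective c := by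
    intro i k hik
    by_contra hne
    obtain ⟨l, hli, hlk⟩ : ∃ l, l ≠ i ∧ l ≠ k := by
      obtain ⟨l, hl⟩ : ∃ l, l ∈ (univ.erase i).erase k := by
        refine Finset.card_pos.mp ?_
        have h2 := Finset.pred_card_le_card_erase (a := k) (s := univ.erase i)
        rw [Finset.card_erase_of_mem (mem_univ i), Finset.card_univ, Fintype.card_fin] at h2
        omega
      rw [mem_erase, mem_erase] at hl
      exact ⟨l, hl.2.1, hl.1⟩
    let S := (univ.filter fun t : Finset (Fin n) => t.card = 2 ∧ c i ∈ t)
    have hS : (univ.erase i).image (fun j => f {i, j}) = S := by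
      refine Finset.eq_of_subset_of_card_le ?_ ?_
      · intro t ht
        obtain ⟨j, hj, rfl⟩ := Finset.mem_image.mp ht
        rw [mem_erase] at hj
        exact mem_filter.mpr ⟨mem_univ _, hpair (Finset.card_pair hj.1.symm), hc i j hj.1⟩
      · rw [Finset.card_image_of_injOn fun j hj j' hj' h => ?_]
        · have : S ⊆ (univ.erase (c i)).image (fun x => {c i, x}) := by
            intro t ht
            obtain ⟨-, ht2, hct⟩ := mem_filter.mp ht
            obtain ⟨x, y, hxy, rfl⟩ := Finset.card_eq_two.mp ht2
            rw [mem_insert, mem_singleton] at hct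
            rcases hct with rfl | rfl
            · exact Finset.mem_image.mpr ⟨y, mem_erase.mpr ⟨hxy.symm, mem_univ _⟩, rfl⟩
            · exact Finset.mem_image.mpr ⟨x, mem_erase.mpr ⟨hxy, mem_univ _⟩, Finset.pair_comm _ _⟩
          refine (Finset.card_le_card this).trans (Finset.card_image_le.trans ?_)
          simp
        · rw [mem_coe, mem_erase] at hj hj'
          have he2 := hfinj (Finset.card_pair hj.1.symm) (Finset.card_pair hj'.1.symm) h
          have h' : j ∈ ({i, j'} : Finset (Fin n)) := he2 ▸ mem_insert_of_mem (mem_singleton_self j)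
          rw [mem_insert, mem_singleton] at h'
          exact h'.resolve_left hj.1
    have hmem : f {k, l} ∈ S :=
      mem_filter.mpr ⟨mem_univ _, hpair (Finset.card_pair hlk.symm), hik ▸ hc k l hlk⟩
    rw [← hS] at hmem
    obtain ⟨j, hj, hje⟩ := Finset.mem_image.mp hmem
    rw [mem_erase] at hj
    have he2 := hfinj (Finset.card_pair hj.1.symm) (Finset.card_pair hlk.symm) hje
    have h' : i ∈ ({k, l} : Finset (Fin n)) := he2 ▸ mem_insert_self i _
    rw [mem_insert, mem_singleton] at h'
    rcases h' with h' | h'
    · exact hne h'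
    · exact hli h'.symm
  let π : Equiv.Perm (Fin n) :=
    Equiv.ofBijective c ((Fintype.bijective_iff_injective_and_card c).mpr ⟨hcinj, rfl⟩)
  refine ⟨π, ?_⟩
  suffices hgoal : ∀ m (t : Finset (Fin n)), t.card = 2 * m → A (vec t) = act π (vec t) by
    intro v hv
    obtain ⟨m, hm⟩ := (even_iff (supp v)).mp (by rw [vec_supp]; exact hv)
    have := hgoal m (supp v) (by omega)
    rwa [vec_supp] at this
  intro m
  induction m with
  | zero =>
    intro t ht
    rw [Finset.card_eq_zero.mp (by omega : t.card = 0),
      show vec (∅ : Finset (Fin n)) = 0 from funext fun i => by simp [vec], hA0]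
    rfl
  | succ m ih =>
    intro t ht
    obtain ⟨a, ha, b, hb, hab⟩ := Finset.one_lt_card.mp (by omega : 1 < t.card)
    set t' := (t.erase a).erase b with ht'
    have hbt : b ∈ t.erase a := mem_erase.mpr ⟨hab.symm, hb⟩
    have hct' : t'.card = 2 * m := by
      rw [ht', Finset.card_erase_of_mem hbt, Finset.card_erase_of_mem ha]; omega
    have hsum : vec t = vec {a, b} + vec t' := by
      funext l
      rcases eq_or_ne l a with rfl | hla
      · simp [vec, ha, ht', hab]
      rcases eq_or_ne l b with rfl | hlb
      · simp [vec, hb, ht', hla]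
      · simp [vec, ht', hla, hlb]
    have hpab : f {a, b} = {c a, c b} := by
      refine (Finset.eq_of_subset_of_card_le ?_ ?_).symm
      · intro x hx
        rw [mem_insert, mem_singleton] at hx
        rcases hx with rfl | rfl
        · exact hc a b hab.symm
        · rw [Finset.pair_comm]; exact hc b a hab
      · rw [hpair (Finset.card_pair hab), Finset.card_pair (hcinj.ne hab)]
    rw [hsum, hadd _ _ (he (Finset.card_pair hab)) ((even_iff _).mpr ⟨m, by omega⟩), ih t' hct', hf,
      hpab]
    have hmap : act π (vec {a, b}) = vec {c a, c b} := by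
      rw [act_vec, Finset.map_insert, Finset.map_singleton]; rfl
    rw [← hmap]
    rfl

end CfsgLib.BlockPair.AltNorm
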