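import Mathlib.GroupTheory.SpecificGroups.Alternating

/-!
# `m` three-cycles through one point generate the alternating group of degree `2m + 1`
-/

set_option autoImplicit false

open Equiv

namespace CfsgLib.BlockPair

variable {α : Type*} [DecidableEq α]

/-- The three-cycle `a ↦ b ↦ c ↦ a`. -/
def cyc (a b c : α) : Perm α := swap a b * swap b c

theorem cyc_apply_first {a b c : α} (hab : a ≠ b) (hac : a ≠ c) : cyc a b c a = b := by
  simp [cyc, swap_apply_of_ne_of_ne hab hac]

theorem cyc_apply_second {a b c : α} (hac : a ≠ c) (hbc : b ≠ c) : cyc a b c b = c := by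
  simp [cyc, swap_apply_of_ne_of_ne hac.symm hbc.symm]

theorem cyc_apply_third (a b c : α) : cyc a b c c = a := by simp [cyc]

theorem cyc_apply_other {a b c k : α} (ha : k ≠ a) (hb : k ≠ b) (hc : k ≠ c) : cyc a b c k = k := by
  simp [cyc, swap_apply_of_ne_of_ne hb hc, swap_apply_of_ne_of_ne ha hb]

theorem cyc_rotate {a b c : α} (hab : a ≠ b) (hac : a ≠ c) (hbc : b ≠ c) : cyc a b c = cyc b c a := by
  ext k
  rcases eq_or_ne k a with rfl | ha
  · rw [cyc_apply_first hab hac, cyc_apply_third]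
  rcases eq_or_ne k b with rfl | hb
  · rw [cyc_apply_second hac hbc, cyc_apply_first hbc hab.symm]
  rcases eq_or_ne k c with rfl | hc
  · rw [cyc_apply_third, cyc_apply_second hab.symm hac.symm]
  rw [cyc_apply_other ha hb hc, cyc_apply_other hb hc ha]

theorem cyc_inv {a b c : α} (hab : a ≠ b) (hac : a ≠ c) (hbc : b ≠ c) : (cyc a b c)⁻¹ = cyc a c b := by
  rw [cyc_rotate hab hac hbc]
  simp [cyc, swap_comm c a, swap_comm c b]

theorem conj_cyc (σ : Perm α) (a b c : α) : σ * cyc a b c * σ⁻¹ = cyc (σ a) (σ b) (σ c) := by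
  simp only [cyc, ← Equiv.mul_swap_eq_swap_mul, Equiv.swap_apply_apply]
  group

theorem cyc_mul_inv {x y a b : α} (hxy : x ≠ y) (hxa : x ≠ a) (hxb : x ≠ b) (hya : y ≠ a) (hyb : y ≠ b)
    (hab : a ≠ b) : cyc x a b * (cyc y a b)⁻¹ = cyc x a y := by
  rw [cyc_inv hya hyb hab]
  ext k
  rw [Perm.mul_apply]
  rcases eq_or_ne k y with rfl | hy
  · rw [cyc_apply_first hyb hya, cyc_apply_third, cyc_apply_third]
  rcases eq_or_ne k b with rfl | hb
  · rw [cyc_apply_second hya hab.symm, cyc_apply_second hxb hab,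
      cyc_apply_other hxb.symm hab.symm hy]
  rcases eq_or_ne k a with rfl | ha
  · rw [cyc_apply_third, cyc_apply_other hxy.symm hya hyb, cyc_apply_second hxy hya.symm]
  rw [cyc_apply_other hy hb ha]
  rcases eq_or_ne k x with rfl | hx
  · rw [cyc_apply_first ha hb, cyc_apply_first ha hy]
  rw [cyc_apply_other hx ha hb, cyc_apply_other hx ha hy]

theorem exists_eq_cyc [Fintype α] {σ : Perm α} (h : σ.IsThreeCycle) :
    ∃ a b c, a ≠ b ∧ a ≠ c ∧ b ≠ c ∧ σ = cyc a b c := by
  obtain ⟨a, ha⟩ : σ.support.Nonempty := Finset.card_pos.mp (by rw [h.card_support]; omega)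
  have hb := Perm.apply_mem_support.mpr ha
  have hc := Perm.apply_mem_support.mpr hb
  have hab : a ≠ σ a := (Perm.mem_support.mp ha).symm
  have hbc : σ a ≠ σ (σ a) := (Perm.mem_support.mp hb).symm
  have hord := h.orderOf
  have hac : a ≠ σ (σ a) := by
    intro he
    have h3 : σ (σ (σ a)) = a := by
      have h3 := DFunLike.congr_fun (pow_orderOf_eq_one σ) a
      rw [hord, pow_succ, pow_succ, pow_one, Perm.mul_apply, Perm.mul_apply] at h3
      exact h3
    rw [← he] at h3
    exact hab h3.symm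
  refine ⟨a, σ a, σ (σ a), hab, hac, hbc, Perm.ext fun k => ?_⟩
  have hs : ({a, σ a, σ (σ a)} : Finset α) = σ.support := Finset.eq_of_subset_of_card_le
    (by simp [Finset.insert_subset_iff, ha, hb, hc])
    (by rw [h.card_support]; simp [hab, hac, hbc])
  rcases eq_or_ne k a with rfl | hka
  · rw [cyc_apply_first hab hac]
  rcases eq_or_ne k (σ a) with rfl | hkb
  · rw [cyc_apply_second hac hbc]
  rcases eq_or_ne k (σ (σ a)) with rfl | hkc
  · rw [cyc_apply_third]
    have h3 := DFunLike.congr_fun (pow_orderOf_eq_one σ) a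
    rw [hord, pow_succ, pow_succ, pow_one, Perm.mul_apply, Perm.mul_apply] at h3
    exact h3
  rw [cyc_apply_other hka hkb hkc]
  refine Perm.notMem_support.mp fun hk => ?_
  rw [← hs] at hk
  simp [hka, hkb, hkc] at hk

/-- The star of three-cycles through `0`. -/
theorem alternatingGroup_le_closure_star (m : ℕ) :
    alternatingGroup (Fin (2 * m + 1)) ≤ Subgroup.closure (Set.range fun i : Fin m =>
      cyc (⟨0, by omega⟩ : Fin (2 * m + 1)) ⟨2 * i.1 + 1, by omega⟩ ⟨2 * i.1 + 2, by omega⟩) := by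
  set H := Subgroup.closure (Set.range fun i : Fin m =>
      cyc (⟨0, by omega⟩ : Fin (2 * m + 1)) ⟨2 * i.1 + 1, by omega⟩ ⟨2 * i.1 + 2, by omega⟩) with hH
  suffices key : ∀ k, k ≤ m → ∀ a b c : Fin (2 * m + 1), a ≠ b → a ≠ c → b ≠ c →
      a.1 ≤ 2 * k → b.1 ≤ 2 * k → c.1 ≤ 2 * k → cyc a b c ∈ H by
    rw [← Perm.closure_three_cycles_eq_alternating, Subgroup.closure_le]
    intro σ hσ
    obtain ⟨a, b, c, hab, hac, hbc, rfl⟩ := exists_eq_cyc hσ
    exact key m le_rfl a b c hab hac hbc (by omega) (by omega) (by omega)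
  intro k
  induction k with
  | zero =>
    intro _ a b c hab _ _ ha hb _
    exact absurd (Fin.ext (by omega)) hab
  | succ k ih =>
    intro hk
    have ih' := ih (by omega)
    set z : Fin (2 * m + 1) := ⟨0, by omega⟩ with hz
    set n1 : Fin (2 * m + 1) := ⟨2 * k + 1, by omega⟩ with hn1
    set n2 : Fin (2 * m + 1) := ⟨2 * k + 2, by omega⟩ with hn2
    have hnn : n1 ≠ n2 := by simp [hn1, hn2, Fin.ext_iff]
    have hold1 : ∀ x : Fin (2 * m + 1), x.1 ≤ 2 * k → x ≠ n1 := fun x hx h => by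
      rw [h, hn1] at hx; simp only at hx; omega
    have hold2 : ∀ x : Fin (2 * m + 1), x.1 ≤ 2 * k → x ≠ n2 := fun x hx h => by
      rw [h, hn2] at hx; simp only at hx; omega
    have hA : ∀ x : Fin (2 * m + 1), x.1 ≤ 2 * k → cyc x n1 n2 ∈ H := by
      intro x hx
      have h0 : cyc z n1 n2 ∈ H := Subgroup.subset_closure ⟨⟨k, by omega⟩, rfl⟩
      rcases eq_or_ne x z with rfl | hxz
      · exact h0
      have hx0 : x.1 ≠ 0 := fun h => hxz (Fin.ext h)
      obtain ⟨y, hy, hyx, hyz⟩ : ∃ y : Fin (2 * m + 1), y.1 ≤ 2 * k ∧ y ≠ x ∧ y ≠ z := by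
        by_cases hx1 : x.1 = 1
        · exact ⟨⟨2, by omega⟩, by simp only; omega, by simp [Fin.ext_iff, hx1], by simp [hz, Fin.ext_iff]⟩
        · exact ⟨⟨1, by omega⟩, by simp only; omega, by simp [Fin.ext_iff]; omega, by simp [hz, Fin.ext_iff]⟩
      have hσ : cyc z x y ∈ H := ih' z x y hxz.symm hyz.symm hyx.symm (by simp [hz]) hx hy
      have h := H.mul_mem (H.mul_mem hσ h0) (H.inv_mem hσ)
      rwa [conj_cyc, cyc_apply_first hxz.symm hyz.symm,
        cyc_apply_other (hold1 z (by simp [hz])).symm (hold1 x hx).symm (hold1 y hy).symm,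
        cyc_apply_other (hold2 z (by simp [hz])).symm (hold2 x hx).symm (hold2 y hy).symm] at h
    have hA' : ∀ x : Fin (2 * m + 1), x.1 ≤ 2 * k → cyc x n2 n1 ∈ H := fun x hx => by
      rw [← cyc_inv (hold1 x hx) (hold2 x hx) hnn]
      exact H.inv_mem (hA x hx)
    have hB : ∀ x y : Fin (2 * m + 1), x ≠ y → x.1 ≤ 2 * k → y.1 ≤ 2 * k →
        cyc x n1 y ∈ H ∧ cyc x n2 y ∈ H := by
      intro x y hxy hx hy
      refine ⟨?_, ?_⟩
      · rw [← cyc_mul_inv hxy (hold1 x hx) (hold2 x hx) (hold1 y hy) (hold2 y hy) hnn]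
        exact H.mul_mem (hA x hx) (H.inv_mem (hA y hy))
      · rw [← cyc_mul_inv hxy (hold2 x hx) (hold1 x hx) (hold2 y hy) (hold1 y hy) hnn.symm]
        exact H.mul_mem (hA' x hx) (H.inv_mem (hA' y hy))
    have hcase : ∀ a : Fin (2 * m + 1), a.1 ≤ 2 * (k + 1) → a.1 ≤ 2 * k ∨ a = n1 ∨ a = n2 := by
      intro a ha
      rcases (show a.1 ≤ 2 * k ∨ a.1 = 2 * k + 1 ∨ a.1 = 2 * k + 2 by omega) with h | h | h
      · exact Or.inl h
      · exact Or.inr (Or.inl (Fin.ext h))
      · exact Or.inr (Or.inr (Fin.ext h))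
    have hfirst : ∀ a b c : Fin (2 * m + 1), a ≠ b → a ≠ c → b ≠ c → a.1 ≤ 2 * k →
        b.1 ≤ 2 * (k + 1) → c.1 ≤ 2 * (k + 1) → cyc a b c ∈ H := by
      intro a b c hab hac hbc ha hb hc
      rcases hcase b hb with hb' | rfl | rfl <;> rcases hcase c hc with hc' | rfl | rfl
      · exact ih' a b c hab hac hbc ha hb' hc'
      · rw [cyc_rotate hab hac hbc]; exact (hB b a hab.symm hb' ha).1
      · rw [cyc_rotate hab hac hbc]; exact (hB b a hab.symm hb' ha).2
      · exact (hB a c hac ha hc').1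
      · exact absurd rfl hbc
      · exact hA a ha
      · exact (hB a c hac ha hc').2
      · exact hA' a ha
      · exact absurd rfl hbc
    intro a b c hab hac hbc ha hb hc
    rcases hcase a ha with h | h
    · exact hfirst a b c hab hac hbc h hb hc
    rcases hcase b hb with h' | h'
    · rw [cyc_rotate hab hac hbc]; exact hfirst b c a hbc hab.symm hac.symm h' hc ha
    rcases hcase c hc with h'' | h''
    · rw [cyc_rotate hab hac hbc, cyc_rotate hbc hab.symm hac.symm]
      exact hfirst c a b hac.symm hbc.symm hab h'' ha hb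
    exfalso
    rcases h with rfl | rfl <;> rcases h' with rfl | rfl <;> rcases h'' with rfl | rfl <;> simp_all

end CfsgLib.BlockPair
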