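import Cfsg.Agent.Lib.BlockPair.Orbit
import Cfsg.Agent.Lib.BlockPair.StarCycles
import Cfsg.Agent.Lib.Components.Subnormal

/-!
# A `p`-group normalizing a block fixes a vector of its module outside the fixed points of the block
-/

set_option autoImplicit false
set_option linter.unusedSectionVars false
set_option linter.style.haveILetI false

open Matrix
open scoped MatrixGroups commutatorElement

namespace CfsgLib.BlockPair

open CfsgLib.LocalEven CfsgLib.LocalEven.BBlock CfsgLib.BlockNorm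

variable {G : Type*} [Group G]

/-- A `p`-group normalizing a nontrivial `p`-group fixes a nontrivial element of it. -/
theorem exists_fixed_ne_one [Finite G] {p : ℕ} [Fact p.Prime] {W Y : Subgroup G} (hW : IsPGroup p W)
    (hY : IsPGroup p Y) (hn : Y ≤ Subgroup.normalizer (W : Set G)) (hne : W ≠ ⊥) :
    ∃ w ∈ W, w ≠ 1 ∧ ∀ y ∈ Y, y * w * y⁻¹ = w := by
  letI : MulAction Y W :=
    { smul := fun y w => ⟨(y : G) * w * (y : G)⁻¹, conj_mem' (hn y.2) w.2⟩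
      one_smul := fun w => Subtype.ext (show (1 : G) * w * (1 : G)⁻¹ = w by simp)
      mul_smul := fun y z w => Subtype.ext
        (show ((y * z : Y) : G) * w * ((y * z : Y) : G)⁻¹ = (y : G) * ((z : G) * w * (z : G)⁻¹) * (y : G)⁻¹ by
          simp [mul_assoc]) }
  have hdvd : p ∣ Nat.card W := by
    obtain ⟨k, hk⟩ := IsPGroup.iff_card.1 hW
    rcases k with _ | k
    · exact absurd (Subgroup.eq_bot_of_card_eq W (by simpa using hk)) hne
    · exact hk ▸ dvd_pow_self p (Nat.succ_ne_zero k)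
  obtain ⟨w, hw, hw1⟩ := hY.exists_fixed_point_of_prime_dvd_card_of_fixed_point W hdvd
    (a := 1) (fun y => Subtype.ext (show (y : G) * 1 * (y : G)⁻¹ = 1 by simp))
  exact ⟨w, w.2, fun h => hw1 (Subtype.ext h.symm), fun y hy => congrArg Subtype.val (hw ⟨y, hy⟩)⟩

/-- In `SL₂(2)` two commutators commute. -/
theorem commute_of_card_two {K : Type*} [Field K] [Fintype K] (h2 : Fintype.card K = 2)
    {g h : SpecialLinearGroup (Fin 2) K} (hg : g ∈ commutator (SpecialLinearGroup (Fin 2) K))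
    (hh : h ∈ commutator (SpecialLinearGroup (Fin 2) K)) : g * h = h * g := by
  let e : K ≃+* ZMod 2 := (ZMod.ringEquivOfPrime K Nat.prime_two h2).symm
  let f : SpecialLinearGroup (Fin 2) K →* SpecialLinearGroup (Fin 2) (ZMod 2) :=
    SpecialLinearGroup.map e.toRingHom
  have hf : Function.Injective f := fun a b hab => Subtype.ext (Matrix.ext fun i j => e.injective
    (congrFun (congrFun (congrArg Subtype.val hab) i) j))
  have hcomm : ∀ a b : SpecialLinearGroup (Fin 2) (ZMod 2), a * a * a = 1 → b * b * b = 1 →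
      a * b = b * a := by decide
  let S : Subgroup (SpecialLinearGroup (Fin 2) (ZMod 2)) :=
    { carrier := {g | g * g * g = 1}
      one_mem' := by simp
      mul_mem' := fun {a b} ha hb => by
        have hc : Commute a b := hcomm a b ha hb
        show a * b * (a * b) * (a * b) = 1
        rw [← pow_two, ← pow_succ, hc.mul_pow, pow_succ, pow_two, pow_succ, pow_two, ha, hb, one_mul]
      inv_mem' := fun {a} ha => by
        show a⁻¹ * a⁻¹ * a⁻¹ = 1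
        rw [← _root_.mul_inv_rev, ← _root_.mul_inv_rev, inv_eq_one, ← mul_assoc]
        exact ha }
  have hle : commutator (SpecialLinearGroup (Fin 2) (ZMod 2)) ≤ S := by
    rw [commutator_def, Subgroup.commutator_le]
    intro a _ b _
    exact (by decide : ∀ a b : SpecialLinearGroup (Fin 2) (ZMod 2), ⁅a, b⁆ * ⁅a, b⁆ * ⁅a, b⁆ = 1) a b
  have hmem : ∀ x ∈ commutator (SpecialLinearGroup (Fin 2) K), f x ∈ S := fun x hx => hle (by
    have h := Subgroup.mem_map_of_mem f hx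
    rw [commutator_def, Subgroup.map_commutator] at h
    exact Subgroup.commutator_mono le_top le_top h)
  exact hf (by rw [map_mul, map_mul]; exact hcomm _ _ (hmem g hg) (hmem h hh))

variable [Finite G] {p : ℕ} [Fact p.Prime]
  (hG : Subgroup.centralizer (Cfsg.pCore p G : Set G) ≤ Cfsg.pCore p G)

include hG

/-- If an element outside `O_p(E)` is central modulo it, the module has no fixed points. -/
theorem fixed_eq_bot_of_central {E : Subgroup G} (hE : IsBlock p E) {x : G} (hx : x ∈ E)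
    (hxQ : x ∉ bQ p E) (hc : ∀ y ∈ E, x⁻¹ * (y * x * y⁻¹) ∈ bQ p E) :
    bW p E ⊓ Subgroup.centralizer (E : Set G) = ⊥ := by
  have hEW := le_normalizer_bW hE
  have hcomm : ∀ a ∈ bW p E, ∀ b ∈ bW p E, Commute a b := fun a ha b hb =>
    bV_comm (bW_le_bV hE ha) (bW_le_bV hE hb)
  have hequiv : ∀ y ∈ E, ∀ w ∈ bW p E,
      x * (y * w * y⁻¹) * x⁻¹ * (y * w * y⁻¹)⁻¹ = y * (x * w * x⁻¹ * w⁻¹) * y⁻¹ := by
    intro y hy w hw
    set u := y * w * y⁻¹ with hu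
    have h3 : (x⁻¹ * (y * x * y⁻¹)) * u * (x⁻¹ * (y * x * y⁻¹))⁻¹ = u := by
      rw [← bQ_le_centralizer_bW hE hG (hc y hy) u (conj_mem' (hEW hy) hw), mul_inv_cancel_right]
    have h6 : x * u * x⁻¹ = y * (x * w * x⁻¹) * y⁻¹ := by
      calc x * u * x⁻¹ = x * ((x⁻¹ * (y * x * y⁻¹)) * u * (x⁻¹ * (y * x * y⁻¹))⁻¹) * x⁻¹ := by rw [h3]
        _ = _ := by rw [hu]; group
    rw [h6, hu]
    group
  let γ := commOn hcomm x le_rfl fun w hw => mul_mem (conj_mem' (hEW hx) hw) (inv_mem hw)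
  -- elements with commutator fixed by `E` are fixed by `E`
  let L : Subgroup G :=
    (((Subgroup.centralizer (E : Set G)).subgroupOf (bW p E)).comap γ).map (bW p E).subtype
  have hL : L ≤ Subgroup.centralizer (E : Set G) := by
    by_contra hne
    have hLn : E ≤ Subgroup.normalizer (L : Set G) := fun y hy => mem_normalizer_of_le (by
      rintro _ ⟨v, hv, rfl⟩
      refine ⟨⟨y * v * y⁻¹, conj_mem' (hEW hy) v.2⟩, ?_, rfl⟩
      show x * (y * v * y⁻¹) * x⁻¹ * (y * v * y⁻¹)⁻¹ ∈ Subgroup.centralizer (E : Set G)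
      rw [hequiv y hy v v.2]
      exact conj_centralizer_mem (Subgroup.le_normalizer hy) hv)
    refine hxQ (faithfulW hE hG hx fun w hw => ?_)
    obtain ⟨v, hv, rfl⟩ := (irredW hE hG (L := L) (Subgroup.map_subtype_le _) hLn hne).ge hw
    exact hv
  have htop : γ.range.map (bW p E).subtype = bW p E := by
    refine irredW hE hG (Subgroup.map_subtype_le _) (fun y hy => mem_normalizer_of_le ?_) fun h => ?_
    · rintro _ ⟨_, ⟨v, rfl⟩, rfl⟩
      exact ⟨_, ⟨⟨y * v * y⁻¹, conj_mem' (hEW hy) v.2⟩, rfl⟩, hequiv y hy v v.2⟩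
    · exact bW_not_le_centralizer hE hG fun w hw =>
        hL ⟨⟨w, hw⟩, h ⟨_, ⟨⟨w, hw⟩, rfl⟩, rfl⟩, rfl⟩
  rw [Subgroup.eq_bot_iff_forall]
  intro v hv
  obtain ⟨_, ⟨w, rfl⟩, rfl⟩ := htop.ge hv.1
  have h := hL ⟨w, hv.2, rfl⟩
  have h' : x * (w : G) = w * x := h x hx
  show x * w * x⁻¹ * (w : G)⁻¹ = 1
  rw [h']
  simp

/-- Alternating blocks have no fixed points on the module. -/
theorem fixed_eq_bot_alt {E : Subgroup G} (hE : IsBlock p E) (hp : p = 2) {m : ℕ}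
    (hact : Cfsg.ActsAsOddPermModuleOnSection (2 * m + 1) (alternatingGroup (Fin (2 * m + 1))) E
      (bV p E) (bV p E ⊓ Subgroup.centralizer (E : Set G))) :
    bW p E ⊓ Subgroup.centralizer (E : Set G) = ⊥ := by
  classical
  subst hp
  obtain ⟨φ, ρ, hφ, hφker, hρ, hφeq⟩ := exists_coords_alt hG hE hact
  have hEW := le_normalizer_bW hE
  have hcomm : ∀ a ∈ bW 2 E, ∀ b ∈ bW 2 E, Commute a b := fun a ha b hb =>
    bV_comm (bW_le_bV hE ha) (bW_le_bV hE hb)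
  let a0 : Fin (2 * m + 1) := ⟨0, by omega⟩
  let ai : Fin m → Fin (2 * m + 1) := fun i => ⟨2 * i.1 + 1, by omega⟩
  let bi : Fin m → Fin (2 * m + 1) := fun i => ⟨2 * i.1 + 2, by omega⟩
  have hdist : ∀ i, a0 ≠ ai i ∧ a0 ≠ bi i ∧ ai i ≠ bi i := fun i =>
    ⟨by simp [a0, ai, Fin.ext_iff], by simp [a0, bi, Fin.ext_iff], by simp [ai, bi, Fin.ext_iff]⟩
  have hmem : ∀ i, cyc a0 (ai i) (bi i) ∈ ρ.range := fun i => by
    rw [hρ, Equiv.Perm.mem_alternatingGroup, cyc, map_mul, Equiv.Perm.sign_swap (hdist i).1,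
      Equiv.Perm.sign_swap (hdist i).2.2]
    rfl
  -- lifts of order prime to `2`
  have hlift : ∀ i, ∃ y : ↥E, ρ y = cyc a0 (ai i) (bi i) ∧ (orderOf (y : G)).Coprime 2 := by
    intro i
    obtain ⟨x, hx⟩ := hmem i
    obtain ⟨j, r, hr, hord⟩ := Nat.exists_eq_pow_mul_and_not_dvd (orderOf_pos (x : G)).ne' 2 (by norm_num)
    refine ⟨x ^ 4 ^ j, ?_, ?_⟩
    · have h3 : cyc a0 (ai i) (bi i) ^ 3 = 1 := by
        obtain ⟨h1, h2, h3⟩ := hdist i
        ext k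
        rw [pow_succ, pow_succ, pow_one, Equiv.Perm.mul_apply, Equiv.Perm.mul_apply, Equiv.Perm.one_apply]
        rcases eq_or_ne k a0 with rfl | ha
        · rw [cyc_apply_first h1 h2, cyc_apply_second h2 h3, cyc_apply_third]
        rcases eq_or_ne k (ai i) with rfl | hb
        · rw [cyc_apply_second h2 h3, cyc_apply_third, cyc_apply_first h1 h2]
        rcases eq_or_ne k (bi i) with rfl | hc
        · rw [cyc_apply_third, cyc_apply_first h1 h2, cyc_apply_second h2 h3]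
        rw [cyc_apply_other ha hb hc, cyc_apply_other ha hb hc, cyc_apply_other ha hb hc]
      obtain ⟨k, hk⟩ : 3 ∣ 4 ^ j - 1 := by simpa using Nat.sub_dvd_pow_sub_pow 4 1 j
      have h4 : 4 ^ j = 3 * k + 1 := by
        have : 1 ≤ 4 ^ j := Nat.one_le_pow _ _ (by norm_num)
        omega
      rw [map_pow, hx, h4, pow_succ, pow_mul, h3, one_pow, one_mul]
    · refine Nat.Coprime.coprime_dvd_left (orderOf_dvd_of_pow_eq_one ?_)
        ((Nat.prime_two.coprime_iff_not_dvd.mpr hr).symm)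
      rw [SubmonoidClass.coe_pow, ← pow_mul]
      refine orderOf_dvd_iff_pow_eq_one.mp ?_
      rw [hord]
      refine Nat.mul_dvd_mul ?_ dvd_rfl
      rw [show 4 ^ j = 2 ^ j * 2 ^ j by rw [← mul_pow]; norm_num]
      exact dvd_mul_right _ _
  choose y hy hycop using hlift
  let γ : Fin m → ↥(bW 2 E) →* ↥(bW 2 E) := fun i => commOn hcomm (y i : G) le_rfl fun w hw =>
    mul_mem (conj_mem' (hEW (y i).2) hw) (inv_mem hw)
  let R : Fin m → Subgroup G := fun i => (γ i).range.map (bW 2 E).subtype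
  have hRW : ∀ i, R i ≤ bW 2 E := fun i => Subgroup.map_subtype_le _
  have hR4 : ∀ i, Nat.card ↥(R i) ≤ 4 := by
    intro i
    rw [Subgroup.card_map_of_injective (bW 2 E).subtype_injective]
    have hsupp : ∀ (s : ↥(bW 2 E)) k, k ≠ a0 → k ≠ ai i → k ≠ bi i → (φ (γ i s)).toAdd k = 0 := by
      intro s k h0 h1 h2
      rw [show γ i s = ⟨_, conj_mem' (hEW (y i).2) s.2⟩ * s⁻¹ from rfl, map_mul, map_inv, toAdd_mul,
        toAdd_inv, Pi.add_apply, Pi.neg_apply, hφeq (y i) s k, hy i,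
        Equiv.Perm.inv_eq_iff_eq.mpr (cyc_apply_other h0 h1 h2).symm]
      exact add_neg_cancel _
    refine le_trans (Nat.card_le_card_of_injective
      (fun u : ↥(γ i).range => (((φ u.1).toAdd (ai i), (φ u.1).toAdd (bi i)) : ZMod 2 × ZMod 2))
      fun u v huv => ?_) (by rw [Nat.card_prod, Nat.card_zmod])
    obtain ⟨_, s, rfl⟩ := u
    obtain ⟨_, t, rfl⟩ := v
    simp only [Prod.mk.injEq] at huv
    have hzero : φ (γ i (s * t⁻¹)) = 1 := by
      refine Multiplicative.toAdd.injective (funext fun k => ?_)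
      have hk : ∀ k, k ≠ a0 → (φ (γ i (s * t⁻¹))).toAdd k = 0 := by
        intro k h0
        by_cases h1 : k = ai i
        · rw [h1, map_mul, map_inv, map_mul, map_inv, toAdd_mul, toAdd_inv, Pi.add_apply, Pi.neg_apply,
            huv.1, add_neg_cancel]
        by_cases h2 : k = bi i
        · rw [h2, map_mul, map_inv, map_mul, map_inv, toAdd_mul, toAdd_inv, Pi.add_apply, Pi.neg_apply,
            huv.2, add_neg_cancel]
        exact hsupp _ k h0 h1 h2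
      rcases eq_or_ne k a0 with rfl | h0
      · have hev := (hφ _).mp ⟨γ i (s * t⁻¹), rfl⟩
        rw [Finset.sum_eq_single_of_mem a0 (Finset.mem_univ _) fun j _ hj => hk j hj] at hev
        exact hev
      · exact hk k h0
    have hc : ((γ i (s * t⁻¹)) : G) ∈ Subgroup.centralizer (E : Set G) := (hφker _).mp hzero
    have hfix := fixed_of_stable (o := ((s * t⁻¹ : ↥(bW 2 E)) : G)) (hycop i) (hc _ (y i).2)
      ((bV_isEA 2 E).2 _ (bW_le_bV hE (γ i (s * t⁻¹)).2))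
    have h1 : γ i (s * t⁻¹) = 1 := Subtype.ext (mul_inv_eq_one.mpr hfix)
    rw [map_mul, map_inv, mul_inv_eq_one] at h1
    exact Subtype.ext h1
  -- they generate the module
  set X := ⨆ i, R i with hX
  have hXW : X ≤ bW 2 E := iSup_le hRW
  have hgen : bW 2 E ≤ X := by
    let S : Subgroup G :=
      { carrier := {g | g ∈ E ∧ ∀ w ∈ bW 2 E, g * w * g⁻¹ * w⁻¹ ∈ X}
        one_mem' := ⟨one_mem _, fun w _ => by simp⟩
        mul_mem' := fun {a b} ha hb => ⟨mul_mem ha.1 hb.1, fun w hw => by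
          rw [show a * b * w * (a * b)⁻¹ * w⁻¹ = (a * (b * w * b⁻¹) * a⁻¹ * (b * w * b⁻¹)⁻¹) *
            (b * w * b⁻¹ * w⁻¹) by group]
          exact mul_mem (ha.2 _ (conj_mem' (hEW hb.1) hw)) (hb.2 w hw)⟩
        inv_mem' := fun {a} ha => ⟨inv_mem ha.1, fun w hw => by
          have h := inv_mem (ha.2 _ (conj_mem' (hEW (inv_mem ha.1)) hw))
          rwa [show (a * (a⁻¹ * w * a⁻¹⁻¹) * a⁻¹ * (a⁻¹ * w * a⁻¹⁻¹)⁻¹)⁻¹ =
            a⁻¹ * w * a⁻¹⁻¹ * w⁻¹ by group] at h⟩ }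
    have hyS : ∀ i, (y i : G) ∈ S := fun i => ⟨(y i).2, fun w hw => Subgroup.mem_iSup_of_mem i
      ⟨γ i ⟨w, hw⟩, ⟨_, rfl⟩, rfl⟩⟩
    have hQS : ∀ q ∈ bQ 2 E, q ∈ S := fun q hq => ⟨bQ_le 2 E hq, fun w hw => by
      rw [← bQ_le_centralizer_bW hE hG hq w hw, mul_inv_cancel_right, mul_inv_cancel]
      exact one_mem _⟩
    have hall : alternatingGroup (Fin (2 * m + 1)) ≤ (S.subgroupOf E).map ρ := by
      refine (alternatingGroup_le_closure_star m).trans ((Subgroup.closure_le _).mpr ?_)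
      rintro _ ⟨i, rfl⟩
      exact ⟨y i, hyS i, hy i⟩
    have hES : E ≤ S := by
      intro x hx
      obtain ⟨i, hi, hix⟩ := hall (hρ ▸ ⟨⟨x, hx⟩, rfl⟩ : ρ ⟨x, hx⟩ ∈ alternatingGroup (Fin (2 * m + 1)))
      have hq : ((i⁻¹ * ⟨x, hx⟩ : ↥E) : G) ∈ bQ 2 E := by
        refine faithfulW hE hG (Subtype.prop _) fun v hv => ?_
        refine (hφker (⟨_, conj_mem' (hEW (Subtype.prop _)) hv⟩ * (⟨v, hv⟩ : ↥(bW 2 E))⁻¹)).mp ?_
        rw [map_mul, map_inv, mul_inv_eq_one]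
        refine Multiplicative.toAdd.injective (funext fun k => ?_)
        rw [hφeq (i⁻¹ * ⟨x, hx⟩) ⟨v, hv⟩ k, map_mul, map_inv, hix, inv_mul_cancel, inv_one,
          Equiv.Perm.one_apply]
      have h := mul_mem (Subgroup.mem_subgroupOf.mp hi) (hQS _ hq)
      simpa using h
    conv_lhs => rw [← commutator_bW hE hG]
    refine Subgroup.commutator_le.mpr fun w hw x hx => ?_
    have h := inv_mem ((hES hx).2 w hw)
    rw [commutatorElement_def, show w * x * w⁻¹ * x⁻¹ = (x * w * x⁻¹ * w⁻¹)⁻¹ by group]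
    exact h
  -- counting
  have hcard : ∀ s : Finset (Fin m), Nat.card ↥(s.sup R) ≤ 4 ^ s.card := by
    intro s
    induction s using Finset.induction with
    | empty => simp
    | insert i s hi ih =>
      rw [Finset.sup_insert, Finset.card_insert_of_notMem hi, pow_succ']
      refine le_trans (Nat.le_of_dvd (Nat.mul_pos Nat.card_pos Nat.card_pos)
        (CfsgLib.Components.card_sup_dvd fun a ha => mem_normalizer_of_le fun b hb => ?_))
        (Nat.mul_le_mul (hR4 i) ih)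
      rwa [(hcomm a (hRW i ha) b ((Finset.sup_le fun j _ => hRW j) hb)).eq, mul_inv_cancel_right]
  have h1 : Nat.card ↥(bW 2 E) ≤ 4 ^ m := by
    refine le_trans (Subgroup.card_le_of_le (hgen.trans (iSup_le fun i =>
      Finset.le_sup (Finset.mem_univ i)))) ?_
    simpa using hcard Finset.univ
  have h2 : 4 ^ m ≤ uCard 2 E := by
    rw [uCard_eq φ hφker]
    refine le_trans (le_of_eq ?_) (Nat.card_le_card_of_surjective
      (fun u : ↥φ.range => fun k : Fin (2 * m) => u.1.toAdd k.succ) fun v => ?_)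
    · rw [Nat.card_fun, Nat.card_zmod, Nat.card_eq_fintype_card, Fintype.card_fin, pow_mul]
      norm_num
    · obtain ⟨w, hw⟩ := (hφ (Fin.cons (∑ k, v k) v)).mpr (by
        rw [Fin.sum_univ_succ]
        simp only [Fin.cons_zero, Fin.cons_succ]
        exact CharTwo.add_self_eq_zero _)
      exact ⟨⟨φ w, w, rfl⟩, funext fun k => by
        show (φ w).toAdd k.succ = v k
        rw [hw, Fin.cons_succ]⟩
  set D := bW 2 E ⊓ Subgroup.centralizer (E : Set G) with hD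
  have h3 : Nat.card ↥D * uCard 2 E = Nat.card ↥(bW 2 E) := by
    rw [← Nat.card_congr (Subgroup.subgroupOfEquivOfLe (inf_le_left : D ≤ bW 2 E)).toEquiv, uCard,
      Subgroup.relIndex, Subgroup.card_mul_index]
  have hpos : 0 < uCard 2 E := Nat.pos_of_ne_zero Subgroup.index_ne_zero_of_finite
  exact Subgroup.eq_bot_of_card_eq D (by nlinarith [Nat.card_pos (α := ↥D)])

/-- For a block over `𝔽_q` with `q ≥ 4` even: fixed vectors modulo `C_W(E)` lift. -/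
theorem exists_fixed_lift_sl2 {E S : Subgroup G} (hE : IsBlock p E) (hp : p = 2) {K : Type*} [Field K]
    [Fintype K] [CharP K 2] (h4 : 4 ≤ Fintype.card K)
    (hiso : Nonempty (↥E ⧸ Cfsg.pCore p ↥E ≃* ↥(commutator (SpecialLinearGroup (Fin 2) K))))
    (hact : Cfsg.ActsAsSL2OnSection K (commutator (SpecialLinearGroup (Fin 2) K)) E (bV p E)
      (bV p E ⊓ Subgroup.centralizer (E : Set G)))
    (hSE : S ≤ Subgroup.normalizer (E : Set G)) {v0 : G} (hv0 : v0 ∈ bW p E)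
    (hv0C : v0 ∉ Subgroup.centralizer (E : Set G))
    (hS : ∀ s ∈ S, s * v0 * s⁻¹ * v0⁻¹ ∈ Subgroup.centralizer (E : Set G)) :
    ∃ w ∈ bW p E, v0⁻¹ * w ∈ Subgroup.centralizer (E : Set G) ∧ ∀ s ∈ S, s * w * s⁻¹ = w := by
  classical
  subst hp
  set W := bW 2 E with hW
  obtain ⟨φ0, ρ0, hφ0, hφker0, hρ0, hρker0, hφeq0⟩ := exists_coords_sl2 hG hE hiso hact
  have hEW : E ≤ Subgroup.normalizer (W : Set G) := le_normalizer_bW hE
  have hWsq : ∀ w ∈ W, w * w = 1 := fun w hw => by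
    rw [← pow_two]; exact (bV_isEA 2 E).2 w (bW_le_bV hE hw)
  have hcomm : ∀ a ∈ W, ∀ b ∈ W, Commute a b := fun a ha b hb =>
    bV_comm (bW_le_bV hE ha) (bW_le_bV hE hb)
  set v : Fin 2 → K := (φ0 ⟨v0, hv0⟩).toAdd with hvdef
  have hvne : v ≠ 0 := fun h => hv0C ((hφker0 ⟨v0, hv0⟩).mp (Multiplicative.toAdd.injective h))
  obtain ⟨c, hc⟩ : ∃ c : SpecialLinearGroup (Fin 2) K, (c : Matrix (Fin 2) (Fin 2) K).mulVec ![1, 0] = v := by
    by_cases hv1 : v 0 = 0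
    · have hv2 : v 1 ≠ 0 := fun h => hvne (funext fun i => by fin_cases i <;> simp [hv1, h])
      refine ⟨⟨!![v 0, -(v 1)⁻¹; v 1, 0], by simp [det_fin_two_of, hv2]⟩, ?_⟩
      ext i; fin_cases i <;> simp [mulVec, dotProduct, Fin.sum_univ_two]
    · refine ⟨⟨!![v 0, 0; v 1, (v 0)⁻¹], by simp [det_fin_two_of, hv1]⟩, ?_⟩
      ext i; fin_cases i <;> simp [mulVec, dotProduct, Fin.sum_univ_two]
  -- change of coordinates
  let ρ : ↥E →* SpecialLinearGroup (Fin 2) K := (MulAut.conj c⁻¹).toMonoidHom.comp ρ0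
  let φ : ↥W → (Fin 2 → K) := fun w =>
    ((c⁻¹ : SpecialLinearGroup (Fin 2) K) : Matrix (Fin 2) (Fin 2) K).mulVec (φ0 w).toAdd
  have hφadd : ∀ a b : ↥W, φ (a * b) = φ a + φ b := fun a b => by
    simp only [φ, map_mul, toAdd_mul, mulVec_add]
  have hφsub : ∀ a b : ↥W, φ (a * b⁻¹) = φ a - φ b := fun a b => by
    simp only [φ, map_mul, map_inv, toAdd_mul, toAdd_inv, mulVec_add, mulVec_neg, sub_eq_add_neg]
  have hφker : ∀ w : ↥W, φ w = 0 ↔ (w : G) ∈ Subgroup.centralizer (E : Set G) := fun w => by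
    refine ⟨fun h => (hφker0 w).mp (Multiplicative.toAdd.injective ?_), fun h => ?_⟩
    · have h2 := congrArg (fun u => (c : Matrix (Fin 2) (Fin 2) K).mulVec u) h
      simp only [φ, mulVec_zero] at h2
      rw [← mulVec_mul, mul_inv_cancel, mulVec_one'] at h2
      exact h2
    · show ((c⁻¹ : SpecialLinearGroup (Fin 2) K) : Matrix (Fin 2) (Fin 2) K).mulVec (φ0 w).toAdd = 0
      rw [(hφker0 w).mpr h, toAdd_one, mulVec_zero]
  have hφsurj : ∀ u, ∃ w : ↥W, φ w = u := fun u => by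
    obtain ⟨w, hw⟩ := hφ0 (Multiplicative.ofAdd ((c : Matrix (Fin 2) (Fin 2) K).mulVec u))
    refine ⟨w, ?_⟩
    show ((c⁻¹ : SpecialLinearGroup (Fin 2) K) : Matrix (Fin 2) (Fin 2) K).mulVec (φ0 w).toAdd = u
    rw [hw, toAdd_ofAdd, ← mulVec_mul, inv_mul_cancel, mulVec_one']
  have hφeq : ∀ (x : ↥E) (w : ↥W), φ ⟨(x : G) * w * (x : G)⁻¹, conj_mem' (hEW x.2) w.2⟩ =
      (ρ x : Matrix (Fin 2) (Fin 2) K).mulVec (φ w) := fun x w => by
    show ((c⁻¹ : SpecialLinearGroup (Fin 2) K) : Matrix (Fin 2) (Fin 2) K).mulVec (φ0 _).toAdd =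
      ((c⁻¹ * ρ0 x * c⁻¹⁻¹ : SpecialLinearGroup (Fin 2) K) : Matrix (Fin 2) (Fin 2) K).mulVec
        (((c⁻¹ : SpecialLinearGroup (Fin 2) K) : Matrix (Fin 2) (Fin 2) K).mulVec (φ0 w).toAdd)
    rw [hφeq0 x w, ← mulVec_mul, ← mulVec_mul, inv_inv,
      show c⁻¹ * ρ0 x * c * c⁻¹ = c⁻¹ * ρ0 x by group]
  have hρker : ∀ x : ↥E, ρ x = 1 ↔ (x : G) ∈ bQ 2 E := fun x => by
    rw [← hρker0]
    exact (map_eq_one_iff _ (MulAut.conj c⁻¹).injective)
  have hρsurj : Function.Surjective ρ := fun r => by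
    obtain ⟨x, hx⟩ : c * r * c⁻¹ ∈ ρ0.range := by
      rw [hρ0, commutator_eq_top h4]; exact Subgroup.mem_top _
    exact ⟨x, by show c⁻¹ * ρ0 x * c⁻¹⁻¹ = r; rw [hx]; group⟩
  -- elements fixing the first basis vector are translations
  have hshape : ∀ r : SpecialLinearGroup (Fin 2) K, r.1 0 0 = 1 → r.1 1 0 = 0 →
      r = CfsgLib.RootSub.slU (r.1 0 1) := by
    intro r h00 h10
    have hd := r.2
    rw [det_fin_two, h00, h10, one_mul, mul_zero, sub_zero] at hd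
    refine Subtype.ext (Matrix.ext fun i j => ?_)
    fin_cases i <;> fin_cases j <;> simp [CfsgLib.RootSub.slU_val, h00, h10, hd]
  let L : Subgroup G := ({
      carrier := {w : ↥W | φ w 1 = 0}
      one_mem' := by
        show φ 1 1 = 0
        rw [(hφker 1).mpr (one_mem _)]; rfl
      mul_mem' := fun {a b} (ha : φ a 1 = 0) (hb : φ b 1 = 0) => by
        show φ (a * b) 1 = 0
        rw [hφadd, Pi.add_apply, ha, hb, add_zero]
      inv_mem' := fun {a} (ha : φ a 1 = 0) => by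
        show φ a⁻¹ 1 = 0
        have h := hφsub 1 a
        rw [one_mul] at h
        rw [h, Pi.sub_apply, ha, (hφker 1).mpr (one_mem _)]; simp } : Subgroup ↥W).map W.subtype
  have hLW : L ≤ W := Subgroup.map_subtype_le _
  -- translations fix `L`
  have hfix : ∀ (b : ↥E) (t : K), ρ b = CfsgLib.RootSub.slU t → ∀ l ∈ L, (b : G) * l * (b : G)⁻¹ = l := by
    rintro b t hb _ ⟨l, hl, rfl⟩
    have hl0 : φ l 1 = 0 := hl
    by_cases ht : t = 0
    · rw [ht, CfsgLib.RootSub.slU_zero, hρker] at hb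
      show (b : G) * l * (b : G)⁻¹ = l
      rw [← bQ_le_centralizer_bW hE hG hb l l.2, mul_inv_cancel_right]
    obtain ⟨w, hw⟩ := hφsurj ![0, φ l 0 / t]
    set cw : ↥W := ⟨_, conj_mem' (hEW b.2) w.2⟩ * w⁻¹ with hcw
    have hd : ((cw⁻¹ * l : ↥W) : G) ∈ Subgroup.centralizer (E : Set G) := by
      refine (hφker _).mp ?_
      rw [show cw⁻¹ * l = l * cw⁻¹ from Subtype.ext (hcomm _ (cw⁻¹).2 _ l.2).eq, hφsub, hcw, hφsub,
        hφeq, hb, hw]
      ext i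
      fin_cases i <;> simp [CfsgLib.RootSub.slU_val, vecHead, vecTail, hl0, div_mul_cancel₀ _ ht]
    have hbb : ((b * b : ↥E) : G) ∈ bQ 2 E := (hρker _).mp (by
      rw [map_mul, hb, ← CfsgLib.RootSub.slU_add, CharTwo.add_self_eq_zero, CfsgLib.RootSub.slU_zero])
    have hcfix : (b : G) * cw * (b : G)⁻¹ = cw := by
      show (b : G) * ((b : G) * w * (b : G)⁻¹ * (w : G)⁻¹) * (b : G)⁻¹ = (b : G) * w * (b : G)⁻¹ * (w : G)⁻¹
      have h1 : ((b : G) * b) * w * ((b : G) * b)⁻¹ = (w : G) := by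
        have h5 : (w : G) * ((b : G) * b) = ((b : G) * b) * w := bQ_le_centralizer_bW hE hG hbb w w.2
        rw [← h5, mul_inv_cancel_right]
      calc (b : G) * ((b : G) * w * (b : G)⁻¹ * (w : G)⁻¹) * (b : G)⁻¹
          = ((b : G) * b) * w * ((b : G) * b)⁻¹ * ((b : G) * w * (b : G)⁻¹)⁻¹ := by group
        _ = ((b : G) * w * (b : G)⁻¹ * (w : G)⁻¹)⁻¹ := by rw [h1]; group
        _ = _ := inv_eq_of_mul_eq_one_right
            (hWsq _ (W.mul_mem (conj_mem' (hEW b.2) w.2) (W.inv_mem w.2)))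
    show (b : G) * l * (b : G)⁻¹ = l
    have e : (l : G) = (cw : G) * ((cw⁻¹ * l : ↥W) : G) := by simp
    rw [e, show (b : G) * ((cw : G) * ((cw⁻¹ * l : ↥W) : G)) * (b : G)⁻¹ =
      (b : G) * cw * (b : G)⁻¹ * ((b : G) * ((cw⁻¹ * l : ↥W) : G) * (b : G)⁻¹) by group, hcfix,
      hd _ b.2, mul_inv_cancel_right]
  have hv0φ : φ ⟨v0, hv0⟩ = ![1, 0] := by
    show ((c⁻¹ : SpecialLinearGroup (Fin 2) K) : Matrix (Fin 2) (Fin 2) K).mulVec v = _
    rw [← hc, ← mulVec_mul, inv_mul_cancel, mulVec_one']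
  have hv0L : v0 ∈ L := ⟨⟨v0, hv0⟩, show φ ⟨v0, hv0⟩ 1 = 0 by rw [hv0φ]; simp, rfl⟩
  -- the stabilizer of the class of `v0`
  let U : Set G := {x | x ∈ E ∧ x * v0 * x⁻¹ * v0⁻¹ ∈ Subgroup.centralizer (E : Set G)}
  have hUshape : ∀ u : ↥E, (u : G) ∈ U → ρ u = CfsgLib.RootSub.slU ((ρ u).1 0 1) := by
    intro u hu
    have h1 := (hφker (⟨_, conj_mem' (hEW u.2) hv0⟩ * (⟨v0, hv0⟩ : ↥W)⁻¹)).mpr hu.2
    rw [hφsub, hφeq u ⟨v0, hv0⟩, sub_eq_zero, hv0φ] at h1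
    exact hshape _ (by simpa [mulVec, dotProduct, Fin.sum_univ_two] using congrFun h1 0)
      (by simpa [mulVec, dotProduct, Fin.sum_univ_two] using congrFun h1 1)
  obtain ⟨⟨u0, hu0E⟩, hu0⟩ := hρsurj (CfsgLib.RootSub.slU 1)
  have hu0U : u0 ∈ U := ⟨hu0E, (hφker (⟨_, conj_mem' (hEW hu0E) hv0⟩ * (⟨v0, hv0⟩ : ↥W)⁻¹)).mp (by
    rw [hφsub, hφeq ⟨u0, hu0E⟩ ⟨v0, hv0⟩, sub_eq_zero, hv0φ, hu0]
    ext i
    fin_cases i <;> simp [CfsgLib.RootSub.slU_val, mulVec, dotProduct, Fin.sum_univ_two])⟩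
  have hu0Q : u0 ∉ bQ 2 E := fun h => by
    have h1 := (hρker ⟨u0, hu0E⟩).mpr h
    rw [hu0, ← CfsgLib.RootSub.slU_zero] at h1
    exact one_ne_zero (CfsgLib.RootSub.slU_inj h1)
  have hSW : S ≤ Subgroup.normalizer (W : Set G) := hSE.trans (normalizer_le_normalizer_bW E)
  have hSU : ∀ s ∈ S, ∀ u ∈ U, s⁻¹ * u * s ∈ U := by
    intro s hs u hu
    refine ⟨by simpa using conj_mem' (inv_mem (hSE hs)) hu.1, ?_⟩
    -- `s` fixes the class
    set d := s * v0 * s⁻¹ * v0⁻¹ with hd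
    have hdC : d ∈ Subgroup.centralizer (E : Set G) := hS s hs
    have hd1 : u * d * u⁻¹ = d := by rw [hdC u hu.1, mul_inv_cancel_right]
    set c1 := u * v0 * u⁻¹ * v0⁻¹ with hc1
    have hcd : Commute d c1 := hcomm _ (W.mul_mem (conj_mem' (hSW hs) hv0) (W.inv_mem hv0)) _
      (W.mul_mem (conj_mem' (hEW hu.1) hv0) (W.inv_mem hv0))
    have e : s⁻¹ * u * s * v0 * (s⁻¹ * u * s)⁻¹ * v0⁻¹ = s⁻¹ * c1 * s⁻¹⁻¹ := by
      calc s⁻¹ * u * s * v0 * (s⁻¹ * u * s)⁻¹ * v0⁻¹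
          = s⁻¹ * (u * d * u⁻¹ * (c1 * d⁻¹)) * s := by rw [hd, hc1]; group
        _ = _ := by rw [hd1, ← mul_assoc d, hcd.eq, mul_inv_cancel_right, inv_inv]
    rw [e]
    exact conj_centralizer_mem (inv_mem (hSE hs)) hu.2
  have hSL : S ≤ Subgroup.normalizer (L : Set G) := by
    intro s hs
    refine mem_normalizer_of_le fun l hl => ?_
    have hl' : s * l * s⁻¹ ∈ W := conj_mem' (hSW hs) (hLW hl)
    refine ⟨⟨_, hl'⟩, ?_, rfl⟩
    have hmem := hSU s hs u0 hu0U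
    have h1 : (s⁻¹ * u0 * s) * l * (s⁻¹ * u0 * s)⁻¹ = l :=
      hfix ⟨_, hmem.1⟩ _ (hUshape ⟨_, hmem.1⟩ hmem) l hl
    have h2 : (⟨u0 * (s * l * s⁻¹) * u0⁻¹, conj_mem' (hEW hu0U.1) hl'⟩ : ↥W) = ⟨_, hl'⟩ :=
      Subtype.ext (show u0 * (s * l * s⁻¹) * u0⁻¹ = s * l * s⁻¹ by
        calc u0 * (s * l * s⁻¹) * u0⁻¹ = s * ((s⁻¹ * u0 * s) * l * (s⁻¹ * u0 * s)⁻¹) * s⁻¹ := by group
          _ = _ := by rw [h1])
    have h3 := congrArg φ h2
    rw [hφeq ⟨u0, hu0U.1⟩ ⟨_, hl'⟩, hUshape ⟨u0, hu0U.1⟩ hu0U] at h3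
    have h4' := congrFun h3 0
    have ht0 : (ρ ⟨u0, hu0U.1⟩).1 0 1 ≠ 0 := fun h => hu0Q ((hρker ⟨u0, hu0U.1⟩).mp
      (by rw [hUshape ⟨u0, hu0U.1⟩ hu0U, h, CfsgLib.RootSub.slU_zero]))
    show φ ⟨_, hl'⟩ 1 = 0
    simp [CfsgLib.RootSub.slU_val, mulVec, dotProduct, Fin.sum_univ_two] at h4'
    exact h4'.resolve_left ht0
  -- the torus
  obtain ⟨lam, hlam⟩ := IsCyclic.exists_generator (α := Kˣ)
  obtain ⟨h, hh⟩ := hρsurj ⟨!![(lam : K), 0; 0, (lam : K)⁻¹], by simp [det_fin_two_of]⟩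
  have hhL : ∀ l ∈ L, (h : G) * l * (h : G)⁻¹ ∈ L := by
    rintro _ ⟨l, hl, rfl⟩
    refine ⟨⟨_, conj_mem' (hEW h.2) l.2⟩, ?_, rfl⟩
    show φ _ 1 = 0
    rw [hφeq, hh]
    have hl0 : φ l 1 = 0 := hl
    simp [mulVec, dotProduct, Fin.sum_univ_two, hl0]
  let γ := commOn (fun a ha b hb => hcomm a (hLW ha) b (hLW hb)) (h : G) le_rfl
    fun l hl => mul_mem (hhL l hl) (inv_mem hl)
  set K0 := γ.range.map L.subtype with hK0
  have hK0L : K0 ≤ L := Subgroup.map_subtype_le _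
  have hhk : ∀ k : ℕ, ∀ l ∈ L, (h : G) ^ k * l * ((h : G) ^ k)⁻¹ ∈ L ∧
      (h : G) ^ k * l * ((h : G) ^ k)⁻¹ * l⁻¹ ∈ K0 := by
    intro k
    induction k with
    | zero => intro l hl; simp [hl]
    | succ k ih =>
      intro l hl
      obtain ⟨h1, h2⟩ := ih l hl
      have e : (h : G) ^ (k + 1) * l * ((h : G) ^ (k + 1))⁻¹ =
          (h : G) * ((h : G) ^ k * l * ((h : G) ^ k)⁻¹) * (h : G)⁻¹ := by rw [pow_succ']; group
      refine ⟨e ▸ hhL _ h1, ?_⟩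
      rw [e]
      set u := (h : G) ^ k * l * ((h : G) ^ k)⁻¹ with hu
      rw [show (h : G) * u * (h : G)⁻¹ * l⁻¹ = (h : G) * u * (h : G)⁻¹ * u⁻¹ * (u * l⁻¹) by group]
      exact mul_mem ⟨_, ⟨⟨u, h1⟩, rfl⟩, rfl⟩ h2
  -- the torus of any element normalizing `L`
  have hconj : ∀ b : ↥E, (∀ l ∈ L, (b : G) * l * (b : G)⁻¹ ∈ L) →
      ∀ l ∈ L, (b : G) * l * (b : G)⁻¹ * l⁻¹ ∈ K0 := by
    intro b hbL l hl
    obtain ⟨w, hw⟩ := hφsurj ![1, 0]
    have hwL : (w : G) ∈ L := ⟨w, show φ w 1 = 0 by simp [hw], rfl⟩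
    obtain ⟨w', hw', hwe⟩ := hbL w hwL
    have hb10 : (ρ b).1 1 0 = 0 := by
      have h1 : φ w' 1 = 0 := hw'
      rw [show w' = ⟨_, conj_mem' (hEW b.2) w.2⟩ from Subtype.ext hwe, hφeq, hw] at h1
      simpa [mulVec, dotProduct, Fin.sum_univ_two] using h1
    have hd := (ρ b).2
    rw [det_fin_two, hb10, mul_zero, sub_zero] at hd
    have ha : (ρ b).1 0 0 ≠ 0 := left_ne_zero_of_mul_eq_one hd
    obtain ⟨k, hk⟩ := (mem_powers_iff_mem_zpowers).mpr (hlam (Units.mk0 _ ha))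
    have hk' : (lam : K) ^ k = (ρ b).1 0 0 := by
      simpa using congrArg Units.val hk
    have hlp : ∀ n : ℕ, ρ (h ^ n) = ⟨!![(lam : K) ^ n, 0; 0, ((lam : K) ^ n)⁻¹], by
        simp [det_fin_two_of]⟩ := by
      intro n
      induction n with
      | zero => rw [pow_zero, map_one]; exact Subtype.ext (by simp [Matrix.one_fin_two])
      | succ n ih =>
        rw [pow_succ, map_mul, ih, hh]
        exact Subtype.ext (by
          show !![(lam : K) ^ n, 0; 0, ((lam : K) ^ n)⁻¹] * !![(lam : K), 0; 0, (lam : K)⁻¹] = _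
          simp [Matrix.mul_fin_two, pow_succ, mul_comm])
    have hr : ρ ((h ^ k)⁻¹ * b) = CfsgLib.RootSub.slU ((ρ ((h ^ k)⁻¹ * b)).1 0 1) := by
      refine hshape _ ?_ ?_ <;>
      · rw [map_mul, map_inv, hlp]
        show (adjugate !![(lam : K) ^ k, 0; 0, ((lam : K) ^ k)⁻¹] * (ρ b).1) _ _ = _
        simp [adjugate_fin_two_of, Matrix.mul_apply, Fin.sum_univ_two, hb10, ← hk']
    have h1 := hfix _ _ hr l hl
    have e : (b : G) * l * (b : G)⁻¹ = (h : G) ^ k * l * ((h : G) ^ k)⁻¹ := by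
      calc (b : G) * l * (b : G)⁻¹ = (h : G) ^ k *
            ((((h ^ k)⁻¹ * b : ↥E) : G) * l * (((h ^ k)⁻¹ * b : ↥E) : G)⁻¹) * ((h : G) ^ k)⁻¹ := by
            simp only [Subgroup.coe_mul, Subgroup.coe_inv, SubmonoidClass.coe_pow]; group
        _ = _ := by rw [h1]
    rw [e]
    exact (hhk k l hl).2
  have hSK : S ≤ Subgroup.normalizer (K0 : Set G) := by
    intro s hs
    refine mem_normalizer_of_le ?_
    rintro _ ⟨_, ⟨l, rfl⟩, rfl⟩
    show s * ((h : G) * l * (h : G)⁻¹ * (l : G)⁻¹) * s⁻¹ ∈ K0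
    have h1 := hconj ⟨s * (h : G) * s⁻¹, conj_mem' (hSE hs) h.2⟩ (fun m hm => by
      show s * (h : G) * s⁻¹ * m * (s * (h : G) * s⁻¹)⁻¹ ∈ L
      rw [show s * (h : G) * s⁻¹ * m * (s * (h : G) * s⁻¹)⁻¹ =
        s * ((h : G) * (s⁻¹ * m * s) * (h : G)⁻¹) * s⁻¹ by group]
      exact conj_mem' (hSL hs) (hhL _ (by simpa using conj_mem' (inv_mem (hSL hs)) hm)))
      (s * l * s⁻¹) (conj_mem' (hSL hs) l.2)
    convert h1 using 1
    group
  have hlam1 : (lam : K) ≠ 1 := by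
    intro h1
    have hall : ∀ u : Kˣ, u = 1 := fun u => by
      obtain ⟨i, hi⟩ := hlam u
      have h2 : lam ^ i = u := hi
      rw [show lam = 1 from Units.ext h1, _root_.one_zpow] at h2
      exact h2.symm
    haveI : Subsingleton Kˣ := ⟨fun a b => (hall a).trans (hall b).symm⟩
    have h2 := Fintype.card_units K
    rw [Fintype.card_eq_one_iff.mpr ⟨1, hall⟩] at h2
    omega
  have hlam' : (lam : K) + -1 ≠ 0 := fun h => hlam1 (eq_neg_iff_add_eq_zero.mpr h ▸ neg_neg _)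
  have hφγ : ∀ l : ↥L, φ ⟨γ l, hLW (γ l).2⟩ 0 = ((lam : K) + -1) * φ ⟨l, hLW l.2⟩ 0 := by
    intro l
    rw [show (⟨γ l, hLW (γ l).2⟩ : ↥W) = ⟨_, conj_mem' (hEW h.2) (hLW l.2)⟩ * (⟨l, hLW l.2⟩ : ↥W)⁻¹
      from rfl, hφsub, Pi.sub_apply, hφeq h ⟨l, hLW l.2⟩, hh]
    simp [mulVec, dotProduct, Fin.sum_univ_two]
    ring
  have hK0C : ∀ w ∈ K0, w ∈ Subgroup.centralizer (E : Set G) → w = 1 := by
    rintro _ ⟨_, ⟨l, rfl⟩, rfl⟩ hC
    have h1 := congrFun ((hφker ⟨γ l, hLW (γ l).2⟩).mpr hC) 0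
    rw [hφγ] at h1
    have h2 : φ ⟨l, hLW l.2⟩ 0 = 0 := (mul_eq_zero.mp h1).resolve_left hlam'
    obtain ⟨l', hl', hle⟩ := l.2
    have h3 : φ ⟨l, hLW l.2⟩ = 0 := funext fun i => by
      fin_cases i
      · exact h2
      · have : (⟨l, hLW l.2⟩ : ↥W) = l' := Subtype.ext hle.symm
        rw [this]; exact hl'
    have h4' := ((hφker _).mp h3) h h.2
    show (h : G) * l * (h : G)⁻¹ * (l : G)⁻¹ = 1
    rw [show (h : G) * (l : G) = (l : G) * h from h4', mul_inv_cancel_right, mul_inv_cancel]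
  obtain ⟨w, hw⟩ := hφsurj ![((lam : K) + -1)⁻¹, 0]
  have hwL : (w : G) ∈ L := ⟨w, show φ w 1 = 0 by simp [hw], rfl⟩
  set k : G := (γ ⟨w, hwL⟩ : G) with hk
  have hkK : k ∈ K0 := ⟨_, ⟨⟨w, hwL⟩, rfl⟩, rfl⟩
  have hkW : k ∈ W := hLW (hK0L hkK)
  have hkv : v0⁻¹ * k ∈ Subgroup.centralizer (E : Set G) := by
    have hLine : φ ⟨k, hkW⟩ = φ ⟨v0, hv0⟩ := by
      obtain ⟨k', hk', hke⟩ := hK0L hkK
      funext i
      fin_cases i
      · refine (hφγ ⟨w, hwL⟩).trans ?_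
        rw [show (⟨((⟨w, hwL⟩ : ↥L) : G), hLW (⟨w, hwL⟩ : ↥L).2⟩ : ↥W) = w from rfl, hw, hv0φ]
        simp [mul_inv_cancel₀ hlam']
      · show φ ⟨k, hkW⟩ 1 = φ ⟨v0, hv0⟩ 1
        rw [show (⟨k, hkW⟩ : ↥W) = k' from Subtype.ext hke.symm, hv0φ]
        exact hk'
    refine (hφker ((⟨v0, hv0⟩ : ↥W)⁻¹ * ⟨k, hkW⟩)).mp ?_
    rw [show (⟨v0, hv0⟩ : ↥W)⁻¹ * ⟨k, hkW⟩ = ⟨k, hkW⟩ * (⟨v0, hv0⟩ : ↥W)⁻¹ from
      Subtype.ext (hcomm _ (W.inv_mem hv0) _ hkW).eq, hφsub, hLine, sub_self]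
  refine ⟨k, hkW, hkv, fun s hs => ?_⟩
  have h1 : s * k * s⁻¹ * k⁻¹ ∈ Subgroup.centralizer (E : Set G) := by
    rw [show s * k * s⁻¹ * k⁻¹ =
      (s * v0 * s⁻¹) * ((s * (v0⁻¹ * k) * s⁻¹) * (v0⁻¹ * k)⁻¹) * v0⁻¹ by group]
    set d2 := s * (v0⁻¹ * k) * s⁻¹ * (v0⁻¹ * k)⁻¹ with hd2
    have hd2W : d2 ∈ W := W.mul_mem (conj_mem' (hSW hs) (W.mul_mem (W.inv_mem hv0) hkW))
      (W.inv_mem (W.mul_mem (W.inv_mem hv0) hkW))
    rw [mul_assoc, (hcomm _ hd2W _ (W.inv_mem hv0)).eq, ← mul_assoc]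
    exact mul_mem (hS s hs) (mul_mem (conj_centralizer_mem (hSE hs) hkv) (inv_mem hkv))
  exact mul_inv_eq_one.mp (hK0C _ (K0.mul_mem (conj_mem' (hSK hs) hkK) (K0.inv_mem hkK)) h1)

/-- Fixed vectors modulo `C_W(E)` of a group normalizing `E` lift to fixed vectors. -/
theorem exists_fixed_lift {E S : Subgroup G} (hE : IsBlock p E)
    (hSE : S ≤ Subgroup.normalizer (E : Set G)) {v : G} (hv : v ∈ bW p E)
    (hS : ∀ s ∈ S, s * v * s⁻¹ * v⁻¹ ∈ Subgroup.centralizer (E : Set G)) :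
    ∃ w ∈ bW p E, v⁻¹ * w ∈ Subgroup.centralizer (E : Set G) ∧ ∀ s ∈ S, s * w * s⁻¹ = w := by
  classical
  by_cases hvC : v ∈ Subgroup.centralizer (E : Set G)
  · exact ⟨1, one_mem _, by simpa using inv_mem hvC, fun s _ => by simp⟩
  have hbot : bW p E ⊓ Subgroup.centralizer (E : Set G) = ⊥ →
      ∃ w ∈ bW p E, v⁻¹ * w ∈ Subgroup.centralizer (E : Set G) ∧ ∀ s ∈ S, s * w * s⁻¹ = w := by
    intro hD
    refine ⟨v, hv, by simp, fun s hs => ?_⟩
    have h : s * v * s⁻¹ * v⁻¹ ∈ bW p E ⊓ Subgroup.centralizer (E : Set G) := Subgroup.mem_inf.mpr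
      ⟨Subgroup.mul_mem _ (conj_mem' (hSE.trans (normalizer_le_normalizer_bW E) hs) hv)
        (Subgroup.inv_mem _ hv), hS s hs⟩
    rw [hD, Subgroup.mem_bot] at h
    exact mul_inv_eq_one.mp h
  by_cases hp : p = 2
  swap
  · exact hbot (fixed_eq_bot hG hE hp)
  subst hp
  obtain ⟨T, -, -, -, -, hcase⟩ := id hE
  rcases hcase with ⟨K, iK, iKt, n, hn, hiso, hact, -⟩ | ⟨-, m, -, hact, -⟩
  swap
  · exact hbot (fixed_eq_bot_alt hG hE rfl hact)
  haveI : CharP K 2 := by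
    have h0 := FiniteField.cast_card_eq_zero K
    rw [hn] at h0
    push_cast at h0
    exact (CharP.charP_iff_prime_eq_zero Nat.prime_two).mpr (eq_zero_of_pow_eq_zero h0)
  rcases le_or_gt 4 (Fintype.card K) with h4 | h4
  · exact exists_fixed_lift_sl2 hG hE rfl h4 hiso hact hSE hv hvC hS
  have h2 : Fintype.card K = 2 := by
    have hn1 : n = 1 := by
      rcases n with _ | _ | n
      · rw [pow_zero] at hn
        exact absurd hn (Fintype.one_lt_card (α := K)).ne'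
      · rfl
      · have : 2 ^ 2 ≤ 2 ^ (n + 2) := Nat.pow_le_pow_right (by norm_num) (by omega)
        have h5 : 2 ^ (n + 1 + 1) < 4 := hn ▸ h4
        exact absurd (lt_of_le_of_lt this h5) (by norm_num)
    rw [hn, hn1]; norm_num
  obtain ⟨φ, ρ, -, -, hρ, hρker, -⟩ := exists_coords_sl2 hG hE hiso hact
  have hEQ : ¬ E ≤ bQ 2 E := fun hle => bW_not_le_centralizer hE hG
    (Subgroup.le_centralizer_iff.mp (hle.trans (bQ_le_centralizer_bW hE hG)))
  obtain ⟨x, hx, hxQ⟩ := SetLike.not_le_iff_exists.mp hEQ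
  refine hbot (fixed_eq_bot_of_central hG hE hx hxQ fun y hy => ?_)
  refine (hρker ((⟨x, hx⟩ : ↥E)⁻¹ * (⟨y, hy⟩ * ⟨x, hx⟩ * (⟨y, hy⟩ : ↥E)⁻¹))).mp ?_
  have hc := commute_of_card_two h2 (hρ ▸ ⟨⟨y, hy⟩, rfl⟩ : ρ ⟨y, hy⟩ ∈ commutator _)
    (hρ ▸ ⟨⟨x, hx⟩, rfl⟩ : ρ ⟨x, hx⟩ ∈ commutator _)
  rw [map_mul, map_mul, map_mul, map_inv, map_inv, hc, mul_inv_cancel_right, inv_mul_cancel]

/-- A `p`-group normalizing a block fixes a vector of its module not centralized by the block. -/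
theorem exists_fixed_mem {E S : Subgroup G} (hE : IsBlock p E) (hS : IsPGroup p ↥S)
    (hSE : S ≤ Subgroup.normalizer (E : Set G)) :
    ∃ w ∈ bW p E, w ∉ Subgroup.centralizer (E : Set G) ∧ ∀ s ∈ S, s * w * s⁻¹ = w := by
  classical
  set W := bW p E with hW
  let D : Subgroup ↥W := (W ⊓ Subgroup.centralizer (E : Set G)).subgroupOf W
  have hSW : S ≤ Subgroup.normalizer (W : Set G) := hSE.trans (normalizer_le_normalizer_bW E)
  haveI : D.Normal := ⟨fun a ha g => by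
    rwa [show g * a * g⁻¹ = a from mul_inv_eq_iff_eq_mul.mpr (Subtype.ext
      (bV_comm (bW_le_bV hE g.2) (bW_le_bV hE a.2)).eq)]⟩
  let f : ↥S → ↥W →* ↥W := fun g =>
    { toFun := fun w => ⟨(g : G) * w * (g : G)⁻¹, conj_mem' (hSW g.2) w.2⟩
      map_one' := Subtype.ext (by simp)
      map_mul' := fun a b => Subtype.ext (by simp [mul_assoc]) }
  have hf : ∀ g : ↥S, D ≤ D.comap (f g) := fun g a ha =>
    Subgroup.mem_subgroupOf.mpr (Subgroup.mem_inf.mpr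
      ⟨(f g a).2, conj_centralizer_mem (hSE g.2) ha.2⟩)
  letI : MulAction ↥S (↥W ⧸ D) :=
    { smul := fun g => QuotientGroup.map D D (f g) (hf g)
      one_smul := fun u => by
        induction u using QuotientGroup.induction_on with
        | H a => exact congrArg (fun z : ↥W => (z : ↥W ⧸ D)) (Subtype.ext (by simp [f]))
      mul_smul := fun g h u => by
        induction u using QuotientGroup.induction_on with
        | H a => exact congrArg (fun z : ↥W => (z : ↥W ⧸ D)) (Subtype.ext (by simp [f, mul_assoc])) }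
  have hdvd : p ∣ Nat.card (↥W ⧸ D) := by
    obtain ⟨k, hk⟩ := IsPGroup.iff_card.mp
      ((((pCoreOf_isPGroup p E).to_le ((bW_le_bV hE).trans (bV_le_bQ p E)))).to_quotient D)
    rcases k with _ | k
    · rw [pow_zero, ← Subgroup.index_eq_card] at hk
      exact absurd hk (one_lt_uCard hG hE).ne'
    · exact hk ▸ dvd_pow_self p (Nat.succ_ne_zero k)
  obtain ⟨u, hu, hu1⟩ := hS.exists_fixed_point_of_prime_dvd_card_of_fixed_point (↥W ⧸ D) hdvd
    (a := 1) (fun g => map_one (QuotientGroup.map D D (f g) (hf g)))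
  obtain ⟨v, rfl⟩ := QuotientGroup.mk_surjective u
  have hclass : ∀ s ∈ S, s * v * s⁻¹ * (v : G)⁻¹ ∈ Subgroup.centralizer (E : Set G) := by
    intro s hs
    have h : ((f ⟨s, hs⟩ v : ↥W) : ↥W ⧸ D) = (v : ↥W ⧸ D) := hu ⟨s, hs⟩
    have h2 : (((v⁻¹ * f ⟨s, hs⟩ v : ↥W)) : G) ∈ Subgroup.centralizer (E : Set G) :=
      (QuotientGroup.eq.mp h.symm).2
    rw [show (((v⁻¹ * f ⟨s, hs⟩ v : ↥W)) : G) = s * v * s⁻¹ * (v : G)⁻¹ from
      (bV_comm (bW_le_bV hE ((bW p E).inv_mem v.2)) (bW_le_bV hE (f ⟨s, hs⟩ v).2)).eq] at h2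
    exact h2
  obtain ⟨w, hw, hvw, hwS⟩ := exists_fixed_lift hG hE hSE v.2 hclass
  refine ⟨w, hw, fun hC => hu1 ?_, hwS⟩
  refine ((QuotientGroup.eq_one_iff v).mpr (Subgroup.mem_subgroupOf.mpr
    (Subgroup.mem_inf.mpr ⟨v.2, ?_⟩))).symm
  have h := mul_mem hC (inv_mem hvw)
  simpa using h

end CfsgLib.BlockPair
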