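import Cfsg.Agent.Lib.BlockPair.Subnormal
import Cfsg.Agent.Lib.BlockPair.Fixed
import Cfsg.Agent.Lib.PLocal.Thompson

/-!
# The Baumann subgroup normalizes a subnormal block
-/

set_option autoImplicit false
set_option linter.unusedSectionVars false
set_option linter.style.haveILetI false

open scoped commutatorElement

namespace CfsgLib.BlockPair

open CfsgLib.LocalEven CfsgLib.LocalEven.BBlock CfsgLib.BlockNorm

/-- An abelian group of automorphisms of a group of exponent two with only one fixed involution has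
at most half its order. -/
theorem two_mul_card_le {U : Type*} [CommGroup U] [Finite U] (hsq : ∀ u : U, u * u = 1)
    (R : Set (Monoid.End U)) (hone : (1 : Monoid.End U) ∈ R)
    (hmul : ∀ a ∈ R, ∀ b ∈ R, a * b ∈ R) (hcomm : ∀ a ∈ R, ∀ b ∈ R, a * b = b * a)
    {u0 : U} (hu0 : u0 ≠ 1) (hfix : ∀ a ∈ R, a u0 = u0)
    (honly : ∀ (N : Subgroup U), (∀ a ∈ R, ∀ u ∈ N, a u ∈ N) → N ≠ ⊥ → u0 ∈ N) :
    2 * Nat.card R ≤ Nat.card U := by
  classical
  letI : Module (ZMod 2) (Additive U) := AddCommGroup.zmodModule fun u => by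
    rw [two_nsmul]; exact hsq u.toMul
  obtain ⟨ξ, hξ⟩ := Module.Projective.exists_dual_ne_zero (ZMod 2)
    (show Additive.ofMul u0 ≠ 0 from hu0)
  have hξ1 : ξ (Additive.ofMul u0) = 1 := by
    rcases (show ∀ x : ZMod 2, x = 0 ∨ x = 1 by decide) (ξ (Additive.ofMul u0)) with h | h
    · exact absurd h hξ
    · exact h
  let φ : Monoid.End U → Module.Dual (ZMod 2) (Additive U) := fun a =>
    ξ.comp ((MonoidHom.toAdditive (a : U →* U)).toZModLinearMap 2)
  have hφ : ∀ a u, φ a (Additive.ofMul u) = ξ (Additive.ofMul (a u)) := fun a u => rfl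
  have hinj : Set.InjOn φ R := by
    intro a ha b hb hab
    refine DFunLike.ext _ _ fun u => ?_
    by_contra hne
    let N : Subgroup U :=
      { carrier := {v | ∀ c ∈ R, φ c (Additive.ofMul v) = 0}
        one_mem' := fun c _ => by rw [ofMul_one, map_zero]
        mul_mem' := fun {v w} hv hw c hc => by rw [ofMul_mul, map_add, hv c hc, hw c hc, add_zero]
        inv_mem' := fun {v} hv c hc => by rw [ofMul_inv, map_neg, hv c hc, neg_zero] }
    have hNne : N ≠ ⊥ := by
      intro hbot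
      apply hne
      have hmem : a u * (b u)⁻¹ ∈ N := by
        intro c hc
        rw [hφ, map_mul, map_inv, ofMul_mul, ofMul_inv, map_add, map_neg]
        have h1 : ξ (Additive.ofMul (c (a u))) = φ a (Additive.ofMul (c u)) := by
          rw [hφ, show c (a u) = (c * a) u from rfl, hcomm c hc a ha]; rfl
        have h2 : ξ (Additive.ofMul (c (b u))) = φ b (Additive.ofMul (c u)) := by
          rw [hφ, show c (b u) = (c * b) u from rfl, hcomm c hc b hb]; rfl
        rw [h1, h2, hab, add_neg_cancel]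
      rw [hbot, Subgroup.mem_bot] at hmem
      exact mul_inv_eq_one.mp hmem
    have h := honly N (fun c hc v hv c' hc' => by
      rw [hφ, show c' (c v) = (c' * c) v from rfl, ← hφ]
      exact hv _ (hmul c' hc' c hc)) hNne 1 hone
    rw [hφ, show (1 : Monoid.End U) u0 = u0 from rfl, hξ1] at h
    exact one_ne_zero h
  let Φ : R × Bool → Module.Dual (ZMod 2) (Additive U) := fun x => φ x.1 + if x.2 then ξ else 0
  have hΦ : Function.Injective Φ := by
    rintro ⟨a, s⟩ ⟨b, t⟩ h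
    have h0 := LinearMap.congr_fun h (Additive.ofMul u0)
    simp only [Φ, LinearMap.add_apply, hφ, hfix a.1 a.2, hfix b.1 b.2, hξ1] at h0
    have hst : s = t := by
      cases s <;> cases t <;> simp [hξ1] at h0 ⊢
    subst hst
    exact Prod.ext (Subtype.ext (hinj a.2 b.2 (add_right_cancel h))) rfl
  haveI : Finite (Module.Dual (ZMod 2) (Additive U)) :=
    Finite.of_injective (fun f => (f : Additive U → ZMod 2)) DFunLike.coe_injective
  have h1 := Nat.card_le_card_of_injective Φ hΦ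
  rw [Nat.card_prod, Nat.card_eq_fintype_card (α := Bool), Fintype.card_bool,
    Module.natCard_eq_pow_finrank (K := ZMod 2) (V := Module.Dual (ZMod 2) (Additive U)),
    Subspace.dual_finrank_eq, ← Module.natCard_eq_pow_finrank (K := ZMod 2) (V := Additive U)] at h1
  rw [mul_comm]
  exact h1.trans (le_of_eq (Nat.card_congr Additive.toMul))

variable {G : Type*} [Group G] [Finite G] {p : ℕ} [Fact p.Prime]

omit [Fact p.Prime] in
/-- The offender inequality of an elementary abelian subgroup of largest order. -/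
theorem card_mul_le {T A A1 X : Subgroup G} (hA : A ∈ CfsgLib.PLocal.maxEAIn p T) (hA1 : A1 ≤ A)
    (hXT : X ≤ T) (hX : Cfsg.IsElementaryAbelian p X)
    (hc : A1 ≤ Subgroup.centralizer (X : Set G)) :
    Nat.card ↥A1 * Nat.card ↥X ≤ Nat.card ↥A * Nat.card ↥(X ⊓ Subgroup.centralizer (A : Set G)) := by
  have hA1e := CfsgLib.PLocal.isEA_mono hA.2.1 hA1
  have hn : A1 ≤ Subgroup.normalizer (X : Set G) := fun a ha => mem_normalizer_of_le fun x hx => by
    rwa [← hc ha x hx, mul_inv_cancel_right]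
  have hmem : ∀ z ∈ A1 ⊔ X, ∃ a ∈ A1, ∃ x ∈ X, a * x = z := by
    intro z hz
    rwa [← SetLike.mem_coe, Subgroup.coe_mul_of_left_le_normalizer_right A1 X hn, Set.mem_mul] at hz
  have hEA : Cfsg.IsElementaryAbelian p (A1 ⊔ X) := by
    refine ⟨Subgroup.le_centralizer_iff_isMulCommutative.mp fun u hu v hv => ?_, fun u hu => ?_⟩
    · obtain ⟨a, ha, x, hx, rfl⟩ := hmem u hu
      obtain ⟨b, hb, y, hy, rfl⟩ := hmem v hv
      have e1 : Commute b a := CfsgLib.PLocal.commute_of_mem_comm hA1e.1 hb ha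
      have e2 : Commute y x := CfsgLib.PLocal.commute_of_mem_comm hX.1 hy hx
      have e3 : Commute b x := (hc hb x hx).symm
      have e4 : Commute y a := hc ha y hy
      exact ((e1.mul_right e3).mul_left (e4.mul_right e2))
    · obtain ⟨a, ha, x, hx, rfl⟩ := hmem u hu
      rw [(show Commute a x from (hc ha x hx).symm).mul_pow, hA1e.2 a ha, hX.2 x hx, mul_one]
  have h1 := hA.2.2 _ (sup_le (hA1.trans hA.1) hXT) hEA
  have h2 : A1 ⊓ X ≤ X ⊓ Subgroup.centralizer (A : Set G) := fun u hu => Subgroup.mem_inf.mpr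
    ⟨hu.2, fun b hb => (CfsgLib.PLocal.commute_of_mem_comm hA.2.1.1 hb (hA1 hu.1)).eq⟩
  have h3 : Nat.card ↥(A1 ⊔ X) * Nat.card ↥(A1 ⊓ X) = Nat.card ↥A1 * Nat.card ↥X := by
    haveI : (X.subgroupOf (A1 ⊔ X)).Normal :=
      (Subgroup.normal_subgroupOf_iff_le_normalizer le_sup_right).mpr (sup_le hn Subgroup.le_normalizer)
    have e1 : Nat.card ↥(A1 ⊔ X) = Nat.card ↥X * X.relIndex (A1 ⊔ X) := by
      rw [← Nat.card_congr (Subgroup.subgroupOfEquivOfLe (le_sup_right : X ≤ A1 ⊔ X)).toEquiv,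
        Subgroup.relIndex, Subgroup.card_mul_index]
    have e2 : Nat.card ↥A1 = Nat.card ↥(A1 ⊓ X) * X.relIndex A1 := by
      rw [← Subgroup.inf_relIndex_right (H := X) (K := A1), inf_comm X A1,
        ← Nat.card_congr (Subgroup.subgroupOfEquivOfLe (inf_le_left : A1 ⊓ X ≤ A1)).toEquiv,
        Subgroup.relIndex, Subgroup.card_mul_index]
    have e3 : X.relIndex (A1 ⊔ X) = X.relIndex A1 := by
      have hq := Subgroup.relIndex_sup_right (H := A1.subgroupOf (A1 ⊔ X)) (K := X.subgroupOf (A1 ⊔ X))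
      rw [← Subgroup.subgroupOf_sup le_sup_left le_sup_right, Subgroup.subgroupOf_self] at hq
      rw [Subgroup.relIndex_top_right] at hq
      rw [Subgroup.relIndex, hq, Subgroup.relIndex_subgroupOf le_sup_left]
    rw [e1, e3, e2]; ring
  rw [← h3]
  exact Nat.mul_le_mul h1 (Subgroup.card_le_of_le h2)

/-- Conjugates of a fixed vector of distinct commuting blocks are independent. -/
theorem indep {E : Subgroup G} {w : G} (hwE : w ∈ E) (hp : w ^ p = 1)
    (hw : w ∉ Subgroup.centralizer (E : Set G)) {M : Subgroup G}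
    (hM : ∀ a ∈ M, ∀ b ∈ M, Commute a b) (s : Finset G)
    (hsM : ∀ t ∈ s, t * w * t⁻¹ ∈ M)
    (hs : ∀ t ∈ s, ∀ t' ∈ s, t ≠ t' → ⁅E, E.map (MulAut.conj (t⁻¹ * t')).toMonoidHom⁆ = ⊥) :
    s.sup (fun t => Subgroup.zpowers (t * w * t⁻¹)) ≤ M ∧
      p ^ s.card ≤ Nat.card ↥(s.sup fun t => Subgroup.zpowers (t * w * t⁻¹)) ∧
      ∀ y ∈ s.sup (fun t => Subgroup.zpowers (t * w * t⁻¹)),
        (∀ t ∈ s, t⁻¹ * y * t ∈ Subgroup.centralizer (E : Set G)) → y = 1 := by
  classical
  have hw1 : w ≠ 1 := fun h => hw (h ▸ one_mem _)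
  have hord : orderOf w = p := orderOf_eq_prime hp hw1
  have hpow : ∀ k : ℤ, w ^ k ∈ Subgroup.centralizer (E : Set G) → w ^ k = 1 := by
    intro k hk
    by_contra hne
    apply hw
    have hgen : Subgroup.zpowers (w ^ k) = Subgroup.zpowers w := by
      refine Subgroup.eq_of_le_of_card_ge (Subgroup.zpowers_le.mpr (Subgroup.zpow_mem _ (Subgroup.mem_zpowers w) k)) ?_
      rw [Nat.card_zpowers, Nat.card_zpowers, hord, orderOf_eq_prime (x := w ^ k) (p := p) ?_ hne]
      rw [← zpow_natCast, ← zpow_mul, mul_comm, zpow_mul, zpow_natCast, hp, one_zpow]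
    have h1 : w ∈ Subgroup.zpowers (w ^ k) := hgen ▸ Subgroup.mem_zpowers w
    exact (Subgroup.zpowers_le.mpr hk) h1
  induction s using Finset.induction with
  | empty =>
    refine ⟨by simp, by simp, fun y hy _ => by simpa using hy⟩
  | insert t s ht ih =>
    obtain ⟨hsub, hcard, hind⟩ := ih (fun u hu => hsM u (Finset.mem_insert_of_mem hu))
      fun u hu u' hu' => hs u (Finset.mem_insert_of_mem hu) u' (Finset.mem_insert_of_mem hu')
    set P := s.sup (fun t => Subgroup.zpowers (t * w * t⁻¹)) with hP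
    set x := t * w * t⁻¹ with hx
    have hxM : x ∈ M := hsM t (Finset.mem_insert_self t s)
    have hZM : Subgroup.zpowers x ≤ M := Subgroup.zpowers_le.mpr hxM
    -- `P` is centralized by the conjugate at `t`
    have hPC : ∀ y ∈ P, t⁻¹ * y * t ∈ Subgroup.centralizer (E : Set G) := by
      have hle : P ≤ (Subgroup.centralizer (E : Set G)).comap (MulAut.conj t⁻¹).toMonoidHom :=
        Finset.sup_le fun u hu => Subgroup.zpowers_le.mpr (by
          show t⁻¹ * (u * w * u⁻¹) * t⁻¹⁻¹ ∈ Subgroup.centralizer (E : Set G)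
          rw [show t⁻¹ * (u * w * u⁻¹) * t⁻¹⁻¹ = (t⁻¹ * u) * w * (t⁻¹ * u)⁻¹ by group]
          exact (conj_mem_centralizer (hs t (Finset.mem_insert_self t s) u
            (Finset.mem_insert_of_mem hu) (fun h => ht (h ▸ hu))) hwE).1)
      intro y hy
      have h : t⁻¹ * y * t⁻¹⁻¹ ∈ Subgroup.centralizer (E : Set G) := hle hy
      rwa [inv_inv] at h
    have hdec : ∀ y ∈ Subgroup.zpowers x ⊔ P, ∃ k : ℤ, ∃ z ∈ P, x ^ k * z = y := by
      intro y hy
      rw [← SetLike.mem_coe, Subgroup.coe_mul_of_left_le_normalizer_right _ P (fun a ha =>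
        mem_normalizer_of_le fun b hb => by
          rwa [(hM a (hZM ha) b (hsub hb)).eq, mul_inv_cancel_right])] at hy
      obtain ⟨a, ha, z, hz, rfl⟩ := hy
      obtain ⟨k, rfl⟩ := ha
      exact ⟨k, z, hz, rfl⟩
    rw [Finset.sup_insert]
    refine ⟨sup_le hZM hsub, ?_, fun y hy hyC => ?_⟩
    · rw [Finset.card_insert_of_notMem ht, pow_succ']
      refine le_trans (Nat.mul_le_mul_left p hcard) ?_
      have hzc : Nat.card ↥(Subgroup.zpowers x) = p := by
        rw [Nat.card_zpowers, hx, show t * w * t⁻¹ = MulAut.conj t w from rfl, MulEquiv.orderOf_eq, hord]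
      rw [← hzc, ← Nat.card_prod]
      refine Nat.card_le_card_of_injective (fun u : ↥(Subgroup.zpowers x) × ↥P =>
        (⟨(u.1 : G) * u.2, mul_mem (Subgroup.mem_sup_left u.1.2) (Subgroup.mem_sup_right u.2.2)⟩ :
          ↥(Subgroup.zpowers x ⊔ P))) fun u v huv => ?_
      have h : (u.1 : G) * u.2 = (v.1 : G) * v.2 := congrArg Subtype.val huv
      obtain ⟨k, hk⟩ := (mul_mem (inv_mem v.1.2) u.1.2 : (v.1 : G)⁻¹ * u.1 ∈ Subgroup.zpowers x)
      have hk' : x ^ k = (v.2 : G) * (u.2 : G)⁻¹ := by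
        rw [show x ^ k = (v.1 : G)⁻¹ * u.1 from hk, eq_mul_inv_iff_mul_eq, mul_assoc, h,
          inv_mul_cancel_left]
      have h2 := hPC _ (mul_mem v.2.2 (inv_mem u.2.2))
      rw [← hk', hx, conj_zpow, show t⁻¹ * (t * w ^ k * t⁻¹) * t = w ^ k by group] at h2
      have h3 : (v.1 : G)⁻¹ * u.1 = 1 := by
        rw [← show x ^ k = (v.1 : G)⁻¹ * u.1 from hk, hx, conj_zpow, hpow k h2, mul_one, mul_inv_cancel]
      have h4 : (v.1 : G) = u.1 := inv_mul_eq_one.mp h3
      rw [h4] at h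
      exact Prod.ext (Subtype.ext h4.symm) (Subtype.ext (mul_left_cancel h))
    · obtain ⟨k, z, hz, rfl⟩ := hdec y hy
      have h1 := mul_mem (hyC t (Finset.mem_insert_self t s)) (inv_mem (hPC z hz))
      rw [show t⁻¹ * (x ^ k * z) * t * (t⁻¹ * z * t)⁻¹ = t⁻¹ * x ^ k * t by group, hx, conj_zpow,
        show t⁻¹ * (t * w ^ k * t⁻¹) * t = w ^ k by group] at h1
      have h2 : x ^ k = 1 := by rw [hx, conj_zpow, hpow k h1, mul_one, mul_inv_cancel]
      rw [h2, one_mul] at hyC ⊢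
      exact hind z hz fun u hu => hyC u (Finset.mem_insert_of_mem hu)

variable (hG : Subgroup.centralizer (Cfsg.pCore p G : Set G) ≤ Cfsg.pCore p G)

include hG

/-- Elementary abelian subgroups of largest order normalize a subnormal block. -/
theorem maxEA_le_normalizer {E A : Subgroup G} (hE : IsBlock p E) (hEs : E.IsSubnormal)
    (T : Sylow p G) (hA : A ∈ CfsgLib.PLocal.maxEAIn p (T : Subgroup G)) :
    A ≤ Subgroup.normalizer (E : Set G) := by
  classical
  by_contra hAE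
  set M := Cfsg.omegaOneCenter p (Cfsg.pCore p G) with hMdef
  have hMEA : Cfsg.IsElementaryAbelian p M := CfsgLib.PLocal.omegaCenter_isEA _
  have hMcomm : ∀ a ∈ M, ∀ b ∈ M, Commute a b := fun a ha b hb =>
    CfsgLib.PLocal.commute_of_mem_comm hMEA.1 ha hb
  have hMT : M ≤ (T : Subgroup G) :=
    ((CfsgLib.PLocal.omegaOne_le p _).trans inf_le_left).trans (CfsgLib.Solvable.pCore_le_sylow T)
  have hMn : ∀ g, g ∈ Subgroup.normalizer (M : Set G) := fun g => map_conj_omegaOneCenter p (by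
    haveI := core_normal p G
    rw [Subgroup.normalizer_eq_top]; exact Subgroup.mem_top g)
  have hWM : bW p E ≤ M := bW_le_omega hE hG
  have hWE : bW p E ≤ E := bW_le hE
  have hAc : ∀ a ∈ A, ∀ b ∈ A, a * b = b * a := fun a ha b hb =>
    (CfsgLib.PLocal.commute_of_mem_comm hA.2.1.1 ha hb).eq
  have hmove : ∀ g, g ∉ Subgroup.normalizer (E : Set G) →
      ⁅E, E.map (MulAut.conj g).toMonoidHom⁆ = ⊥ := fun g hg =>
    (eq_or_commute_of_isSubnormal hG hE (hE.conj g) hEs
      (CfsgLib.Components.isSubnormal_map_conj hEs g)).resolve_left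
      fun h => hg (Subgroup.mem_normalizer_iff_map_conj_eq.mpr h.symm)
  set A0 := A ⊓ Subgroup.normalizer (E : Set G) with hA0
  have hA0A : A0 ≤ A := inf_le_left
  have hA0N : A0 ≤ Subgroup.normalizer (E : Set G) := inf_le_right
  have hAp : IsPGroup p ↥A := T.2.to_le hA.1
  obtain ⟨w, hwW, hwC, hwfix⟩ := exists_fixed_mem hG hE (hAp.to_le hA0A) hA0N
  -- the cosets
  set B0 := A0.subgroupOf A with hB0
  set r : ↥A ⧸ B0 → ↥A := fun c => c.out with hr
  have hrC : ∀ c, ((r c : ↥A) : ↥A ⧸ B0) = c := fun c => Quotient.out_eq c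
  haveI : Fintype (↥A ⧸ B0) := Fintype.ofFinite _
  set s : Finset G := (Finset.univ.erase ((1 : ↥A) : ↥A ⧸ B0)).image fun c => (r c : G) with hs
  have hne : ∀ c c' : ↥A ⧸ B0, c ≠ c' → ((r c : G))⁻¹ * r c' ∉ Subgroup.normalizer (E : Set G) := by
    intro c c' hcc h
    apply hcc
    rw [← hrC c, ← hrC c', QuotientGroup.eq]
    exact Subgroup.mem_subgroupOf.mpr (Subgroup.mem_inf.mpr ⟨((r c)⁻¹ * r c').2, h⟩)
  have hnot : ∀ t ∈ s, t ∈ A ∧ t ∉ Subgroup.normalizer (E : Set G) := by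
    intro t ht
    obtain ⟨c, hc, rfl⟩ := Finset.mem_image.mp ht
    refine ⟨(r c).2, fun h => (Finset.mem_erase.mp hc).1 ?_⟩
    rw [← hrC c, QuotientGroup.eq, mul_one]
    exact inv_mem (Subgroup.mem_subgroupOf.mpr (Subgroup.mem_inf.mpr ⟨(r c).2, h⟩))
  have hpair : ∀ t ∈ s, ∀ t' ∈ s, t ≠ t' → ⁅E, E.map (MulAut.conj (t⁻¹ * t')).toMonoidHom⁆ = ⊥ := by
    intro t ht t' ht' htt
    obtain ⟨c, -, rfl⟩ := Finset.mem_image.mp ht
    obtain ⟨c', -, rfl⟩ := Finset.mem_image.mp ht'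
    exact hmove _ (hne c c' fun h => htt (by rw [h]))
  obtain ⟨hPM, hPcard, hPind⟩ := indep (p := p) (hWE hwW) (hMEA.2 w (hWM hwW)) hwC hMcomm s
    (fun t _ => conj_mem' (hMn t) (hWM hwW)) hpair
  set P := s.sup (fun t => Subgroup.zpowers (t * w * t⁻¹)) with hP
  have hscard : s.card = B0.index - 1 := by
    rw [hs, Finset.card_image_of_injective _ fun c c' h => by
        rw [← hrC c, ← hrC c', Subtype.ext h],
      Finset.card_erase_of_mem (Finset.mem_univ _), Finset.card_univ, Subgroup.index_eq_card,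
      Nat.card_eq_fintype_card]
  have hindex : Nat.card ↥A = Nat.card ↥A0 * B0.index := by
    rw [← Nat.card_congr (Subgroup.subgroupOfEquivOfLe hA0A).toEquiv, Subgroup.card_mul_index]
  have hPfix : A0 ≤ Subgroup.centralizer (P : Set G) := by
    refine Subgroup.le_centralizer_iff.mp (Finset.sup_le fun t ht => Subgroup.zpowers_le.mpr ?_)
    intro a ha
    calc a * (t * w * t⁻¹) = a * t * w * (a * t)⁻¹ * a := by group
      _ = t * (a * w * a⁻¹) * t⁻¹ * a := by rw [hAc a (hA0A ha) t (hnot t ht).1]; group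
      _ = t * w * t⁻¹ * a := by rw [hwfix a ha]
  have hPtriv : P ⊓ Subgroup.centralizer (A : Set G) = ⊥ := by
    rw [Subgroup.eq_bot_iff_forall]
    intro y hy
    have hPE : P ≤ Subgroup.centralizer (E : Set G) := Finset.sup_le fun t ht =>
      Subgroup.zpowers_le.mpr (conj_mem_centralizer (hmove t (hnot t ht).2) (hWE hwW)).1
    refine hPind y hy.1 fun t ht => ?_
    rw [show t⁻¹ * y * t = y by rw [mul_assoc, ← hy.2 t (hnot t ht).1, inv_mul_cancel_left]]
    exact hPE hy.1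
  have hbound := card_mul_le hA hA0A (hPM.trans hMT) (CfsgLib.PLocal.isEA_mono hMEA hPM) hPfix
  rw [hPtriv, Subgroup.card_bot, mul_one, hindex] at hbound
  have hidx : p ^ (B0.index - 1) ≤ B0.index := by
    rw [← hscard]
    exact le_trans hPcard (Nat.le_of_mul_le_mul_left hbound Nat.card_pos)
  have hn2 : 2 ≤ B0.index := by
    have h0 : B0.index ≠ 0 := Subgroup.index_ne_zero_of_finite
    have h1 : B0.index ≠ 1 := fun h => hAE fun a ha => by
      have h2 : (⟨a, ha⟩ : ↥A) ∈ B0 := by rw [Subgroup.index_eq_one.mp h]; exact Subgroup.mem_top _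
      exact (Subgroup.mem_subgroupOf.mp h2).2
    omega
  obtain ⟨hp2, hidx2⟩ : p = 2 ∧ B0.index = 2 := by
    obtain ⟨k, hk⟩ : ∃ k, B0.index = k + 2 := ⟨B0.index - 2, by omega⟩
    rw [hk, show k + 2 - 1 = k + 1 by omega] at hidx
    have hp := (Fact.out : p.Prime).two_le
    have h1 : 2 ^ (k + 1) ≤ p ^ (k + 1) := Nat.pow_le_pow_left hp _
    have h2 := Nat.lt_two_pow_self (n := k)
    rw [pow_succ] at h1
    have hk0 : k = 0 := by omega
    subst hk0
    rw [zero_add, pow_one] at hidx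
    omega
  subst hp2
  obtain ⟨a, ha, haE⟩ := SetLike.not_le_iff_exists.mp hAE
  have hEa := hmove a haE
  have ha2 : a * a = 1 := by rw [← pow_two]; exact hA.2.1.2 a ha
  set W := bW 2 E with hW
  have hEW := le_normalizer_bW hE
  have hA0W : A0 ≤ Subgroup.normalizer (W : Set G) := hA0N.trans (normalizer_le_normalizer_bW E)
  have hA0p : IsPGroup 2 ↥A0 := hAp.to_le hA0A
  have hCE : ∀ y ∈ W, y ∈ Subgroup.centralizer (A : Set G) → y ∈ Subgroup.centralizer (E : Set G) := by
    intro y hy hyA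
    have h := (conj_mem_centralizer hEa (hWE hy)).1
    rwa [hyA a ha, mul_inv_cancel_right] at h
  -- only one nontrivial fixed class
  have huniq : ∀ v ∈ W, (∀ b ∈ A0, b * v * b⁻¹ * v⁻¹ ∈ Subgroup.centralizer (E : Set G)) →
      v ∈ Subgroup.centralizer (E : Set G) ∨ w⁻¹ * v ∈ Subgroup.centralizer (E : Set G) := by
    intro v hv hvfix
    by_cases hvC : v ∈ Subgroup.centralizer (E : Set G)
    · exact Or.inl hvC
    right
    obtain ⟨k, hk, hvk, hkfix⟩ := exists_fixed_lift hG hE hA0N hv hvfix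
    set X := W ⊓ Subgroup.centralizer (A0 : Set G) with hX
    set Y := X ⊓ Subgroup.centralizer (A : Set G) with hY
    have hb := card_mul_le hA hA0A (X := X) ((inf_le_left.trans hWM).trans hMT)
      (CfsgLib.PLocal.isEA_mono hMEA (inf_le_left.trans hWM))
      (Subgroup.le_centralizer_iff.mp inf_le_right)
    rw [hindex, hidx2, mul_assoc] at hb
    have hXY : Nat.card ↥X ≤ 2 * Nat.card ↥Y := Nat.le_of_mul_le_mul_left hb Nat.card_pos
    have hkX : k ∈ X := Subgroup.mem_inf.mpr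
      ⟨hk, fun b hb => mul_inv_eq_iff_eq_mul.mp (hkfix b hb)⟩
    have hwX : w ∈ X := Subgroup.mem_inf.mpr
      ⟨hwW, fun b hb => mul_inv_eq_iff_eq_mul.mp (hwfix b hb)⟩
    have hkY : k ∉ Y := fun h => hvC (by
      have h2 := mul_mem (hCE k hk h.2) (inv_mem hvk)
      simpa using h2)
    have hwY : w ∉ Y := fun h => hwC (hCE w hwW h.2)
    have hi : (Y.subgroupOf X).index = 2 := by
      have h1 : Nat.card ↥X = Nat.card ↥Y * (Y.subgroupOf X).index := by
        rw [← Nat.card_congr (Subgroup.subgroupOfEquivOfLe (inf_le_left : Y ≤ X)).toEquiv,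
          Subgroup.card_mul_index]
      have h2 : (Y.subgroupOf X).index ≠ 1 := fun h => by
        have h3 := Subgroup.index_eq_one.mp h
        exact hwY (Subgroup.mem_subgroupOf.mp (h3 ▸ Subgroup.mem_top (⟨w, hwX⟩ : ↥X)))
      have h0 : (Y.subgroupOf X).index ≠ 0 := Subgroup.index_ne_zero_of_finite
      have hpos : 0 < Nat.card ↥Y := Nat.card_pos
      nlinarith [Nat.two_le_iff _ |>.mpr ⟨h0, h2⟩]
    have hmem : (⟨w, hwX⟩ : ↥X)⁻¹ * ⟨k, hkX⟩ ∈ Y.subgroupOf X := by
      rw [Subgroup.mul_mem_iff_of_index_two hi, inv_mem_iff, Subgroup.mem_subgroupOf,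
        Subgroup.mem_subgroupOf]
      exact iff_of_false hwY hkY
    have h3 := hCE _ (W.mul_mem (W.inv_mem hwW) hk) (Subgroup.mem_inf.mp (Subgroup.mem_subgroupOf.mp hmem)).2
    have h4 := mul_mem h3 (inv_mem hvk)
    rwa [show w⁻¹ * k * (v⁻¹ * k)⁻¹ = w⁻¹ * v by group] at h4
  -- the module modulo fixed points
  let D : Subgroup ↥W := (W ⊓ Subgroup.centralizer (E : Set G)).subgroupOf W
  letI : CommGroup ↥W :=
    { (inferInstance : Group ↥W) with
      mul_comm := fun u v => Subtype.ext (hMcomm _ (hWM u.2) _ (hWM v.2)).eq }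
  let f : ↥A0 → ↥W →* ↥W := fun g =>
    { toFun := fun u => ⟨(g : G) * u * (g : G)⁻¹, conj_mem' (hA0W g.2) u.2⟩
      map_one' := Subtype.ext (by simp)
      map_mul' := fun u v => Subtype.ext (by simp [mul_assoc]) }
  have hf : ∀ g : ↥A0, D ≤ D.comap (f g) := fun g u hu =>
    Subgroup.mem_subgroupOf.mpr (Subgroup.mem_inf.mpr
      ⟨(f g u).2, conj_centralizer_mem (hA0N g.2) hu.2⟩)
  let Λ : ↥A0 →* Monoid.End (↥W ⧸ D) :=
    { toFun := fun g => QuotientGroup.map D D (f g) (hf g)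
      map_one' := DFunLike.ext _ _ fun u => by
        induction u using QuotientGroup.induction_on with
        | H a =>
          show ((f 1 a : ↥W) : ↥W ⧸ D) = (a : ↥W ⧸ D)
          exact congrArg _ (Subtype.ext (by simp [f]))
      map_mul' := fun g h => DFunLike.ext _ _ fun u => by
        induction u using QuotientGroup.induction_on with
        | H a =>
          show ((f (g * h) a : ↥W) : ↥W ⧸ D) = ((f g (f h a) : ↥W) : ↥W ⧸ D)
          exact congrArg _ (Subtype.ext (by simp [f, mul_assoc])) }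
  have hΛ : ∀ (g : ↥A0) (v : ↥W), Λ g (v : ↥W ⧸ D) = (v : ↥W ⧸ D) ↔
      (g : G) * v * (g : G)⁻¹ * (v : G)⁻¹ ∈ Subgroup.centralizer (E : Set G) := by
    intro g v
    show ((f g v : ↥W) : ↥W ⧸ D) = (v : ↥W ⧸ D) ↔ _
    rw [eq_comm, QuotientGroup.eq, Subgroup.mem_subgroupOf, Subgroup.mem_inf, mul_comm v⁻¹]
    exact ⟨fun h => h.2, fun h => ⟨(f g v * v⁻¹).2, h⟩⟩
  set w' : ↥W := ⟨w, hwW⟩
  have hu0 : (w' : ↥W ⧸ D) ≠ 1 := fun h =>
    hwC (Subgroup.mem_subgroupOf.mp ((QuotientGroup.eq_one_iff w').mp h)).2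
  have hu0fix : ∀ g, Λ g (w' : ↥W ⧸ D) = (w' : ↥W ⧸ D) := fun g => (hΛ g w').mpr (by
    show (g : G) * w * (g : G)⁻¹ * w⁻¹ ∈ _
    rw [hwfix g g.2, mul_inv_cancel]; exact one_mem _)
  have hsq : ∀ u : ↥W ⧸ D, u * u = 1 := fun u => by
    induction u using QuotientGroup.induction_on with
    | H b =>
      rw [← QuotientGroup.mk_mul, show b * b = 1 from Subtype.ext (by
        show (b : G) * b = 1
        rw [← pow_two]; exact hMEA.2 _ (hWM b.2)), QuotientGroup.mk_one]
  have honly : ∀ u : ↥W ⧸ D, (∀ g, Λ g u = u) → u = 1 ∨ u = (w' : ↥W ⧸ D) := by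
    intro u hu
    induction u using QuotientGroup.induction_on with
    | H v =>
      rcases huniq v v.2 (fun b hb => (hΛ ⟨b, hb⟩ v).mp (hu ⟨b, hb⟩)) with h | h
      · exact Or.inl ((QuotientGroup.eq_one_iff v).mpr (Subgroup.mem_subgroupOf.mpr
          (Subgroup.mem_inf.mpr ⟨v.2, h⟩)))
      · refine Or.inr (Eq.symm (QuotientGroup.eq.mpr (Subgroup.mem_subgroupOf.mpr
          (Subgroup.mem_inf.mpr ⟨(w'⁻¹ * v).2, h⟩))))
  have hR : 2 * Nat.card (Set.range Λ) ≤ uCard 2 E := by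
    refine le_trans (two_mul_card_le hsq (Set.range Λ) ⟨1, map_one Λ⟩ ?_ ?_
      hu0 ?_ fun N hN hNne => ?_) (le_of_eq (Subgroup.index_eq_card D).symm)
    · rintro _ ⟨g, rfl⟩ _ ⟨h, rfl⟩; exact ⟨g * h, map_mul Λ g h⟩
    · rintro _ ⟨g, rfl⟩ _ ⟨h, rfl⟩
      rw [← map_mul, ← map_mul]
      exact congrArg Λ (Subtype.ext (hAc _ (hA0A g.2) _ (hA0A h.2)))
    · rintro _ ⟨g, rfl⟩; exact hu0fix g
    · letI : MulAction ↥A0 ↥N :=
        { smul := fun g u => ⟨Λ g u, hN _ ⟨g, rfl⟩ u u.2⟩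
          one_smul := fun u => Subtype.ext (by show Λ 1 (u : ↥W ⧸ D) = _; rw [map_one]; rfl)
          mul_smul := fun g h u => Subtype.ext (by
            show Λ (g * h) (u : ↥W ⧸ D) = Λ g (Λ h u); rw [map_mul]; rfl) }
      have hNp : IsPGroup 2 ↥N := fun u => ⟨1, Subtype.ext (by
        rw [pow_one, pow_two]; exact hsq u.1)⟩
      have hdvd : 2 ∣ Nat.card ↥N := by
        obtain ⟨k, hk⟩ := IsPGroup.iff_card.1 hNp
        rcases k with _ | k
        · exact absurd (Subgroup.eq_bot_of_card_eq N (by simpa using hk)) hNne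
        · exact hk ▸ dvd_pow_self 2 (Nat.succ_ne_zero k)
      obtain ⟨u, hu, hu1⟩ := hA0p.exists_fixed_point_of_prime_dvd_card_of_fixed_point ↥N hdvd
        (a := 1) (fun g => Subtype.ext (map_one (Λ g)))
      rcases honly u (fun g => congrArg Subtype.val (hu g)) with h | h
      · exact absurd (Subtype.ext h).symm hu1
      · exact h ▸ u.2
  -- the kernel centralizes `W`
  set B := A0 ⊓ Subgroup.centralizer (W : Set G) with hB
  have hA0B : Nat.card ↥A0 ≤ Nat.card ↥B * Nat.card (Set.range Λ) := by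
    choose g hg using fun u : (Set.range Λ) => u.2
    let F : ↥A0 → ↥B × (Set.range Λ) := fun b =>
      (⟨((g ⟨Λ b, b, rfl⟩)⁻¹ * b : ↥A0), by
        refine Subgroup.mem_inf.mpr ⟨SetLike.coe_mem _, ?_⟩
        refine centralizes_of_stable hG hE (hA0N (SetLike.coe_mem _)) (hA0W (SetLike.coe_mem _))
          fun u hu => (hΛ _ ⟨u, hu⟩).mp ?_
        have h : Λ ((g ⟨Λ b, b, rfl⟩)⁻¹ * b) = 1 :=
          (map_mul Λ _ _).trans ((congrArg (Λ (g ⟨Λ b, b, rfl⟩)⁻¹ * ·) (hg ⟨Λ b, b, rfl⟩).symm).trans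
            (by rw [← map_mul, inv_mul_cancel, map_one]))
        rw [h]; rfl⟩, ⟨Λ b, b, rfl⟩)
    have hF : Function.Injective F := fun b b' h => by
      have h2 : (⟨Λ b, b, rfl⟩ : (Set.range Λ)) = ⟨Λ b', b', rfl⟩ := congrArg Prod.snd h
      have h1 := congrArg Subtype.val (congrArg Prod.fst h)
      simp only [F] at h1
      rw [h2] at h1
      exact mul_left_cancel (Subtype.ext h1)
    exact (Nat.card_le_card_of_injective F hF).trans (le_of_eq (Nat.card_prod _ _))
  -- the two modules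
  set W2 := W.map (MulAut.conj a).toMonoidHom with hW2
  have hW2M : W2 ≤ M := by
    rintro _ ⟨u, hu, rfl⟩
    exact conj_mem' (hMn a) (hWM hu)
  set Y := W ⊔ W2 with hY
  have hYM : Y ≤ M := sup_le hWM hW2M
  have hBY : B ≤ Subgroup.centralizer (Y : Set G) := by
    refine Subgroup.le_centralizer_iff.mp (sup_le (Subgroup.le_centralizer_iff.mp inf_le_right) ?_)
    rintro _ ⟨u, hu, rfl⟩ b hb
    show b * (a * u * a⁻¹) = a * u * a⁻¹ * b
    have hab : a * b = b * a := hAc a ha b (hA0A hb.1)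
    calc b * (a * u * a⁻¹) = b * a * u * a⁻¹ := by group
      _ = a * (b * u) * a⁻¹ := by rw [← hab]; group
      _ = a * (u * b) * a⁻¹ := by rw [show u * b = b * u from hb.2 u hu]
      _ = a * u * a⁻¹ * b := by
        have : b * a⁻¹ = a⁻¹ * b := by
          rw [eq_inv_mul_iff_mul_eq, ← mul_assoc, hab, mul_inv_cancel_right]
        rw [← mul_assoc, mul_assoc _ b, this]; group
  have hb := card_mul_le hA (inf_le_left.trans hA0A : B ≤ A) (hYM.trans hMT)
    (CfsgLib.PLocal.isEA_mono hMEA hYM) hBY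
  set CY := Y ⊓ Subgroup.centralizer (A : Set G) with hCY
  -- index of the fixed points
  let V := ↥W ⧸ D
  let χ : ↥W × ↥W →* V × V := MonoidHom.prodMap (QuotientGroup.mk' D) (QuotientGroup.mk' D)
  let Z : Subgroup (V × V) := Subgroup.zpowers ((w' : V), (w' : V))
  have hχ : Function.Surjective χ := fun uv => by
    obtain ⟨u, hu⟩ := QuotientGroup.mk'_surjective D uv.1
    obtain ⟨v, hv⟩ := QuotientGroup.mk'_surjective D uv.2
    exact ⟨(u, v), Prod.ext hu hv⟩
  letI : CommGroup ↥Y :=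
    { (inferInstance : Group ↥Y) with
      mul_comm := fun u v => Subtype.ext (hMcomm _ (hYM u.2) _ (hYM v.2)).eq }
  let ψ : ↥W × ↥W →* ↥Y :=
    { toFun := fun u => ⟨(u.1 : G) * (a * u.2 * a⁻¹),
        mul_mem (Subgroup.mem_sup_left u.1.2) (Subgroup.mem_sup_right ⟨u.2, u.2.2, rfl⟩)⟩
      map_one' := Subtype.ext (by simp)
      map_mul' := fun u v => Subtype.ext (by
        show ((u.1 : G) * v.1) * (a * ((u.2 : G) * v.2) * a⁻¹) =
          (u.1 : G) * (a * u.2 * a⁻¹) * ((v.1 : G) * (a * v.2 * a⁻¹))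
        rw [show ((u.1 : G) * v.1) * (a * ((u.2 : G) * v.2) * a⁻¹) =
          (u.1 : G) * ((v.1 : G) * (a * u.2 * a⁻¹)) * (a * v.2 * a⁻¹) by group,
          (hMcomm _ (hWM v.1.2) _ (conj_mem' (hMn a) (hWM u.2.2))).eq]
        group) }
  have hψker : ((QuotientGroup.mk' (CY.subgroupOf Y)).comp ψ).ker ≤ Z.comap χ := by
    intro u hu
    have hfix := (Subgroup.mem_subgroupOf.mp ((QuotientGroup.eq_one_iff (ψ u)).mp hu)).2
    set y := (u.1 : G) * (a * u.2 * a⁻¹) with hy
    have hEa' : ∀ v ∈ W, a * v * a⁻¹ ∈ Subgroup.centralizer (E : Set G) := fun v hv =>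
      (conj_mem_centralizer hEa (hWE hv)).1
    have hflip : (u.1 : G) * (a * u.2 * a⁻¹) = u.2 * (a * u.1 * a⁻¹) := by
      have h1 : a * y * a⁻¹ = y := by
        rw [show a * y = y * a from hfix a ha, mul_inv_cancel_right]
      have h2 : a * a * (u.2 : G) * (a * a)⁻¹ = (u.2 : G) := by rw [ha2]; group
      calc (u.1 : G) * (a * u.2 * a⁻¹) = a * y * a⁻¹ := h1.symm
        _ = a * u.1 * a⁻¹ * (a * a * u.2 * (a * a)⁻¹) := by rw [hy]; group
        _ = _ := by rw [h2, (hMcomm _ (conj_mem' (hMn a) (hWM u.1.2)) _ (hWM u.2.2)).eq]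
    have hdiff : (u.2 : G)⁻¹ * u.1 ∈ Subgroup.centralizer (E : Set G) := by
      have e : (u.2 : G)⁻¹ * u.1 = (a * u.1 * a⁻¹) * (a * u.2 * a⁻¹)⁻¹ := by
        rw [eq_mul_inv_iff_mul_eq, mul_assoc, hflip, inv_mul_cancel_left]
      rw [e]
      exact mul_mem (hEa' _ u.1.2) (inv_mem (hEa' _ u.2.2))
    have hcls : ∀ b ∈ A0, b * u.1 * b⁻¹ * (u.1 : G)⁻¹ ∈ Subgroup.centralizer (E : Set G) := by
      intro b hb
      have hyb : b * y * b⁻¹ = y := by rw [show b * y = y * b from hfix b (hA0A hb), mul_inv_cancel_right]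
      have hab : b * a = a * b := hAc b (hA0A hb) a ha
      set d := b * u.2 * b⁻¹ * (u.2 : G)⁻¹ with hd
      have hdW : d ∈ W := W.mul_mem (conj_mem' (hA0W hb) u.2.2) (W.inv_mem u.2.2)
      have e : b * u.1 * b⁻¹ * (u.1 : G)⁻¹ = (a * d * a⁻¹)⁻¹ := by
        have e1 : b * y * b⁻¹ = b * u.1 * b⁻¹ * (a * (d * u.2) * a⁻¹) := by
          rw [hy, hd]
          calc b * ((u.1 : G) * (a * u.2 * a⁻¹)) * b⁻¹ = b * u.1 * b⁻¹ * (b * a * u.2 * (b * a)⁻¹) := by group
            _ = b * u.1 * b⁻¹ * (a * b * u.2 * (a * b)⁻¹) := by rw [hab]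
            _ = _ := by group
        rw [hyb] at e1
        rw [mul_inv_eq_iff_eq_mul, eq_inv_mul_iff_mul_eq,
          (hMcomm _ (conj_mem' (hMn a) (hWM hdW)) _ (conj_mem' (hMn b) (hWM u.1.2))).eq]
        calc b * u.1 * b⁻¹ * (a * d * a⁻¹)
            = b * u.1 * b⁻¹ * (a * (d * u.2) * a⁻¹) * (a * u.2 * a⁻¹)⁻¹ := by group
          _ = (u.1 : G) := by rw [← e1, hy]; group
      rw [e]
      exact inv_mem (hEa' d hdW)
    have heq : ((u.2 : ↥W) : V) = ((u.1 : ↥W) : V) :=
      QuotientGroup.eq.mpr (Subgroup.mem_subgroupOf.mpr (Subgroup.mem_inf.mpr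
        ⟨((u.2)⁻¹ * u.1).2, hdiff⟩))
    rcases honly (u.1 : V) (fun g => (hΛ g u.1).mpr (hcls g g.2)) with h | h
    · exact ⟨0, by show _ = ((u.1 : V), (u.2 : V)); rw [heq, h]; exact zpow_zero _⟩
    · exact ⟨1, by show _ = ((u.1 : V), (u.2 : V)); rw [heq, h]; exact zpow_one _⟩
  have hd : uCard 2 E * uCard 2 E ≤ 2 * (Y ⊓ Subgroup.centralizer (A : Set G)).relIndex Y := by
    have hVc : Nat.card V = uCard 2 E := (Subgroup.index_eq_card D).symm
    have hZ : Nat.card ↥Z = 2 := by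
      rw [Nat.card_zpowers]
      exact orderOf_eq_prime (Prod.ext (by rw [pow_two]; exact hsq _) (by rw [pow_two]; exact hsq _))
        fun h => hu0 (congrArg Prod.fst h)
    have h1 : uCard 2 E * uCard 2 E = 2 * (Z.comap χ).index := by
      have h := Subgroup.card_mul_index Z
      rw [hZ, Nat.card_prod, hVc] at h
      rw [Subgroup.index_comap_of_surjective _ hχ, h]
    rw [h1]
    refine Nat.mul_le_mul_left 2 ?_
    refine le_trans (Nat.le_of_dvd ?_ (Subgroup.index_dvd_of_le hψker)) ?_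
    · exact Nat.pos_of_ne_zero Subgroup.index_ne_zero_of_finite
    · rw [Subgroup.index_ker, Subgroup.relIndex, Subgroup.index_eq_card]
      exact Subgroup.card_le_card_group _
  have hYc : Nat.card ↥Y = Nat.card ↥CY * CY.relIndex Y := by
    rw [← Nat.card_congr (Subgroup.subgroupOfEquivOfLe (inf_le_left : CY ≤ Y)).toEquiv,
      Subgroup.relIndex, Subgroup.card_mul_index]
  rw [hYc, hindex, hidx2] at hb
  have hd4 := sq_le_uCard hG hE
  have hBpos : 0 < Nat.card ↥B := Nat.card_pos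
  have hYpos : 0 < Nat.card ↥CY := Nat.card_pos
  have h5 : Nat.card ↥B * CY.relIndex Y ≤ Nat.card ↥B * uCard 2 E := by
    refine Nat.le_of_mul_le_mul_left ?_ hYpos
    calc Nat.card ↥CY * (Nat.card ↥B * CY.relIndex Y)
        = Nat.card ↥B * (Nat.card ↥CY * CY.relIndex Y) := by ring
      _ ≤ Nat.card ↥A0 * 2 * Nat.card ↥CY := hb
      _ ≤ Nat.card ↥B * Nat.card (Set.range Λ) * 2 * Nat.card ↥CY := by gcongr
      _ = Nat.card ↥CY * (Nat.card ↥B * (2 * Nat.card (Set.range Λ))) := by ring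
      _ ≤ _ := by gcongr
  have h6 : CY.relIndex Y ≤ uCard 2 E := Nat.le_of_mul_le_mul_left h5 hBpos
  have h7 : uCard 2 E * uCard 2 E ≤ uCard 2 E * 2 := by
    calc uCard 2 E * uCard 2 E ≤ 2 * CY.relIndex Y := hd
      _ ≤ 2 * uCard 2 E := Nat.mul_le_mul_left 2 h6
      _ = _ := by ring
  have h8 := Nat.le_of_mul_le_mul_left h7 (by omega)
  omega

omit hG in
/-- A central involution-type element fixed by `J(T)` lies in `Ω₁(Z(J(T)))`. -/
theorem mem_omega_centerThompson {T : Sylow p G} {w : G}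
    (hwM : w ∈ Cfsg.omegaOneCenter p (Cfsg.pCore p G))
    (hwfix : ∀ b ∈ Cfsg.thompsonSubgroupOf p (T : Subgroup G), b * w * b⁻¹ = w) :
    w ∈ Cfsg.omegaOne p (Cfsg.centerThompsonOf p (T : Subgroup G)) := by
  classical
  set J := Cfsg.thompsonSubgroupOf p (T : Subgroup G) with hJ
  have hwT : w ∈ (T : Subgroup G) :=
    (((CfsgLib.PLocal.omegaOne_le p _).trans inf_le_left).trans (CfsgLib.Solvable.pCore_le_sylow T)) hwM
  have hwp : w ^ p = 1 := (CfsgLib.PLocal.omegaCenter_isEA (Cfsg.pCore p G)).2 w hwM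
  obtain ⟨A, hA⟩ := CfsgLib.PLocal.exists_maxEAIn (G := G) p (T : Subgroup G)
  have hAJ : A ≤ J := by rw [hJ, CfsgLib.PLocal.thompsonSubgroupOf_eq]; exact le_sSup hA
  have hwA : w ∈ A := by
    have hz : Cfsg.IsElementaryAbelian p (Subgroup.zpowers w) :=
      CfsgLib.PLocal.isEA_mono (CfsgLib.PLocal.omegaCenter_isEA (Cfsg.pCore p G))
        (Subgroup.zpowers_le.mpr hwM)
    have hc : A ≤ Subgroup.centralizer (Subgroup.zpowers w : Set G) := by
      refine Subgroup.le_centralizer_iff.mp (Subgroup.zpowers_le.mpr fun b hb => ?_)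
      exact mul_inv_eq_iff_eq_mul.mp (hwfix b (hAJ hb))
    have h := card_mul_le hA le_rfl (Subgroup.zpowers_le.mpr hwT) hz hc
    by_contra hwA
    have hbot : Subgroup.zpowers w ⊓ Subgroup.centralizer (A : Set G) = Subgroup.zpowers w :=
      inf_eq_left.mpr (Subgroup.le_centralizer_iff.mp hc)
    -- `A⟨w⟩` is elementary abelian, so it is `A`
    have hn : A ≤ Subgroup.normalizer (Subgroup.zpowers w : Set G) := fun b hb =>
      mem_normalizer_of_le fun x hx => by rwa [← hc hb x hx, mul_inv_cancel_right]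
    have hEA : Cfsg.IsElementaryAbelian p (A ⊔ Subgroup.zpowers w) := by
      have hmem : ∀ z ∈ A ⊔ Subgroup.zpowers w, ∃ a ∈ A, ∃ x ∈ Subgroup.zpowers w, a * x = z := by
        intro z hz
        rwa [← SetLike.mem_coe, Subgroup.coe_mul_of_left_le_normalizer_right A _ hn, Set.mem_mul] at hz
      refine ⟨Subgroup.le_centralizer_iff_isMulCommutative.mp fun u hu v hv => ?_, fun u hu => ?_⟩
      · obtain ⟨a, ha, x, hx, rfl⟩ := hmem u hu
        obtain ⟨b, hb, y, hy, rfl⟩ := hmem v hv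
        exact ((CfsgLib.PLocal.commute_of_mem_comm hA.2.1.1 hb ha).mul_right (hc hb x hx).symm).mul_left
          ((show Commute y a from hc ha y hy).mul_right
            (CfsgLib.PLocal.commute_of_mem_comm hz.1 hy hx))
      · obtain ⟨a, ha, x, hx, rfl⟩ := hmem u hu
        rw [(show Commute a x from (hc ha x hx).symm).mul_pow, hA.2.1.2 a ha, hz.2 x hx, mul_one]
    have hle := hA.2.2 _ (sup_le hA.1 (Subgroup.zpowers_le.mpr hwT)) hEA
    have heq := Subgroup.eq_of_le_of_card_ge (le_sup_left : A ≤ A ⊔ Subgroup.zpowers w) hle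
    exact hwA (heq ▸ Subgroup.mem_sup_right (Subgroup.mem_zpowers w))
  exact Subgroup.subset_closure ⟨Subgroup.mem_inf.mpr ⟨hAJ hwA, fun b hb =>
      mul_inv_eq_iff_eq_mul.mp (hwfix b hb)⟩, hwp⟩

/-- `B(T)` normalizes a subnormal block. -/
theorem baumann_le_normalizer {E : Subgroup G} (hE : IsBlock p E) (hEs : E.IsSubnormal) (T : Sylow p G) :
    Cfsg.baumannSubgroupOf p (T : Subgroup G) ≤ Subgroup.normalizer (E : Set G) := by
  classical
  set J := Cfsg.thompsonSubgroupOf p (T : Subgroup G) with hJ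
  have hJN : J ≤ Subgroup.normalizer (E : Set G) := by
    rw [hJ, CfsgLib.PLocal.thompsonSubgroupOf_eq]
    exact sSup_le fun A hA => maxEA_le_normalizer hG hE hEs T hA
  have hJp : IsPGroup p ↥J := T.2.to_le (CfsgLib.PLocal.thompsonSubgroupOf_le p _)
  obtain ⟨w, hwW, hwC, hwfix⟩ := exists_fixed_mem hG hE hJp hJN
  have hwM := bW_le_omega hE hG hwW
  have hwZ := mem_omega_centerThompson hwM hwfix
  intro b hb
  by_contra hbE
  have hcomm := (eq_or_commute_of_isSubnormal hG hE (hE.conj b) hEs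
    (CfsgLib.Components.isSubnormal_map_conj hEs b)).resolve_left
    fun h => hbE (Subgroup.mem_normalizer_iff_map_conj_eq.mpr h.symm)
  apply hwC
  have h := (conj_mem_centralizer hcomm (bW_le hE hwW)).1
  rwa [← hb.2 w hwZ, mul_inv_cancel_right] at h

end CfsgLib.BlockPair
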