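import Cfsg.Agent.Lib.BlockNorm.Cubic

/-!
# Commutants of the natural modules
-/

set_option autoImplicit false
set_option linter.unusedSectionVars false

open Matrix
open scoped MatrixGroups

namespace CfsgLib.BlockPair

variable {F : Type*} [Field F] [Fintype F]

/-- In characteristic three the commutant of the derived group of `SL₂(F)` is `F`. -/
theorem exists_scalar_char_three [CharP F 3] (S : (Fin 2 → F) →+ (Fin 2 → F))
    (h : ∀ g ∈ commutator (SpecialLinearGroup (Fin 2) F), ∀ u,
      S ((g : Matrix (Fin 2) (Fin 2) F).mulVec u) = (g : Matrix (Fin 2) (Fin 2) F).mulVec (S u)) :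
    ∃ k : F, ∀ u, S u = k • u := by
  rcases le_or_gt 4 (Fintype.card F) with h4 | h4
  · exact CfsgLib.BlockNorm.exists_scalar_of_commute S fun g =>
      h g (CfsgLib.BlockNorm.commutator_eq_top h4 ▸ Subgroup.mem_top g)
  have h30 := CfsgLib.BlockNorm.three_eq_zero (F := F)
  have h3 : Fintype.card F = 3 := by
    have h1 := Fintype.one_lt_card (α := F)
    have h2 : Fintype.card F ≠ 2 := by
      intro h2
      have := FiniteField.cast_card_eq_zero F
      rw [h2] at this
      exact one_ne_zero (α := F) (by linear_combination h30 - this)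
    omega
  have hlin : ∀ (c : F) u, S (c • u) = c • S u := by
    intro c u
    obtain ⟨n, rfl⟩ := CfsgLib.BlockNorm.exists_natCast_of_card_three h3 c
    rw [Nat.cast_smul_eq_nsmul, Nat.cast_smul_eq_nsmul, map_nsmul]
  set a := S ![1, 0] with ha
  set b := S ![0, 1] with hb
  have hS : ∀ u, S u = u 0 • a + u 1 • b := fun u => by
    conv_lhs => rw [show u = u 0 • ![1, 0] + u 1 • ![0, 1] by ext i; fin_cases i <;> simp]
    rw [map_add, hlin, hlin]
  obtain ⟨g, hg, hgv⟩ := CfsgLib.LocalEven.BBlock.sl2_commutator_element_mem F 1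
  obtain ⟨g', hg', hgv'⟩ := CfsgLib.LocalEven.BBlock.sl2_commutator_element_mem F (-1)
  have e1 := h g hg ![1, 0]
  have e2 := h g' hg' ![1, 0]
  rw [hgv, hS, ← ha] at e1
  rw [hgv', hS, ← ha] at e2
  have p0 : (1 + 1) * a 0 + b 0 = (1 + 1) * a 0 + a 1 := by
    simpa [mulVec, dotProduct, Fin.sum_univ_two] using congrFun e1 0
  have p1 : (1 + 1) * a 1 + b 1 = a 0 + a 1 := by
    simpa [mulVec, dotProduct, Fin.sum_univ_two] using congrFun e1 1
  have q1 : (1 + 1) * a 1 + -b 1 = -a 0 + a 1 := by
    simpa [mulVec, dotProduct, Fin.sum_univ_two] using congrFun e2 1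
  have ha1 : a 1 = 0 := by linear_combination a 1 * h30 - p1 - q1
  have hb0 : b 0 = 0 := by linear_combination p0 + ha1
  have hb1 : b 1 = a 0 := by linear_combination p1 - ha1
  refine ⟨a 0, fun u => ?_⟩
  rw [hS]
  ext i
  fin_cases i <;> simp [ha1, hb0, hb1, mul_comm]

/-- The commutant of an alternating group on its even weight module is trivial. -/
theorem alt_commutant {n : ℕ} (hn : 5 ≤ n) (hodd : Odd n)
    (f : (Fin n → ZMod 2) → (Fin n → ZMod 2))
    (heven : ∀ v, ∑ i, v i = 0 → ∑ i, f v i = 0)
    (hadd : ∀ v v', ∑ i, v i = 0 → ∑ i, v' i = 0 → f (v + v') = f v + f v')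
    (heq : ∀ σ ∈ alternatingGroup (Fin n), ∀ v, ∑ i, v i = 0 →
      f (fun i => v (σ⁻¹ i)) = fun i => f v (σ⁻¹ i))
    (hinj : ∀ v, ∑ i, v i = 0 → f v = 0 → v = 0) :
    ∀ v, ∑ i, v i = 0 → f v = v := by
  classical
  have hz : ∀ x : ZMod 2, x = 0 ∨ x = 1 := by decide
  let e : Fin n → Fin n → (Fin n → ZMod 2) := fun i j => Pi.single i 1 + Pi.single j 1
  have he : ∀ i j, ∑ k, e i j k = 0 := fun i j => by
    simp only [e, Pi.add_apply, Finset.sum_add_distrib, Finset.sum_pi_single', Finset.mem_univ,
      if_true]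
    decide
  have hf0 : f 0 = 0 := by
    have h := hadd 0 0 (by simp) (by simp)
    rw [add_zero] at h
    exact left_eq_add.mp h
  have hout : ∀ s : Finset (Fin n), s.card < n → ∃ k, k ∉ s := fun s hs => by
    by_contra! hc
    rw [Finset.eq_univ_of_forall hc, Finset.card_univ, Fintype.card_fin] at hs
    exact lt_irrefl _ hs
  have hfix : ∀ i j, i ≠ j → ∀ σ ∈ alternatingGroup (Fin n),
      ((σ i = i ∧ σ j = j) ∨ (σ i = j ∧ σ j = i)) → ∀ k, f (e i j) (σ k) = f (e i j) k := by
    intro i j hij σ hσ hor k
    have h := heq σ hσ (e i j) (he i j)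
    have hv : (fun l => e i j (σ⁻¹ l)) = e i j := by
      funext l
      obtain ⟨m, rfl⟩ := σ.surjective l
      rw [Equiv.Perm.inv_def, Equiv.symm_apply_apply]
      simp only [e, Pi.add_apply]
      rcases hor with ⟨h1, h2⟩ | ⟨h1, h2⟩
      · congr 1
        · conv_rhs => rw [← h1]
          by_cases hm : m = i
          · subst hm; simp
          · simp [hm, σ.injective.ne hm]
        · conv_rhs => rw [← h2]
          by_cases hm : m = j
          · subst hm; simp
          · simp [hm, σ.injective.ne hm]
      · conv_rhs => rw [add_comm]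
        congr 1
        · conv_rhs => rw [← h1]
          by_cases hm : m = i
          · subst hm; simp
          · simp [hm, σ.injective.ne hm]
        · conv_rhs => rw [← h2]
          by_cases hm : m = j
          · subst hm; simp
          · simp [hm, σ.injective.ne hm]
    rw [hv] at h
    have h1 := congrFun h (σ k)
    rwa [Equiv.Perm.inv_def, Equiv.symm_apply_apply] at h1
  have hscal : ∀ i j, i ≠ j → f (e i j) = e i j := by
    intro i j hij
    obtain ⟨k, hk⟩ := hout {i, j} ((Finset.card_le_two).trans_lt (by omega))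
    simp only [Finset.mem_insert, Finset.mem_singleton, not_or] at hk
    obtain ⟨hki, hkj⟩ := hk
    have hconst : ∀ l, l ≠ i → l ≠ j → f (e i j) l = f (e i j) k := by
      intro l hli hlj
      by_cases hlk : l = k
      · rw [hlk]
      obtain ⟨q, hq⟩ := hout {i, j, k, l} ((Finset.card_le_four).trans_lt (by omega))
      simp only [Finset.mem_insert, Finset.mem_singleton, not_or] at hq
      obtain ⟨hqi, hqj, hqk, hql⟩ := hq
      have hσ : Equiv.swap k l * Equiv.swap l q ∈ alternatingGroup (Fin n) := by
        simp [Equiv.Perm.mem_alternatingGroup, Equiv.Perm.sign_swap (Ne.symm hlk),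
          Equiv.Perm.sign_swap (Ne.symm hql)]
      have hkq : k ≠ q := Ne.symm hqk
      have h := hfix i j hij _ hσ (Or.inl ⟨by
          rw [Equiv.Perm.mul_apply, Equiv.swap_apply_of_ne_of_ne (Ne.symm hli) (Ne.symm hqi),
            Equiv.swap_apply_of_ne_of_ne (Ne.symm hki) (Ne.symm hli)], by
          rw [Equiv.Perm.mul_apply, Equiv.swap_apply_of_ne_of_ne (Ne.symm hlj) (Ne.symm hqj),
            Equiv.swap_apply_of_ne_of_ne (Ne.symm hkj) (Ne.symm hlj)]⟩) k
      rw [Equiv.Perm.mul_apply, Equiv.swap_apply_of_ne_of_ne (Ne.symm hlk) hkq,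
        Equiv.swap_apply_left] at h
      exact h
    obtain ⟨l, hl⟩ := hout {i, j, k} ((Finset.card_le_three).trans_lt (by omega))
    simp only [Finset.mem_insert, Finset.mem_singleton, not_or] at hl
    obtain ⟨hli, hlj, hlk⟩ := hl
    have hsym : f (e i j) j = f (e i j) i := by
      have hσ : Equiv.swap i j * Equiv.swap k l ∈ alternatingGroup (Fin n) := by
        simp [Equiv.Perm.mem_alternatingGroup, Equiv.Perm.sign_swap hij,
          Equiv.Perm.sign_swap (Ne.symm hlk)]
      have h := hfix i j hij _ hσ (Or.inr ⟨by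
          rw [Equiv.Perm.mul_apply, Equiv.swap_apply_of_ne_of_ne (Ne.symm hki) (Ne.symm hli),
            Equiv.swap_apply_left], by
          rw [Equiv.Perm.mul_apply, Equiv.swap_apply_of_ne_of_ne (Ne.symm hkj) (Ne.symm hlj),
            Equiv.swap_apply_right]⟩) i
      rwa [Equiv.Perm.mul_apply, Equiv.swap_apply_of_ne_of_ne (Ne.symm hki) (Ne.symm hli),
        Equiv.swap_apply_left] at h
    set a := f (e i j) i with ha
    set c := f (e i j) k with hc
    have hform : f (e i j) = fun m => if m = i ∨ m = j then a else c := by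
      funext m
      by_cases hm : m = i ∨ m = j
      · rw [if_pos hm]
        rcases hm with rfl | rfl
        exacts [rfl, hsym]
      · rw [if_neg hm]
        push Not at hm
        exact hconst m hm.1 hm.2
    have hc0 : c = 0 := by
      have h := heven _ (he i j)
      rw [hform, ← Finset.add_sum_erase _ _ (Finset.mem_univ i),
        ← Finset.add_sum_erase _ _ (Finset.mem_erase.mpr ⟨Ne.symm hij, Finset.mem_univ j⟩)] at h
      simp only [true_or, or_true, if_true] at h
      rw [Finset.sum_congr rfl (g := fun _ => c) (fun m hm => by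
        simp only [Finset.mem_erase] at hm
        rw [if_neg (by tauto)]), Finset.sum_const, Finset.card_erase_of_mem
          (Finset.mem_erase.mpr ⟨Ne.symm hij, Finset.mem_univ j⟩),
        Finset.card_erase_of_mem (Finset.mem_univ i), Finset.card_univ, Fintype.card_fin,
        ← add_assoc, CharTwo.add_self_eq_zero, zero_add] at h
      obtain ⟨t, ht⟩ := hodd
      have h2 : (n - 1 - 1) = 2 * (t - 1) + 1 := by omega
      rw [h2, succ_nsmul, mul_nsmul', two_nsmul, CharTwo.add_self_eq_zero, zero_add] at h
      exact h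
    rcases hz a with h0 | h1
    · exfalso
      have h := hinj _ (he i j) (by
        rw [hform]; funext m; simp [h0, hc0])
      have h2 := congrFun h i
      simp [e, hij] at h2
    · rw [hform]
      funext m
      by_cases hm : m = i ∨ m = j
      · rcases hm with rfl | rfl <;> simp [e, h1, hij, Ne.symm hij]
      · push Not at hm
        simp [e, hm.1, hm.2, hc0]
  intro v hv
  obtain ⟨z⟩ : Nonempty (Fin n) := ⟨⟨0, by omega⟩⟩
  have key : ∀ s : Finset (Fin n), z ∉ s →
      f (∑ j ∈ s, v j • e z j) = ∑ j ∈ s, v j • e z j := by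
    intro s hs
    induction s using Finset.induction_on with
    | empty => simpa using hf0
    | @insert a s ha ih =>
      simp only [Finset.mem_insert, not_or] at hs
      rw [Finset.sum_insert ha, hadd _ _ ?_ ?_, ih hs.2]
      · rcases hz (v a) with h | h <;> rw [h]
        · rw [zero_smul, hf0]
        · rw [one_smul, hscal z a hs.1]
      · simp only [Pi.smul_apply, smul_eq_mul, ← Finset.mul_sum, he, mul_zero]
      · simp only [Finset.sum_apply, Pi.smul_apply, smul_eq_mul]
        rw [Finset.sum_comm]
        simp only [← Finset.mul_sum, he, mul_zero, Finset.sum_const_zero]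
  have hvz : v = ∑ j ∈ Finset.univ.erase z, v j • e z j := by
    funext m
    simp only [Finset.sum_apply, Pi.smul_apply, smul_eq_mul, e, Pi.add_apply, mul_add,
      Finset.sum_add_distrib]
    by_cases hm : m = z
    · subst hm
      rw [← Finset.add_sum_erase _ _ (Finset.mem_univ m)] at hv
      have h2 : ∑ j ∈ Finset.univ.erase m, v j * (Pi.single j (1 : ZMod 2) : Fin n → ZMod 2) m = 0 :=
        Finset.sum_eq_zero fun j hj => by simp [Ne.symm (Finset.mem_erase.mp hj).1]
      rw [h2, add_zero]
      simp only [Pi.single_eq_same, mul_one]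
      rw [eq_neg_of_add_eq_zero_left hv, CharTwo.neg_eq]
    · have h1 : ∑ j ∈ Finset.univ.erase z, v j * (Pi.single z (1 : ZMod 2) : Fin n → ZMod 2) m = 0 :=
        Finset.sum_eq_zero fun j _ => by simp [hm]
      rw [h1, zero_add, Finset.sum_eq_single_of_mem m (by simp [hm])]
      · simp
      · intro j _ hjm
        simp [Ne.symm hjm]
  rw [hvz]
  exact key _ (by simp)

end CfsgLib.BlockPair
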