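import Cfsg.Agent.Lib.BlockPair.Facts
import Cfsg.Agent.Lib.BlockPair.Commutant

/-!
# Two blocks each centralizing the module of the other commute
-/

set_option autoImplicit false
set_option linter.unusedSectionVars false
set_option linter.style.haveILetI false

open Matrix
open scoped MatrixGroups commutatorElement

namespace CfsgLib.BlockPair

open CfsgLib.LocalEven CfsgLib.LocalEven.BBlock CfsgLib.BlockNorm

variable {G : Type*} [Group G] [Finite G] {p : ℕ} [Fact p.Prime]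

/-- Commutators in a `p`-group centralized by `E = O^p(E)` vanish. -/
theorem commutator_eq_bot_of_central {E F S : Subgroup G} (hres : Cfsg.pResidualOf p E = E)
    (hS : IsPGroup p ↥S) (hc : ∀ x ∈ E, ∀ f ∈ F, x * f * x⁻¹ * f⁻¹ ∈ S)
    (hSE : S ≤ Subgroup.centralizer (E : Set G)) : ⁅E, F⁆ = ⊥ := by
  rw [Subgroup.commutator_eq_bot_iff_le_centralizer]
  refine residual_induction hres fun x hx hcop f hf => ?_
  set s := x * f * x⁻¹ * f⁻¹ with hs
  have hxs : Commute x s := hSE (hc x hx f hf) x hx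
  have key : ∀ k : ℕ, x ^ k * f * (x ^ k)⁻¹ = s ^ k * f := by
    intro k
    induction k with
    | zero => simp
    | succ k ih =>
      calc x ^ (k + 1) * f * (x ^ (k + 1))⁻¹ = x * (x ^ k * f * (x ^ k)⁻¹) * x⁻¹ := by
            rw [pow_succ']; group
        _ = s ^ k * (x * f * x⁻¹) := by rw [ih, ← mul_assoc, (hxs.pow_right k).eq]; group
        _ = s ^ (k + 1) * f := by rw [pow_succ, hs]; group
  have h1 := key (orderOf x)
  rw [pow_orderOf_eq_one, one_mul, inv_one, mul_one, eq_comm, mul_eq_right] at h1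
  obtain ⟨j, hj⟩ := hS ⟨s, hc x hx f hf⟩
  have h2 : s = 1 := orderOf_eq_one_iff.mp (Nat.eq_one_of_dvd_coprimes (hcop.pow_right j)
    (orderOf_dvd_of_pow_eq_one h1) (orderOf_dvd_of_pow_eq_one (congrArg Subtype.val hj)))
  exact (mul_inv_eq_iff_eq_mul.mp (mul_inv_eq_one.mp h2)).symm

theorem conj_centralizer_mem {W : Subgroup G} {g x : G} (hg : g ∈ Subgroup.normalizer (W : Set G))
    (hx : x ∈ Subgroup.centralizer (W : Set G)) : g * x * g⁻¹ ∈ Subgroup.centralizer (W : Set G) := by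
  intro w hw
  have h1 : g⁻¹ * w * g ∈ W := by simpa using conj_mem' (inv_mem hg) hw
  have h2 := hx _ h1
  calc w * (g * x * g⁻¹) = g * (g⁻¹ * w * g * x) * g⁻¹ := by group
    _ = g * (x * (g⁻¹ * w * g)) * g⁻¹ := by rw [h2]
    _ = g * x * g⁻¹ * w := by group

variable (hG : Subgroup.centralizer (Cfsg.pCore p G : Set G) ≤ Cfsg.pCore p G)

include hG

/-- An element normalizing `E` and centralizing `W` commutes with `E` modulo `O_p(E)`. -/
theorem conj_mem_bQ {E : Subgroup G} (hE : IsBlock p E) {x f : G} (hx : x ∈ E)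
    (hfE : f ∈ Subgroup.normalizer (E : Set G))
    (hfW : f ∈ Subgroup.centralizer (bW p E : Set G)) : x * f * x⁻¹ * f⁻¹ ∈ bQ p E := by
  refine centralizer_bW_inf hE hG ?_ (mul_mem (conj_centralizer_mem (le_normalizer_bW hE hx) hfW)
    (inv_mem hfW))
  rw [show x * f * x⁻¹ * f⁻¹ = x * (f * x⁻¹ * f⁻¹) by group]
  exact mul_mem hx (conj_mem' hfE (inv_mem hx))

/-- If `F` normalizes `E` and centralizes `W_E`, then `E` centralizes `W_F`. -/
theorem le_centralizer_bW {E F : Subgroup G} (hE : IsBlock p E) (hF : IsBlock p F)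
    (hgood : bQ p E ≤ Cfsg.pCore p G) (hFE : F ≤ Subgroup.normalizer (E : Set G))
    (hFW : F ≤ Subgroup.centralizer (bW p E : Set G)) :
    E ≤ Subgroup.centralizer (bW p F : Set G) := by
  set M := Cfsg.omegaOneCenter p (Cfsg.pCore p G) with hM
  have h1 : ⁅⁅F, E⁆, M⁆ = ⊥ := by
    rw [Subgroup.commutator_eq_bot_iff_le_centralizer, Subgroup.commutator_comm]
    refine Subgroup.commutator_le.mpr fun x hx f hf => ?_
    intro m hm
    have h := conj_mem_bQ hG hE hx (hFE hf) (hFW hf)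
    rw [commutatorElement_def]
    exact ((CfsgLib.PLocal.omegaOne_le p _ hm).2 _ (hgood h)).symm
  have h2 : ⁅⁅E, M⁆, F⁆ = ⊥ := by
    rw [Subgroup.commutator_eq_bot_iff_le_centralizer]
    refine Subgroup.commutator_le.mpr fun x hx m hm => ?_
    intro f hf
    rw [commutatorElement_def]
    exact ((hFW hf) _ (conj_omega_mem hE hG hgood hx hm)).symm
  have h3 := Subgroup.commutator_commutator_eq_bot_of_rotate h1 h2
  rw [Subgroup.commutator_eq_bot_iff_le_centralizer] at h3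
  refine Subgroup.le_centralizer_iff.mp (le_trans ?_ h3)
  conv_lhs => rw [← commutator_bW hF hG]
  exact Subgroup.commutator_mono (bW_le_omega hF hG) le_rfl

/-- Blocks normalizing each other and centralizing each other's module commute. -/
theorem commutator_eq_bot_of_centralizes {E F : Subgroup G} (hE : IsBlock p E) (hF : IsBlock p F)
    (hgood : bQ p E ≤ Cfsg.pCore p G) (hEF : E ≤ Subgroup.normalizer (F : Set G))
    (hFE : F ≤ Subgroup.normalizer (E : Set G)) (hEW : E ≤ Subgroup.centralizer (bW p F : Set G))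
    (hFW : F ≤ Subgroup.centralizer (bW p E : Set G)) : ⁅E, F⁆ = ⊥ := by
  classical
  have hQ1 : ∀ x ∈ E, ∀ f ∈ F, x * f * x⁻¹ * f⁻¹ ∈ bQ p E := fun x hx f hf =>
    conj_mem_bQ hG hE hx (hFE hf) (hFW hf)
  have hQ2 : ∀ x ∈ E, ∀ f ∈ F, x * f * x⁻¹ * f⁻¹ ∈ bQ p F := fun x hx f hf => by
    have h := inv_mem (conj_mem_bQ hG hF hf (hEF hx) (hEW hx))
    rwa [show (f * x * f⁻¹ * x⁻¹)⁻¹ = x * f * x⁻¹ * f⁻¹ by group] at h
  have hc : ∀ x ∈ E, ∀ f ∈ F, x * f * x⁻¹ * f⁻¹ ∈ bQ p E ⊓ bQ p F := fun x hx f hf =>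
    ⟨hQ1 x hx f hf, hQ2 x hx f hf⟩
  have hSp : IsPGroup p ↥(bQ p E ⊓ bQ p F) := (pCoreOf_isPGroup p E).to_le inf_le_left
  by_cases hlinF : bQ p F = bW p F
  · refine commutator_eq_bot_of_central (res hE) hSp hc fun s hs x hx => ?_
    exact ((hEW hx) s (hlinF ▸ hs.2)).symm
  rcases exists_ctx_of_good hE hG hgood with hlinE | ⟨hp, F1, iF, iFt, iC, c, cE, cQ, cV, cW, -, -⟩
  · rw [Subgroup.commutator_comm]
    refine commutator_eq_bot_of_central (res hF) hSp (fun f hf x hx => ?_) fun s hs f hf => ?_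
    · have h := inv_mem (hc x hx f hf)
      rwa [show (x * f * x⁻¹ * f⁻¹)⁻¹ = f * x * f⁻¹ * x⁻¹ by group] at h
    · exact ((hFW hf) s (hlinE ▸ hs.1)).symm
  subst hp
  obtain ⟨T, hT⟩ := id hF
  obtain ⟨-, -, hQF, -, hcase⟩ := id hT
  rcases hcase with ⟨K, iK, iKt, n, hn, hiso, hact, hQ | ⟨-, hact2, hQQ, -, -, -, -⟩⟩ |
    ⟨h32, -⟩
  · refine absurd ?_ hlinF
    show bQ 3 F = ⁅bV 3 F, F⁆
    conv_lhs => rw [bQ, ← hQF, hQ]
  swap
  · omega
  haveI : CharP K 3 := by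
    have h0 := FiniteField.cast_card_eq_zero K
    rw [hn] at h0
    push_cast at h0
    exact (CharP.charP_iff_prime_eq_zero Nat.prime_three).mpr
      (by exact_mod_cast eq_zero_of_pow_eq_zero h0)
  obtain ⟨hFQ, hVQ, ρ2, ψ2, hρ2, hψ2, hψ2ker, hψ2eq⟩ := hact2
  have hEQ : ∀ x ∈ E, x ∈ Subgroup.normalizer (bQ 3 F : Set G) := fun x hx =>
    normalizer_le_normalizer_pCoreOf F (hEF hx)
  have hEV : ∀ x ∈ E, x ∈ Subgroup.normalizer (bV 3 F : Set G) := fun x hx =>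
    map_conj_omegaOneCenter 3 (hEQ x hx)
  choose lf hlf using fun u => hψ2 (Multiplicative.ofAdd u)
  -- the action of `E` on `O_p(F) / V_F`
  have hwd : ∀ (x : G) (hx : x ∈ E) (q q' : ↥(bQ 3 F)), ψ2 q = ψ2 q' →
      ψ2 ⟨x * q * x⁻¹, conj_mem' (hEQ x hx) q.2⟩ = ψ2 ⟨x * q' * x⁻¹, conj_mem' (hEQ x hx) q'.2⟩ := by
    intro x hx q q' h
    refine inv_mul_eq_one.mp ?_
    rw [← map_inv, ← map_mul]
    refine (hψ2ker _).mpr ?_
    have hv : ((q⁻¹ * q' : ↥(bQ 3 F)) : G) ∈ bV 3 F :=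
      (hψ2ker _).mp (by rw [map_mul, map_inv, h, inv_mul_cancel])
    have h2 := conj_mem' (hEV x hx) hv
    convert h2 using 1
    simp only [Subgroup.coe_mul, Subgroup.coe_inv]
    group
  let Bx : ↥E → (Fin 2 → K) → (Fin 2 → K) := fun x u =>
    (ψ2 ⟨(x : G) * lf u * (x : G)⁻¹, conj_mem' (hEQ x x.2) (lf u).2⟩).toAdd
  have hBx : ∀ (x : ↥E) (q : ↥(bQ 3 F)),
      (ψ2 ⟨(x : G) * q * (x : G)⁻¹, conj_mem' (hEQ x x.2) q.2⟩).toAdd = Bx x (ψ2 q).toAdd :=
    fun x q => congrArg Multiplicative.toAdd (hwd x x.2 q _ (by rw [hlf, ofAdd_toAdd]))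
  have hBadd : ∀ (x : ↥E) u v, Bx x (u + v) = Bx x u + Bx x v := by
    intro x u v
    have h := hBx x (lf u * lf v)
    rw [map_mul, hlf, hlf, toAdd_mul, toAdd_ofAdd, toAdd_ofAdd] at h
    rw [← h, ← toAdd_mul, ← map_mul]
    congr 2
    exact Subtype.ext (by simp [mul_assoc])
  have hscal : ∀ x : ↥E, ∃ k : K, ∀ u, Bx x u = k • u := by
    intro x
    refine exists_scalar_char_three (AddMonoidHom.mk' (Bx x) (hBadd x)) fun g hg u => ?_
    rw [← hρ2] at hg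
    obtain ⟨f, rfl⟩ := hg
    show Bx x _ = (ρ2 f : Matrix (Fin 2) (Fin 2) K).mulVec (Bx x u)
    obtain ⟨q, hq⟩ := hψ2 (Multiplicative.ofAdd u)
    have hqu : (ψ2 q).toAdd = u := by rw [hq, toAdd_ofAdd]
    obtain ⟨w, hw, hw2⟩ := hψ2eq f q
    obtain ⟨w', hw', hw2'⟩ := hψ2eq f ⟨(x : G) * q * (x : G)⁻¹, conj_mem' (hEQ x x.2) q.2⟩
    rw [← hqu, ← hw2, ← hBx, ← hBx, ← hw2']
    congr 1
    set s := (x : G) * f * (x : G)⁻¹ * (f : G)⁻¹ with hs
    have hsQ : s ∈ bQ 3 F := hQ2 x x.2 f f.2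
    have e : (⟨(x : G) * w * (x : G)⁻¹, conj_mem' (hEQ x x.2) w.2⟩ : ↥(bQ 3 F)) =
        ⟨s, hsQ⟩ * w' * ⟨s, hsQ⟩⁻¹ := by
      apply Subtype.ext
      show (x : G) * w * (x : G)⁻¹ = s * (w' : G) * s⁻¹
      rw [hw, hw', hs]
      group
    rw [e, map_mul, map_mul, map_inv]
    exact mul_inv_eq_of_eq_mul (mul_comm _ _)
  choose k hk using hscal
  have hkval : ∀ (x : ↥E) (c' : K), (∀ u, Bx x u = c' • u) → k x = c' := fun x c' h => by
    have h1 := (hk x ![1, 0]).symm.trans (h ![1, 0])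
    simpa using congrFun h1 0
  let χ : ↥E →* K :=
    { toFun := k
      map_one' := hkval 1 1 fun u => by
        rw [one_smul]
        refine Eq.trans ?_ (show (ψ2 (lf u)).toAdd = u by rw [hlf, toAdd_ofAdd])
        refine congrArg (fun z => (ψ2 z).toAdd) (Subtype.ext ?_)
        simp
      map_mul' := fun x y => hkval _ _ fun u => by
        rw [mul_smul, ← hk, ← hk]
        conv_rhs => rw [show Bx y u = (ψ2 ⟨(y : G) * lf u * (y : G)⁻¹, conj_mem' (hEQ y y.2) (lf u).2⟩).toAdd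
          from rfl, ← hBx]
        refine congrArg (fun z => (ψ2 z).toAdd) (Subtype.ext ?_)
        simp [mul_assoc] }
  -- `e` is in the derived group modulo `O_p(E)`
  obtain ⟨x1, hx1, hx1e⟩ : ∃ x1 ∈ commutator ↥c.E, c.ρ x1 = c.ρ ⟨c.e, c.he⟩ := by
    obtain ⟨a, ha, b, hb, hne⟩ := not_commutative (F := F1)
    have h : (-1 : SpecialLinearGroup (Fin 2) F1) ∈ (commutator ↥c.E).map c.ρ := by
      refine neg_one_mem_of_normal _ ?_ ?_ ?_
      · rw [← c.hρ]; exact Subgroup.map_le_range _ _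
      · intro g hg y hy
        rw [← c.hρ] at hg
        obtain ⟨g, rfl⟩ := hg
        obtain ⟨y, hy, rfl⟩ := hy
        exact ⟨g * y * g⁻¹, (inferInstance : (commutator ↥c.E).Normal).conj_mem y hy g,
          by rw [map_mul, map_mul, map_inv]⟩
      · intro hbot
        rw [← c.hρ] at ha hb
        obtain ⟨a, rfl⟩ := ha
        obtain ⟨b, rfl⟩ := hb
        apply hne
        have h1 : c.ρ ⁅a, b⁆ ∈ (commutator ↥c.E).map c.ρ :=
          ⟨_, Subgroup.commutator_mem_commutator (Subgroup.mem_top a) (Subgroup.mem_top b), rfl⟩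
        rw [hbot, Subgroup.mem_bot, map_commutatorElement, commutatorElement_eq_one_iff_mul_comm] at h1
        exact h1
    obtain ⟨x1, hx1, hx1e⟩ := h
    exact ⟨x1, hx1, hx1e.trans c.hρe.symm⟩
  subst cE
  have hχe : χ ⟨c.e, c.he⟩ = 1 := by
    have h1 : χ x1 = 1 := by
      have h := Abelianization.commutator_subset_ker χ.toHomUnits hx1
      rw [MonoidHom.mem_ker] at h
      rw [← MonoidHom.coe_toHomUnits χ x1, h, Units.val_one]
    have hq : ((x1⁻¹ * ⟨c.e, c.he⟩ : ↥c.E) : G) ∈ c.Q :=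
      (c.hρker _).mp (by rw [map_mul, map_inv, hx1e, inv_mul_cancel])
    obtain ⟨j, hj⟩ := c.hQp ⟨_, hq⟩
    have h2 : (x1⁻¹ * ⟨c.e, c.he⟩ : ↥c.E) ^ 3 ^ j = 1 := Subtype.ext (by
      simpa using congrArg Subtype.val hj)
    have h3 := congrArg χ h2
    rw [map_pow, map_one] at h3
    have h4 : χ (x1⁻¹ * ⟨c.e, c.he⟩) = 1 := by
      refine sub_eq_zero.mp (pow_eq_zero_iff (n := 3 ^ j) (by positivity) |>.mp ?_)
      rw [sub_pow_char_pow, h3, one_pow, sub_self]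
    rw [map_mul, ← one_mul (χ ⟨c.e, c.he⟩), ← h1, mul_left_comm, ← mul_assoc (χ x1), ← map_mul χ x1,
      mul_inv_cancel, map_one, one_mul] at h4
    exact h4.trans h1
  -- `e` centralizes `O_p(F)`
  have he2 := c.he2
  have heW : ∀ w ∈ bW 3 F, c.e * w * c.e⁻¹ = w := fun w hw => by
    rw [← (hEW c.he) w hw, mul_inv_cancel_right]
  have hemod : ∀ q ∈ bQ 3 F, c.e * q * c.e⁻¹ * q⁻¹ ∈ bV 3 F := by
    intro q hq
    refine (hψ2ker ⟨_, mul_mem (conj_mem' (hEQ _ c.he) hq) (inv_mem hq)⟩).mp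
      (Multiplicative.toAdd.injective ?_)
    rw [show (⟨_, mul_mem (conj_mem' (hEQ _ c.he) hq) (inv_mem hq)⟩ : ↥(bQ 3 F)) =
      ⟨_, conj_mem' (hEQ _ c.he) hq⟩ * (⟨q, hq⟩ : ↥(bQ 3 F))⁻¹ from rfl, map_mul, map_inv, toAdd_mul,
      toAdd_inv, hBx ⟨c.e, c.he⟩ ⟨q, hq⟩, hk, show k ⟨c.e, c.he⟩ = 1 from hχe, one_smul, toAdd_one,
      add_neg_cancel]
  have heZ : ∀ z ∈ ⁅bQ 3 F, bQ 3 F⁆, c.e * z * c.e⁻¹ = z := by
    have hle : ⁅bQ 3 F, bQ 3 F⁆ ≤ Subgroup.centralizer ({c.e} : Set G) := by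
      refine Subgroup.commutator_le.mpr fun a ha b hb => ?_
      set va := c.e * a * c.e⁻¹ * a⁻¹ with hva
      set vb := c.e * b * c.e⁻¹ * b⁻¹ with hvb
      have hva' := hemod a ha
      have hvb' := hemod b hb
      have h : c.e * ⁅a, b⁆ * c.e⁻¹ = ⁅a, b⁆ := by
        rw [conjugate_commutatorElement, show c.e * a * c.e⁻¹ = va * a by rw [hva]; group,
          show c.e * b * c.e⁻¹ = vb * b by rw [hvb]; group, commutatorElement_def, commutatorElement_def]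
        calc va * a * (vb * b) * (va * a)⁻¹ * (vb * b)⁻¹
            = va * (a * (vb * b) * a⁻¹) * va⁻¹ * (b⁻¹ * vb⁻¹) := by group
          _ = a * (vb * b) * a⁻¹ * (b⁻¹ * vb⁻¹) := by
              rw [(bV_central hva' (mul_mem (mul_mem ha (mul_mem (bV_le_bQ 3 F hvb') hb)) (inv_mem ha))).eq,
                mul_inv_cancel_right]
          _ = vb * (a * b * a⁻¹ * b⁻¹) * vb⁻¹ := by
              rw [← mul_assoc a, ← (bV_central hvb' ha).eq, hvb]; group
          _ = a * b * a⁻¹ * b⁻¹ := by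
              rw [(bV_central hvb' (mul_mem (mul_mem (mul_mem ha hb) (inv_mem ha)) (inv_mem hb))).eq,
                mul_inv_cancel_right]
      exact Subgroup.mem_centralizer_singleton_iff.mpr (mul_inv_eq_iff_eq_mul.mp h).symm
    intro z hz
    rw [← Subgroup.mem_centralizer_singleton_iff.mp (hle hz), mul_inv_cancel_right]
  have heV : ∀ v ∈ bV 3 F, c.e * v * c.e⁻¹ = v := by
    intro v hv
    obtain ⟨w, hw, z, hz, rfl⟩ := exists_decomp hF hG hv
    rw [show c.e * (w * z) * c.e⁻¹ = (c.e * w * c.e⁻¹) * (c.e * z * c.e⁻¹) by group, heW w hw,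
      heZ z (hQQ ▸ hz)]
  have heQ : ∀ q ∈ bQ 3 F, c.e * q * c.e⁻¹ = q := by
    intro q hq
    set v := c.e * q * c.e⁻¹ * q⁻¹ with hv
    have h1 : v * v = 1 := by
      calc v * v = v * (c.e * q * c.e⁻¹) * q⁻¹ := by rw [hv]; group
        _ = (c.e * v * c.e⁻¹) * (c.e * q * c.e⁻¹) * q⁻¹ := by rw [heV v (hemod q hq)]
        _ = (c.e * c.e) * q * (c.e * c.e)⁻¹ * q⁻¹ := by rw [hv]; group
        _ = 1 := by rw [he2]; group
    have h2 : v = 1 := orderOf_eq_one_iff.mp (Nat.eq_one_of_dvd_coprimes (by norm_num : Nat.Coprime 2 3)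
      (orderOf_dvd_of_pow_eq_one (by rw [pow_two, h1]))
      (orderOf_dvd_of_pow_eq_one ((bV_isEA 3 F).2 v (hemod q hq))))
    exact mul_inv_eq_one.mp h2
  -- `e` has no fixed points on `O_p(E) / Z`
  refine commutator_eq_bot_of_central (res hE) hSp hc fun s hs => ?_
  have hsQ : s ∈ c.Q := cQ ▸ hs.1
  have hse := heQ s hs.2
  have hsV : s ∈ c.V := by
    refine (c.hψ2ker ⟨s, hsQ⟩).mp (Multiplicative.toAdd.injective ?_)
    obtain ⟨w, hw, hw2⟩ := c.hψ2eq ⟨c.e, c.he⟩ ⟨s, hsQ⟩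
    have hws : w = ⟨s, hsQ⟩ := Subtype.ext (hw.trans hse)
    rw [hws, c.hρ2e] at hw2
    have h3 := three_eq_zero (F := F1)
    funext i
    have h4 := congrFun hw2 i
    have h5 : ((-1 : SpecialLinearGroup (Fin 2) F1).1.mulVec (c.ψ2 ⟨s, hsQ⟩).toAdd) i =
        -((c.ψ2 ⟨s, hsQ⟩).toAdd i) := by
      show ((-(1 : Matrix (Fin 2) (Fin 2) F1)).mulVec (c.ψ2 ⟨s, hsQ⟩).toAdd) i = _
      rw [neg_mulVec, one_mulVec]; rfl
    rw [h5] at h4
    simp only [toAdd_one, Pi.zero_apply]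
    linear_combination (c.ψ2 ⟨s, hsQ⟩).toAdd i * h3 - h4
  obtain ⟨w, hw, z, hz, hsz⟩ := c.hWsup s hsV
  have hw1 : w = 1 := by
    have h := hse
    rw [hsz, show c.e * (w * z) * c.e⁻¹ = c.e * w * c.e⁻¹ * (c.e * z * c.e⁻¹) by group, c.hWe w hw,
      show c.e * z * c.e⁻¹ = z by rw [← (c.hZE z hz c.e c.he).eq, mul_inv_cancel_right]] at h
    have h6 := mul_right_cancel h
    exact orderOf_eq_one_iff.mp (Nat.eq_one_of_dvd_coprimes (by norm_num : Nat.Coprime 2 3)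
      (orderOf_dvd_of_pow_eq_one (by rw [pow_two]; exact mul_eq_one_iff_eq_inv.mpr h6.symm))
      (orderOf_dvd_of_pow_eq_one (c.hV3 w (c.hWV hw))))
  rw [hsz, hw1, one_mul]
  exact fun x hx => (c.hZE z hz x hx).eq.symm

end CfsgLib.BlockPair
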