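import Cfsg.Agent.Lib.BlockPair.Facts
import Cfsg.Agent.Lib.PLocal.Factorization
import Cfsg.Agent.Lib.LocalEven.PBasic

/-!
# Blocks are compatible with automorphisms
-/

set_option autoImplicit false
set_option linter.unusedSectionVars false

open Cfsg
open scoped MatrixGroups commutatorElement

namespace CfsgLib.BlockPair

variable {G : Type*} [Group G] {p : ℕ}

theorem map_centralizer_equiv (f : G ≃* G) (H : Subgroup G) :
    (Subgroup.centralizer (H : Set G)).map f.toMonoidHom =
      Subgroup.centralizer (H.map f.toMonoidHom : Set G) := by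
  ext y
  simp only [Subgroup.mem_map_equiv, Subgroup.mem_centralizer_iff, SetLike.mem_coe]
  constructor
  · intro h z hz
    have := congrArg f (h _ hz)
    simpa using this
  · intro h z hz
    have := congrArg f.symm (h (f z) (by simpa using hz))
    simpa using this

theorem map_pResidualOf (f : G ≃* G) (E : Subgroup G) :
    (pResidualOf p E).map f.toMonoidHom = pResidualOf p (E.map f.toMonoidHom) := by
  have h : ∀ H : Subgroup G, pResidualOf p H =
      Subgroup.closure {g : G | g ∈ H ∧ (orderOf g).Coprime p} := by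
    intro H
    unfold pResidualOf pResidual
    rw [MonoidHom.map_closure]
    congr 1
    ext g
    constructor
    · rintro ⟨y, hy, rfl⟩
      exact ⟨y.2, by simpa [Subgroup.orderOf_coe] using hy⟩
    · rintro ⟨h1, h2⟩
      exact ⟨⟨g, h1⟩, by simpa [Subgroup.orderOf_mk] using h2, rfl⟩
  rw [h, h, MonoidHom.map_closure]
  congr 1
  ext g
  constructor
  · rintro ⟨x, ⟨hx, ho⟩, rfl⟩
    exact ⟨⟨x, hx, rfl⟩, by simpa using ho⟩
  · rintro ⟨⟨x, hx, rfl⟩, ho⟩
    exact ⟨x, ⟨hx, by simpa using ho⟩, rfl⟩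

theorem map_omegaOneCenter (f : G ≃* G) (X : Subgroup G) :
    (omegaOneCenter p X).map f.toMonoidHom = omegaOneCenter p (X.map f.toMonoidHom) :=
  CfsgLib.PLocal.omegaCenter_map f.injective X

theorem map_baumannSubgroupOf (f : G ≃* G) (T : Subgroup G) :
    (baumannSubgroupOf p T).map f.toMonoidHom = baumannSubgroupOf p (T.map f.toMonoidHom) := by
  unfold baumannSubgroupOf centerThompsonOf
  rw [Subgroup.map_inf _ _ _ f.injective, map_centralizer_equiv, CfsgLib.PLocal.omegaCenter_map f.injective,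
    CfsgLib.PLocal.thompsonSubgroupOf_map f.injective]

/-- The inverse of an automorphism on the image of a subgroup. -/
def backHom (f : G ≃* G) (E : Subgroup G) : ↥(E.map f.toMonoidHom) →* ↥E :=
  ((f.symm.toMonoidHom).comp (E.map f.toMonoidHom).subtype).codRestrict E fun x =>
    Subgroup.mem_map_equiv.mp x.2

theorem backHom_apply (f : G ≃* G) (E : Subgroup G) (x : ↥(E.map f.toMonoidHom)) :
    ((backHom f E x : ↥E) : G) = f.symm (x : G) := rfl

theorem backHom_surjective (f : G ≃* G) (E : Subgroup G) : Function.Surjective (backHom f E) :=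
  fun x => ⟨⟨f (x : G), ⟨x, x.2, rfl⟩⟩, Subtype.ext (f.symm_apply_apply _)⟩

theorem backHom_range (f : G ≃* G) (E : Subgroup G) {H : Type*} [Group H] (ρ : ↥E →* H) :
    (ρ.comp (backHom f E)).range = ρ.range := by
  rw [MonoidHom.range_comp, MonoidHom.range_eq_top.mpr (backHom_surjective f E),
    ← MonoidHom.range_eq_map]

theorem map_actsAsSL2 (f : G ≃* G) {F : Type*} [Field F]
    {R : Subgroup (Matrix.SpecialLinearGroup (Fin 2) F)} {E U U₀ : Subgroup G}
    (h : ActsAsSL2OnSection F R E U U₀) :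
    ActsAsSL2OnSection F R (E.map f.toMonoidHom) (U.map f.toMonoidHom) (U₀.map f.toMonoidHom) := by
  obtain ⟨h1, h2, ρ, ψ, hρ, hψ, hker, heq⟩ := h
  refine ⟨(Subgroup.map_mono h1).trans (Subgroup.map_equiv_normalizer_eq U f).le,
    Subgroup.map_mono h2, ρ.comp (backHom f E), ψ.comp (backHom f U),
    (backHom_range f E ρ).trans hρ, hψ.comp (backHom_surjective f U),
    fun u => ?_, fun x u => ?_⟩
  · exact (hker (backHom f U u)).trans (Subgroup.mem_map_equiv (f := f)).symm
  · obtain ⟨w, hw, hw2⟩ := heq (backHom f E x) (backHom f U u)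
    have hb : backHom f U ⟨f (w : G), ⟨w, w.2, rfl⟩⟩ = w := Subtype.ext (f.symm_apply_apply _)
    refine ⟨⟨f (w : G), ⟨w, w.2, rfl⟩⟩, ?_, ?_⟩
    · show f (w : G) = _
      rw [hw, backHom_apply, backHom_apply]; simp
    · rw [MonoidHom.comp_apply, hb]
      exact hw2

theorem map_actsAsAlt (f : G ≃* G) {n : ℕ} {R : Subgroup (Equiv.Perm (Fin n))} {E U U₀ : Subgroup G}
    (h : ActsAsOddPermModuleOnSection n R E U U₀) :
    ActsAsOddPermModuleOnSection n R (E.map f.toMonoidHom) (U.map f.toMonoidHom)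
      (U₀.map f.toMonoidHom) := by
  obtain ⟨h1, h2, ρ, ψ, hρ, heven, hψ, hker, heq⟩ := h
  refine ⟨(Subgroup.map_mono h1).trans (Subgroup.map_equiv_normalizer_eq U f).le,
    Subgroup.map_mono h2, ρ.comp (backHom f E), ψ.comp (backHom f U),
    (backHom_range f E ρ).trans hρ, fun u => heven _, fun v hv => ?_, fun u => ?_, fun x u => ?_⟩
  · obtain ⟨u, hu⟩ := hψ v hv
    refine ⟨⟨f (u : G), ⟨u, u.2, rfl⟩⟩, ?_⟩
    rw [MonoidHom.comp_apply, show backHom f U ⟨f (u : G), ⟨u, u.2, rfl⟩⟩ = u from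
      Subtype.ext (f.symm_apply_apply _)]
    exact hu
  · exact (hker (backHom f U u)).trans (Subgroup.mem_map_equiv (f := f)).symm
  · obtain ⟨w, hw, hw2⟩ := heq (backHom f E x) (backHom f U u)
    have hb : backHom f U ⟨f (w : G), ⟨w, w.2, rfl⟩⟩ = w := Subtype.ext (f.symm_apply_apply _)
    refine ⟨⟨f (w : G), ⟨w, w.2, rfl⟩⟩, ?_, ?_⟩
    · show f (w : G) = _
      rw [hw, backHom_apply, backHom_apply]; simp
    · intro i
      rw [MonoidHom.comp_apply, hb]
      exact hw2 i

/-- The image of a block under an automorphism. -/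
theorem isBaumannBlock_map (f : G ≃* G) {T E : Subgroup G} (h : IsBaumannBlock p T E) :
    IsBaumannBlock p (T.map f.toMonoidHom) (E.map f.toMonoidHom) := by
  obtain ⟨h1, h2, h3, h4, h5⟩ := h
  have hQ := CfsgLib.LocalEven.pCoreOf_map_equiv (p := p) f E
  have hV : (omegaOneCenter p (pCoreOf p E)).map f.toMonoidHom =
      omegaOneCenter p (pCoreOf p (E.map f.toMonoidHom)) := by rw [map_omegaOneCenter, hQ]
  have hC : (omegaOneCenter p (pCoreOf p E) ⊓ Subgroup.centralizer (E : Set G)).map f.toMonoidHom =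
      omegaOneCenter p (pCoreOf p (E.map f.toMonoidHom)) ⊓
        Subgroup.centralizer (E.map f.toMonoidHom : Set G) := by
    rw [Subgroup.map_inf _ _ _ f.injective, hV, map_centralizer_equiv]
  have hZ : (E ⊓ Subgroup.centralizer (E : Set G)).map f.toMonoidHom =
      E.map f.toMonoidHom ⊓ Subgroup.centralizer (E.map f.toMonoidHom : Set G) := by
    rw [Subgroup.map_inf _ _ _ f.injective, map_centralizer_equiv]
  have hiso : ∀ {H : Type} [Group H], Nonempty (↥E ⧸ pCore p ↥E ≃* H) →
      Nonempty (↥(E.map f.toMonoidHom) ⧸ pCore p ↥(E.map f.toMonoidHom) ≃* H) := fun ⟨θ⟩ =>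
    ⟨(QuotientGroup.congr _ _ (f.subgroupMap E)
      (CfsgLib.LocalEven.pCore_map_equiv' (f.subgroupMap E))).symm.trans θ⟩
  refine ⟨by rw [← map_pResidualOf, h1], by rw [← map_baumannSubgroupOf, ← Subgroup.map_commutator, h2],
    by rw [← hQ, ← Subgroup.map_commutator, h3], ?_, ?_⟩
  · rw [← map_omegaOneCenter, ← Subgroup.map_commutator, Ne,
      Subgroup.map_eq_bot_iff_of_injective _ f.injective]
    exact h4
  rcases h5 with ⟨F, iF, iFt, n, hn, hi, ha, hq⟩ | ⟨hp, m, hi, ha, hq⟩
  · left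
    refine ⟨F, iF, iFt, n, hn, hiso hi, ?_, ?_⟩
    · rw [← hC, ← hV]; exact map_actsAsSL2 f ha
    rcases hq with hq | ⟨hp, ha2, hQQ, hΦ, hZE, hcard, hb⟩
    · left
      rw [← hV, ← hQ]
      exact congrArg (fun X : Subgroup G => X.map f.toMonoidHom) hq
    right
    refine ⟨hp, ?_, ?_, ?_, ?_, ?_, fun b hb' hbC => ?_⟩
    · rw [← hV, ← hQ]; exact map_actsAsSL2 f ha2
    · rw [← hC, ← hQ, ← Subgroup.map_commutator, hQQ]
    · rw [← hC, ← hΦ]
      have e : pCoreOf p (E.map f.toMonoidHom) = (pCoreOf p E).map f.toMonoidHom := hQ.symm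
      rw [e, ← show (frattini ↥(pCoreOf p E)).map (f.subgroupMap (pCoreOf p E)).toMonoidHom =
        frattini ↥((pCoreOf p E).map f.toMonoidHom) from
        OrderIso.map_radical (f.subgroupMap (pCoreOf p E)).mapSubgroup]
      refine ((Subgroup.map_map _ _ _).trans ?_).trans (Subgroup.map_map _ _ _).symm
      rfl
    · rw [← hC, ← hZ, hZE]
    · rw [← hZ, Subgroup.card_map_of_injective f.injective, hcard]
    · rw [← map_baumannSubgroupOf] at hb'
      obtain ⟨b, hbB, rfl⟩ := hb'
      rw [← hV, ← map_centralizer_equiv] at hbC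
      rw [← hZ, ← hQ]
      intro hle
      refine hb b hbB (fun h => hbC ⟨b, h, rfl⟩) ?_
      rw [← MonoidHom.map_zpowers, ← Subgroup.map_commutator, ← Subgroup.map_commutator,
        Subgroup.map_le_map_iff_of_injective f.injective] at hle
      exact hle
  · right
    refine ⟨hp, m, hiso hi, ?_, ?_⟩
    · rw [← hC, ← hV]; exact map_actsAsAlt f ha
    · rw [← hV, ← hQ]
      exact congrArg (fun X : Subgroup G => X.map f.toMonoidHom) hq

/-- A conjugate of a block is a block. -/
theorem IsBlock.conj [Finite G] [Fact p.Prime] {E : Subgroup G} (hE : IsBlock p E) (g : G) :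
    IsBlock p (E.map (MulAut.conj g).toMonoidHom) := by
  obtain ⟨T, hT⟩ := hE
  refine ⟨g • T, ?_⟩
  rw [show ((g • T : Sylow p G) : Subgroup G) = (T : Subgroup G).map (MulAut.conj g).toMonoidHom
    from rfl]
  exact isBaumannBlock_map _ hT

end CfsgLib.BlockPair
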