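import Cfsg.Agent.Lib.BlockNorm.SL2Form
import Cfsg.Agent.Lib.LocalEven.SL2Natural

/-!
# Automorphisms of orders prime to `p` of very small natural modules
-/

set_option autoImplicit false
set_option linter.unusedSectionVars false
set_option linter.style.haveILetI false

open Matrix
open scoped MatrixGroups

namespace CfsgLib.BlockPair

variable {F : Type*} [Field F]

/-- Elements of order prime to the characteristic lie in the derived group of `SL₂(F)`. -/
theorem mem_commutator_of_coprime {p : ℕ} [CharP F p] {g : SpecialLinearGroup (Fin 2) F} {n : ℕ}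
    (hn : g ^ n = 1) (hcop : n.Coprime p) : g ∈ commutator (SpecialLinearGroup (Fin 2) F) := by
  let π : SpecialLinearGroup (Fin 2) F →* Abelianization (SpecialLinearGroup (Fin 2) F) :=
    Abelianization.of
  let S : Subgroup (SpecialLinearGroup (Fin 2) F) :=
    { carrier := {g | π g ^ p = 1}
      one_mem' := by simp
      mul_mem' := fun {a b} ha hb => by
        simp only [Set.mem_setOf_eq] at *
        rw [map_mul, mul_pow, ha, hb, one_mul]
      inv_mem' := fun {a} ha => by
        simp only [Set.mem_setOf_eq] at *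
        rw [map_inv, inv_pow, ha, inv_one] }
  have hp0 : (p : F) = 0 := CharP.cast_eq_zero F p
  have hUpow : ∀ t : F, CfsgLib.RootSub.slU t ^ p = 1 := fun t => by
    have h := map_pow (CfsgLib.RootSub.slUHom (k := F)) (Multiplicative.ofAdd t) p
    rw [← ofAdd_nsmul, nsmul_eq_mul, hp0, zero_mul, ofAdd_zero, map_one] at h
    exact h.symm
  have hLpow : ∀ t : F, CfsgLib.RootSub.slL t ^ p = 1 := fun t => by
    have h := map_pow (CfsgLib.RootSub.slLHom (k := F)) (Multiplicative.ofAdd t) p
    rw [← ofAdd_nsmul, nsmul_eq_mul, hp0, zero_mul, ofAdd_zero, map_one] at h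
    exact h.symm
  have hU : ∀ t, CfsgLib.RootSub.slU (t : F) ∈ S := fun t => by
    show π _ ^ p = 1
    rw [← map_pow, hUpow, map_one]
  have hL : ∀ t, CfsgLib.RootSub.slL (t : F) ∈ S := fun t => by
    show π _ ^ p = 1
    rw [← map_pow, hLpow, map_one]
  have hS : g ∈ S := by
    have h : Subgroup.closure (Set.range (CfsgLib.RootSub.slU : F → _) ∪
        {CfsgLib.LocalEven.SL2Natural.slW 1}) ≤ S := by
      refine (Subgroup.closure_le S).mpr ?_
      rintro _ (⟨t, rfl⟩ | rfl)
      · exact hU t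
      · exact mul_mem (mul_mem (hU 1) (hL _)) (hU 1)
    exact h (CfsgLib.LocalEven.SL2Natural.closure_slU_slW (F := F) ▸ Subgroup.mem_top g)
  have h1 : π g = 1 := orderOf_eq_one_iff.mp (Nat.eq_one_of_dvd_coprimes hcop
    (orderOf_dvd_of_pow_eq_one (by rw [← map_pow, hn, map_one])) (orderOf_dvd_of_pow_eq_one hS))
  rw [← Abelianization.ker_of]
  exact h1

/-- The elements of a four-group. -/
theorem four_cases {U : Type*} [Group U] [Finite U] (hU : Nat.card U = 4)
    {a b : U} (ha : a ≠ 1) (hb : b ≠ 1) (hab : b ≠ a) (hsq : ∀ u : U, u * u = 1) (u : U) :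
    u = 1 ∨ u = a ∨ u = b ∨ u = a * b := by
  classical
  haveI := Fintype.ofFinite U
  have h1 : a * b ≠ 1 := fun h => hab ((mul_left_cancel ((hsq a).trans h.symm)).symm)
  have h2 : a * b ≠ a := fun h => hb (mul_eq_left.mp h)
  have h3 : a * b ≠ b := fun h => ha (mul_eq_right.mp h)
  have hs : ({1, a, b, a * b} : Finset U) = Finset.univ := by
    refine Finset.eq_univ_of_card _ ?_
    rw [← Nat.card_eq_fintype_card, hU]
    simp [Ne.symm ha, Ne.symm hb, Ne.symm hab, Ne.symm h1, Ne.symm h2, Ne.symm h3]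
  have h := Finset.mem_univ u
  rw [← hs] at h
  simpa using h

/-- An automorphism of odd order of a four-group fixing a non-trivial element is trivial. -/
theorem four_fix {U : Type*} [Group U] [Finite U] (hU : Nat.card U = 4) (hsq : ∀ u : U, u * u = 1)
    {T : Monoid.End U} {n : ℕ} (hn : Odd n) (hTn : T ^ n = 1)
    {a : U} (ha : a ≠ 1) (hTa : T a = a) : T = 1 := by
  obtain ⟨k, hk⟩ := hn
  have hTinj : Function.Injective T := fun x y h => by
    have hx := DFunLike.congr_fun hTn x
    have hy := DFunLike.congr_fun hTn y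
    rw [hk, pow_succ, Monoid.End.coe_mul, Function.comp_apply] at hx hy
    rw [h] at hx
    exact hx.symm.trans hy
  have h2 : ∀ b, T (T b) = b := by
    intro b
    by_cases hb : b = 1
    · rw [hb, map_one, map_one]
    by_cases hba : b = a
    · rw [hba, hTa, hTa]
    rcases four_cases hU ha hb hba hsq (T b) with h | h | h | h
    · exact absurd (hTinj (h.trans (map_one T).symm)) hb
    · exact absurd (hTinj (h.trans hTa.symm)) hba
    · rw [h, h]
    · rw [h, map_mul, hTa, h, ← mul_assoc, hsq, one_mul]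
  have h3 : T ^ 2 = 1 := by
    refine DFunLike.ext _ _ fun b => ?_
    rw [pow_two, Monoid.End.coe_mul, Function.comp_apply, h2]
    rfl
  rw [hk, pow_succ, pow_mul, h3, one_pow, one_mul] at hTn
  exact hTn

/-- Fixed-point-free automorphisms of odd order of a four-group are powers of each other. -/
theorem four_power {U : Type*} [Group U] [Finite U] (hU : Nat.card U = 4) (hsq : ∀ u : U, u * u = 1)
    {S T : Monoid.End U} {m n : ℕ} (hm : Odd m) (hSm : S ^ m = 1) (hS : S ≠ 1) (hn : Odd n)
    (hTn : T ^ n = 1) : ∃ k : ℕ, T = S ^ k := by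
  haveI : Nontrivial U := Finite.one_lt_card_iff_nontrivial.mp (by omega)
  obtain ⟨a, ha⟩ := exists_ne (1 : U)
  have hodd : ∀ (R : Monoid.End U) (l : ℕ), R ^ l = 1 → (R ^ 2) ^ l = 1 := fun R l h => by
    rw [← pow_mul, mul_comm, pow_mul, h, one_pow]
  have hcyc : ∀ (R : Monoid.End U) (l : ℕ), Odd l → R ^ l = 1 → R ≠ 1 →
      R a ≠ 1 ∧ R a ≠ a ∧ R (R a) = a * R a := by
    intro R l hl hR hR1
    have h1 : R a ≠ a := fun h => hR1 (four_fix hU hsq hl hR ha h)
    have h2 : R a ≠ 1 := fun h => by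
      obtain ⟨j, hj⟩ := hl
      have hx := DFunLike.congr_fun hR a
      rw [hj, pow_succ, Monoid.End.coe_mul, Function.comp_apply, h, map_one] at hx
      exact ha hx.symm
    refine ⟨h2, h1, ?_⟩
    rcases four_cases hU ha h2 h1 hsq (R (R a)) with h | h | h | h
    · obtain ⟨j, hj⟩ := hl
      have hx := DFunLike.congr_fun (hodd R _ hR) a
      rw [hj, pow_succ, Monoid.End.coe_mul, Function.comp_apply, pow_two, Monoid.End.coe_mul,
        Function.comp_apply, h, map_one] at hx
      exact absurd hx.symm ha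
    · have h3 : R ^ 2 = 1 := four_fix hU hsq hl (hodd R _ hR) ha (by
        rw [pow_two, Monoid.End.coe_mul, Function.comp_apply, h])
      obtain ⟨j, hj⟩ := hl
      rw [hj, pow_succ, pow_mul, h3, one_pow, one_mul] at hR
      exact absurd hR hR1
    · exact absurd (four_fix hU hsq hl hR h2 h) hR1
    · exact h
  by_cases hT : T = 1
  · exact ⟨0, by rw [hT, pow_zero]⟩
  obtain ⟨hS1, hSa, hSS⟩ := hcyc S m hm hSm hS
  obtain ⟨hT1, hTa, hTT⟩ := hcyc T n hn hTn hT
  have hext : ∀ R : Monoid.End U, T a = R a → R (R a) = a * R a → T = R := by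
    intro R h hR
    have h2 : T (R a) = R (R a) := by rw [← h, hTT, h, ← hR]
    refine DFunLike.ext _ _ fun u => ?_
    rcases four_cases hU ha (h ▸ hT1) (h ▸ hTa) hsq u with rfl | rfl | rfl | rfl
    · rw [map_one, map_one]
    · exact h
    · exact h2
    · rw [map_mul, map_mul, h, h2]
  rcases four_cases hU ha hS1 hSa hsq (T a) with h | h | h | h
  · exact absurd h hT1
  · exact absurd h hTa
  · exact ⟨1, by rw [pow_one]; exact hext S h hSS⟩
  · have hS2 : (S ^ 2) a = a * S a := by
      rw [pow_two, Monoid.End.coe_mul, Function.comp_apply, hSS]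
    refine ⟨2, hext _ (h.trans hS2.symm) ?_⟩
    rw [hS2]
    show (S ^ 2) (a * S a) = _
    rw [map_mul, hS2, pow_two, Monoid.End.coe_mul, Function.comp_apply, hSS, map_mul, hSS,
      ← mul_assoc (a * S a), mul_assoc a (S a), hsq, mul_one]

variable [Fintype F] [CharP F 3]

theorem three_values (h3 : Fintype.card F = 3) (x : F) : x = 0 ∨ x = 1 ∨ x = -1 := by
  have h := FiniteField.pow_card x
  rw [h3] at h
  have h2 : x * ((x - 1) * (x + 1)) = 0 := by linear_combination h
  rcases mul_eq_zero.mp h2 with h | h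
  · exact Or.inl h
  rcases mul_eq_zero.mp h with h | h
  · exact Or.inr (Or.inl (sub_eq_zero.mp h))
  · exact Or.inr (Or.inr (eq_neg_of_add_eq_zero_left h))

/-- Elements of order prime to three of `SL₂(3)`. -/
theorem sl2_three_cases (h3 : Fintype.card F = 3) {g : SpecialLinearGroup (Fin 2) F} {n : ℕ}
    (hn : g ^ n = 1) (hcop : n.Coprime 3) : g = 1 ∨ g = -1 ∨ g * g = -1 := by
  have h30 := CfsgLib.BlockNorm.three_eq_zero (F := F)
  set t := g.1 0 0 + g.1 1 1 with ht
  have hdet : g.1 0 0 * g.1 1 1 - g.1 0 1 * g.1 1 0 = 1 := (det_fin_two g.1).symm.trans g.2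
  have hCH : g.1 * g.1 = t • g.1 - 1 := by
    ext i j
    fin_cases i <;> fin_cases j <;> simp [Matrix.mul_apply, Fin.sum_univ_two, ht]
    · linear_combination -hdet
    · ring
    · ring
    · linear_combination -hdet
  by_cases ht0 : t = 0
  · refine Or.inr (Or.inr (Subtype.ext ?_))
    show g.1 * g.1 = -(1 : Matrix (Fin 2) (Fin 2) F)
    rw [hCH, ht0, zero_smul, zero_sub]
  have ht1 : t * t = 1 := by
    rcases three_values h3 t with h | h | h
    · exact absurd h ht0
    · rw [h, one_mul]
    · rw [h, neg_mul_neg, one_mul]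
  have hcube : g.1 * g.1 * g.1 = -(t • (1 : Matrix (Fin 2) (Fin 2) F)) := by
    rw [hCH, sub_mul, one_mul, smul_mul_assoc, hCH, smul_sub, smul_smul, ht1, one_smul]
    abel
  have h6 : g ^ 6 = 1 := by
    refine Subtype.ext ?_
    rw [show g ^ 6 = (g * g * g) * (g * g * g) by simp [pow_succ, mul_assoc]]
    show (g.1 * g.1 * g.1) * (g.1 * g.1 * g.1) = 1
    rw [hcube, neg_mul_neg, smul_mul_smul_comm, ht1, one_mul, one_smul]
  have h2 : g * g = 1 := by
    have hd : orderOf g ∣ 2 :=
      (Nat.Coprime.coprime_dvd_left (orderOf_dvd_of_pow_eq_one hn) hcop).dvd_of_dvd_mul_right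
        (orderOf_dvd_of_pow_eq_one (show g ^ (2 * 3) = 1 from h6))
    rw [← pow_two]
    exact orderOf_dvd_iff_pow_eq_one.mp hd
  by_cases hg : g = 1
  · exact Or.inl hg
  · exact Or.inr (Or.inl (CfsgLib.BlockNorm.eq_neg_one_of_sq h2 hg))

/-- Additive square roots of `-1` on `F²`, `|F| = 3`, come from the derived group. -/
theorem exists_commutator_of_sq_neg (h3 : Fintype.card F = 3) (A : (Fin 2 → F) →+ (Fin 2 → F))
    (hA : ∀ u, A (A u) = -u) :
    ∃ g ∈ commutator (SpecialLinearGroup (Fin 2) F), ∀ u,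
      (g : Matrix (Fin 2) (Fin 2) F).mulVec u = A u := by
  have hlin : ∀ (c : F) u, A (c • u) = c • A u := by
    intro c u
    obtain ⟨n, rfl⟩ := CfsgLib.BlockNorm.exists_natCast_of_card_three h3 c
    rw [Nat.cast_smul_eq_nsmul, Nat.cast_smul_eq_nsmul, map_nsmul]
  set a := A ![1, 0] with ha
  set b := A ![0, 1] with hb
  have hAu : ∀ u, A u = u 0 • a + u 1 • b := fun u => by
    conv_lhs => rw [show u = u 0 • ![1, 0] + u 1 • ![0, 1] by ext i; fin_cases i <;> simp]
    rw [map_add, hlin, hlin]
  have q1 := hA ![1, 0]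
  have q2 := hA ![0, 1]
  rw [← ha, hAu a] at q1
  rw [← hb, hAu b] at q2
  have e00 : a 0 * a 0 + a 1 * b 0 = -1 := by simpa using congrFun q1 0
  have e10 : a 0 * a 1 + a 1 * b 1 = 0 := by simpa using congrFun q1 1
  have e01 : b 0 * a 0 + b 1 * b 0 = 0 := by simpa using congrFun q2 0
  have htr : a 0 + b 1 = 0 := by
    by_contra ht
    have h1 : a 1 = 0 := (mul_eq_zero.mp (show a 1 * (a 0 + b 1) = 0 by linear_combination e10)).resolve_right ht
    have h30 := CfsgLib.BlockNorm.three_eq_zero (F := F)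
    rw [h1, zero_mul, add_zero] at e00
    rcases three_values h3 (a 0) with h | h | h <;> rw [h] at e00
    · exact one_ne_zero (α := F) (by linear_combination e00)
    · exact one_ne_zero (α := F) (by linear_combination h30 - e00)
    · exact one_ne_zero (α := F) (by linear_combination h30 - e00)
  have hdet : (!![a 0, b 0; a 1, b 1]).det = 1 := by
    rw [det_fin_two_of]
    linear_combination a 0 * htr - e00
  have hval : ∀ u, (!![a 0, b 0; a 1, b 1]).mulVec u = A u := fun u => by
    rw [hAu]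
    ext i
    fin_cases i <;> simp [mulVec, dotProduct, Fin.sum_univ_two, mul_comm]
  refine ⟨⟨_, hdet⟩, mem_commutator_of_coprime (p := 3) (n := 4) ?_ (by norm_num), hval⟩
  refine Subtype.ext (Matrix.ext_of_mulVec_single fun i => ?_)
  set g : SpecialLinearGroup (Fin 2) F := ⟨_, hdet⟩ with hg
  have h : ∀ u, g.1.mulVec (g.1.mulVec u) = -u := fun u => by
    show (!![a 0, b 0; a 1, b 1]).mulVec ((!![a 0, b 0; a 1, b 1]).mulVec u) = -u
    rw [hval, hval, hA]
  show (g ^ 4).1.mulVec (Pi.single i 1) = (1 : Matrix (Fin 2) (Fin 2) F).mulVec (Pi.single i 1)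
  rw [show g ^ 4 = g * g * (g * g) by simp [pow_succ, mul_assoc], CfsgLib.BlockNorm.mulVec_mul,
    CfsgLib.BlockNorm.mulVec_mul, CfsgLib.BlockNorm.mulVec_mul, h, h, neg_neg, one_mulVec]

end CfsgLib.BlockPair
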