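import Cfsg.Agent.Lib.BlockPair.Module
import Cfsg.Agent.Lib.BlockPair.Small

/-!
# Orbits of pairwise commuting blocks under an element of order prime to `p`
-/

set_option autoImplicit false
set_option linter.unusedSectionVars false
set_option linter.style.haveILetI false

open Matrix
open scoped MatrixGroups commutatorElement

namespace CfsgLib.BlockPair

open CfsgLib.LocalEven CfsgLib.LocalEven.BBlock CfsgLib.BlockNorm

variable {G : Type*} [Group G] {p : ℕ}

/-- A coprime element fixes `o` if it fixes the commutator of order `p`. -/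
theorem fixed_of_stable {x o : G} (hcop : (orderOf x).Coprime p)
    (hc : Commute x (x * o * x⁻¹ * o⁻¹)) (hp : (x * o * x⁻¹ * o⁻¹) ^ p = 1) : x * o * x⁻¹ = o := by
  set c := x * o * x⁻¹ * o⁻¹ with hcdef
  have key : ∀ k : ℕ, x ^ k * o * (x ^ k)⁻¹ = c ^ k * o := by
    intro k
    induction k with
    | zero => simp
    | succ k ih =>
      calc x ^ (k + 1) * o * (x ^ (k + 1))⁻¹ = x * (x ^ k * o * (x ^ k)⁻¹) * x⁻¹ := by
            rw [pow_succ']; group
        _ = c ^ k * (x * o * x⁻¹) := by rw [ih, ← mul_assoc, (hc.pow_right k).eq]; group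
        _ = c ^ (k + 1) * o := by rw [pow_succ, hcdef]; group
  have h1 := key (orderOf x)
  rw [pow_orderOf_eq_one, one_mul, inv_one, mul_one, eq_comm, mul_eq_right] at h1
  exact mul_inv_eq_one.mp (orderOf_eq_one_iff.mp (Nat.eq_one_of_dvd_coprimes hcop
    (orderOf_dvd_of_pow_eq_one h1) (orderOf_dvd_of_pow_eq_one hp)))

variable [Finite G]

theorem normalizer_le_normalizer_bW [Fact p.Prime] (E : Subgroup G) :
    Subgroup.normalizer (E : Set G) ≤ Subgroup.normalizer (bW p E : Set G) := fun _ hg =>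
  conj_mem_commutator (map_conj_omegaOneCenter p (normalizer_le_normalizer_pCoreOf E hg)) hg

theorem bW_le [Fact p.Prime] {E : Subgroup G} (hE : IsBlock p E) : bW p E ≤ E :=
  (bW_le_bV hE).trans ((bV_le_bQ p E).trans (bQ_le p E))

/-- The module of a block commuting with a conjugate is centralized by that conjugate. -/
theorem conj_mem_centralizer {E : Subgroup G} {g w : G}
    (h : ⁅E, E.map (MulAut.conj g).toMonoidHom⁆ = ⊥) (hw : w ∈ E) :
    g * w * g⁻¹ ∈ Subgroup.centralizer (E : Set G) ∧ g⁻¹ * w * g ∈ Subgroup.centralizer (E : Set G) := by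
  have h' := Subgroup.commutator_eq_bot_iff_le_centralizer.mp h
  refine ⟨fun x hx => ?_, fun x hx => ?_⟩
  · exact (h' hx (g * w * g⁻¹) ⟨w, hw, rfl⟩).symm
  · have h2 : g * x * g⁻¹ * w = w * (g * x * g⁻¹) := h' hw _ ⟨x, hx, rfl⟩
    calc x * (g⁻¹ * w * g) = g⁻¹ * (g * x * g⁻¹ * w) * g := by group
      _ = g⁻¹ * (w * (g * x * g⁻¹)) * g := by rw [h2]
      _ = g⁻¹ * w * g * x := by group

/-- `s ↦ [x, s]` on an abelian subgroup containing the commutators. -/
def commOn {S T : Subgroup G} (hcomm : ∀ a ∈ S, ∀ b ∈ S, Commute a b) (x : G) (hTS : T ≤ S)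
    (h : ∀ s ∈ S, x * s * x⁻¹ * s⁻¹ ∈ T) : ↥S →* ↥T where
  toFun s := ⟨x * s * x⁻¹ * (s : G)⁻¹, h s s.2⟩
  map_one' := Subtype.ext (by simp)
  map_mul' a b := Subtype.ext (by
    show x * ((a : G) * b) * x⁻¹ * ((a : G) * b)⁻¹ =
      x * a * x⁻¹ * (a : G)⁻¹ * (x * b * x⁻¹ * (b : G)⁻¹)
    rw [show x * ((a : G) * b) * x⁻¹ * ((a : G) * b)⁻¹ =
      x * a * x⁻¹ * ((x * b * x⁻¹ * (b : G)⁻¹) * (a : G)⁻¹) by group,
      (hcomm _ (hTS (h b b.2)) _ (inv_mem a.2)).eq]
    group)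

/-- The commutator map on `W` of an element moving `E`. -/
theorem uCard_le_of_move {E S : Subgroup G} {A : Type*} [Group A] (hES : bW p E ≤ S)
    {x : G} (γ : ↥S →* A) (hγ : ∀ s : ↥S, γ s = 1 → x * s * x⁻¹ = (s : G))
    (h12 : ∀ w ∈ bW p E, x * w * x⁻¹ ∈ Subgroup.centralizer (E : Set G)) :
    uCard p E ≤ Nat.card γ.range := by
  let θ := γ.comp (Subgroup.inclusion hES)
  have hker : θ.ker ≤ (bW p E ⊓ Subgroup.centralizer (E : Set G)).subgroupOf (bW p E) := by
    intro w hw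
    refine Subgroup.mem_subgroupOf.mpr (Subgroup.mem_inf.mpr ⟨w.2, ?_⟩)
    have h := h12 w w.2
    rw [show x * (w : G) * x⁻¹ = w from hγ (Subgroup.inclusion hES w) hw] at h
    exact h
  haveI : Finite γ.range := Finite.of_surjective γ.rangeRestrict γ.rangeRestrict_surjective
  haveI : Finite θ.range := Finite.of_surjective θ.rangeRestrict θ.rangeRestrict_surjective
  refine le_trans (Nat.le_of_dvd ?_ (Subgroup.index_dvd_of_le hker)) ?_
  · exact Nat.pos_of_ne_zero Subgroup.index_ne_zero_of_finite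
  · rw [Subgroup.index_ker]
    exact Subgroup.card_le_of_le (fun a ⟨w, hw⟩ => ⟨_, hw⟩)

/-- An element of order prime to `p` cannot cycle three or more pairwise commuting blocks within a
small commutator. -/
theorem uCard_sq_le_of_move {E S : Subgroup G} {A : Type*} [Group A] (hES : bW p E ≤ S)
    (hScomm : ∀ a ∈ S, ∀ b ∈ S, Commute a b) (hW : bW p E ≤ E)
    {x : G} (hxS : x ∈ Subgroup.normalizer (S : Set G)) (γ : ↥S →* A)
    (hγ : ∀ s : ↥S, γ s = 1 → x * s * x⁻¹ = (s : G))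
    (h12 : ⁅E, E.map (MulAut.conj x).toMonoidHom⁆ = ⊥)
    (h13 : ⁅E, E.map (MulAut.conj (x * x)).toMonoidHom⁆ = ⊥) :
    uCard p E * uCard p E ≤ Nat.card γ.range := by
  let W := bW p E
  let D : Subgroup ↥W := (W ⊓ Subgroup.centralizer (E : Set G)).subgroupOf W
  let ι : ↥W × ↥W →* ↥S :=
    { toFun := fun u => ⟨(u.1 : G) * (x * u.2 * x⁻¹),
        mul_mem (hES u.1.2) (conj_mem' hxS (hES u.2.2))⟩
      map_one' := Subtype.ext (by simp)
      map_mul' := fun u v => Subtype.ext (by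
        show ((u.1 : G) * v.1) * (x * ((u.2 : G) * v.2) * x⁻¹) =
          (u.1 : G) * (x * u.2 * x⁻¹) * ((v.1 : G) * (x * v.2 * x⁻¹))
        rw [show ((u.1 : G) * v.1) * (x * ((u.2 : G) * v.2) * x⁻¹) =
          (u.1 : G) * ((v.1 : G) * (x * u.2 * x⁻¹)) * (x * v.2 * x⁻¹) by group,
          (hScomm _ (hES v.1.2) _ (conj_mem' hxS (hES u.2.2))).eq]
        group) }
  let θ := γ.comp ι
  have hker : θ.ker ≤ D.prod D := by
    rintro ⟨a, b⟩ hab
    have hfix : x * ((a : G) * (x * b * x⁻¹)) * x⁻¹ = (a : G) * (x * b * x⁻¹) :=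
      hγ (ι (a, b)) hab
    refine Subgroup.mem_prod.mpr ⟨Subgroup.mem_subgroupOf.mpr (Subgroup.mem_inf.mpr ⟨a.2, ?_⟩),
      Subgroup.mem_subgroupOf.mpr (Subgroup.mem_inf.mpr ⟨b.2, ?_⟩)⟩
    · have e : (a : G) = (x * a * x⁻¹) * (x * x * b * (x * x)⁻¹) * (x * b * x⁻¹)⁻¹ := by
        rw [eq_mul_inv_iff_mul_eq, ← hfix]; group
      rw [e]
      exact mul_mem (mul_mem (conj_mem_centralizer h12 (hW a.2)).1
        (conj_mem_centralizer h13 (hW b.2)).1) (inv_mem (conj_mem_centralizer h12 (hW b.2)).1)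
    · have ha : (a : G) ∈ Subgroup.centralizer (E : Set G) := by
        have e : (a : G) = (x * a * x⁻¹) * (x * x * b * (x * x)⁻¹) * (x * b * x⁻¹)⁻¹ := by
          rw [eq_mul_inv_iff_mul_eq, ← hfix]; group
        rw [e]
        exact mul_mem (mul_mem (conj_mem_centralizer h12 (hW a.2)).1
          (conj_mem_centralizer h13 (hW b.2)).1) (inv_mem (conj_mem_centralizer h12 (hW b.2)).1)
      have e : (b : G) = (x⁻¹ * a * x)⁻¹ * ((a : G) * (x * b * x⁻¹)) := by
        rw [eq_inv_mul_iff_mul_eq]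
        calc x⁻¹ * (a : G) * x * b = x⁻¹ * ((a : G) * (x * b * x⁻¹)) * x := by group
          _ = x⁻¹ * (x * ((a : G) * (x * b * x⁻¹)) * x⁻¹) * x := by rw [hfix]
          _ = (a : G) * (x * b * x⁻¹) := by group
      rw [e]
      exact mul_mem (inv_mem (conj_mem_centralizer h12 (hW a.2)).2)
        (mul_mem ha (conj_mem_centralizer h12 (hW b.2)).1)
  haveI : Finite γ.range := Finite.of_surjective γ.rangeRestrict γ.rangeRestrict_surjective
  haveI : Finite θ.range := Finite.of_surjective θ.rangeRestrict θ.rangeRestrict_surjective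
  have h := Subgroup.index_dvd_of_le hker
  rw [Subgroup.index_prod] at h
  refine le_trans (Nat.le_of_dvd ?_ h) ?_
  · exact Nat.pos_of_ne_zero Subgroup.index_ne_zero_of_finite
  · rw [Subgroup.index_ker]
    exact Subgroup.card_le_of_le (fun a ⟨w, hw⟩ => ⟨_, hw⟩)

variable [Fact p.Prime] (hG : Subgroup.centralizer (Cfsg.pCore p G : Set G) ≤ Cfsg.pCore p G)

include hG

theorem one_lt_uCard {E : Subgroup G} (hE : IsBlock p E) : 1 < uCard p E := by
  have h0 : uCard p E ≠ 0 := Subgroup.index_ne_zero_of_finite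
  have h1 : uCard p E ≠ 1 := fun h => bW_not_le_centralizer hE hG fun w hw =>
    ((Subgroup.relIndex_eq_one.mp h) hw).2
  omega

/-- For odd `p` the module has no fixed points and admits the coordinates of `SL₂`. -/
theorem fixed_eq_bot {E : Subgroup G} (hE : IsBlock p E) (hp : p ≠ 2) :
    bW p E ⊓ Subgroup.centralizer (E : Set G) = ⊥ := by
  classical
  obtain ⟨T, -, -, -, -, hcase⟩ := id hE
  rcases hcase with ⟨K, iK, iKt, n, hn, hiso, hact, -⟩ | ⟨h2, -⟩
  swap
  · exact absurd h2 hp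
  haveI : CharP K p := by
    have h0 := FiniteField.cast_card_eq_zero K
    rw [hn] at h0
    push_cast at h0
    exact (CharP.charP_iff_prime_eq_zero Fact.out).mpr (eq_zero_of_pow_eq_zero h0)
  have h2 : (2 : K) ≠ 0 := fun h => hp ((Nat.prime_dvd_prime_iff_eq Fact.out Nat.prime_two).mp
    ((CharP.cast_eq_zero_iff K p 2).mp (by exact_mod_cast h)))
  obtain ⟨φ, ρ, hφ, hφker, hρ, hρker, hφeq⟩ := exists_coords_sl2 hG hE hiso hact
  obtain ⟨x, hx⟩ : (-1 : SpecialLinearGroup (Fin 2) K) ∈ ρ.range := by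
    rw [hρ]
    exact mem_commutator_of_coprime (p := p) (n := 2) (by rw [pow_two, neg_mul_neg, one_mul])
      ((Nat.coprime_primes Nat.prime_two Fact.out).mpr (Ne.symm hp))
  have hEW := le_normalizer_bW hE
  have hcomm : ∀ a ∈ bW p E, ∀ b ∈ bW p E, Commute a b := fun a ha b hb =>
    bV_comm (bW_le_bV hE ha) (bW_le_bV hE hb)
  let γ := commOn hcomm (x : G) le_rfl fun w hw => mul_mem (conj_mem' (hEW x.2) hw) (inv_mem hw)
  have hγ : ∀ w : ↥(bW p E), (φ (γ w)).toAdd = -(φ w).toAdd + -(φ w).toAdd := by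
    intro w
    rw [show γ w = ⟨_, conj_mem' (hEW x.2) w.2⟩ * w⁻¹ from rfl, map_mul, toAdd_mul, map_inv, toAdd_inv,
      hφeq x w, hx]
    show (-(1 : Matrix (Fin 2) (Fin 2) K)).mulVec _ + _ = _
    rw [neg_mulVec, one_mulVec]
  have hL : E ≤ Subgroup.normalizer ((γ.range.map (bW p E).subtype : Subgroup G) : Set G) := by
    intro y hy
    refine mem_normalizer_of_le ?_
    rintro _ ⟨_, ⟨w, rfl⟩, rfl⟩
    refine ⟨γ ⟨y * w * y⁻¹, conj_mem' (hEW hy) w.2⟩, ⟨_, rfl⟩, ?_⟩
    have hq : ((x⁻¹ * (⟨y, hy⟩ * x * ⟨y, hy⟩⁻¹) : ↥E) : G) ∈ bQ p E := (hρker _).mp (by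
      rw [map_mul, map_mul, map_mul, map_inv, map_inv, hx]
      simp)
    set u := y * w * y⁻¹ with hu
    set q := ((x⁻¹ * (⟨y, hy⟩ * x * ⟨y, hy⟩⁻¹) : ↥E) : G) with hqdef
    show (x : G) * u * (x : G)⁻¹ * u⁻¹ = y * ((x : G) * w * (x : G)⁻¹ * (w : G)⁻¹) * y⁻¹
    have h3 : q * u * q⁻¹ = u := by
      rw [← bQ_le_centralizer_bW hE hG hq u (conj_mem' (hEW hy) w.2), mul_inv_cancel_right]
    have h6 : (x : G) * u * (x : G)⁻¹ = y * ((x : G) * w * (x : G)⁻¹) * y⁻¹ := by
      calc (x : G) * u * (x : G)⁻¹ = (x : G) * (q * u * q⁻¹) * (x : G)⁻¹ := by rw [h3]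
        _ = _ := by
          rw [hqdef, hu]
          simp only [Subgroup.coe_mul, Subgroup.coe_inv]
          group
    rw [h6, hu]
    group
  have hne : ¬ γ.range.map (bW p E).subtype ≤ Subgroup.centralizer (E : Set G) := by
    intro h
    obtain ⟨w, hw⟩ := hφ (Multiplicative.ofAdd ![1, 0])
    have h1 := (hφker (γ w)).mpr (h ⟨_, ⟨w, rfl⟩, rfl⟩)
    have h3 := hγ w
    rw [h1, hw] at h3
    have h4 := congrFun h3 0
    simp at h4
    exact h2 (by linear_combination h4)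
  have htop := irredW hE hG (Subgroup.map_subtype_le _) hL hne
  rw [Subgroup.eq_bot_iff_forall]
  intro v hv
  obtain ⟨v0, hv0, rfl⟩ := htop.ge hv.1
  obtain ⟨w, rfl⟩ := hv0
  have h3 := hγ w
  rw [(hφker (γ w)).mpr hv.2] at h3
  have h4 : (φ w).toAdd = 0 := funext fun i => by
    have h5 := congrFun h3 i
    simp at h5
    refine (mul_eq_zero.mp (?_ : (2 : K) * (φ w).toAdd i = 0)).resolve_left h2
    linear_combination h5
  have h5 := ((hφker w).mp (Multiplicative.toAdd.injective h4)) x x.2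
  show (x : G) * w * (x : G)⁻¹ * (w : G)⁻¹ = 1
  rw [h5, mul_inv_cancel_right, mul_inv_cancel]

/-- A block for an odd prime has an element of order prime to `p` and not an involution. -/
theorem exists_sq_ne_one {F : Subgroup G} (hF : IsBlock p F) (hp : p ≠ 2) :
    ∃ x ∈ F, (orderOf x).Coprime p ∧ x * x ≠ 1 := by
  classical
  by_contra hno
  push Not at hno
  have hD := fixed_eq_bot hG hF hp
  obtain ⟨T, -, -, -, -, hcase⟩ := id hF
  rcases hcase with ⟨K, iK, iKt, n, hn, hiso, hact, -⟩ | ⟨h2, -⟩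
  swap
  · exact absurd h2 hp
  haveI : CharP K p := by
    have h0 := FiniteField.cast_card_eq_zero K
    rw [hn] at h0
    push_cast at h0
    exact (CharP.charP_iff_prime_eq_zero Fact.out).mpr (eq_zero_of_pow_eq_zero h0)
  have h2 : (2 : K) ≠ 0 := fun h => hp ((Nat.prime_dvd_prime_iff_eq Fact.out Nat.prime_two).mp
    ((CharP.cast_eq_zero_iff K p 2).mp (by exact_mod_cast h)))
  obtain ⟨φ, ρ, hφ, hφker, hρ, hρker, hφeq⟩ := exists_coords_sl2 hG hF hiso hact
  obtain ⟨w, hw⟩ := hφ (Multiplicative.ofAdd ![1, 0])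
  obtain ⟨w', hw'⟩ := hφ (Multiplicative.ofAdd ![0, 1])
  have hinj : ∀ a b : ↥(bW p F), φ a = φ b → a = b := fun a b h => by
    have h1 : ((a⁻¹ * b : ↥(bW p F)) : G) ∈ bW p F ⊓ Subgroup.centralizer (F : Set G) :=
      ⟨(a⁻¹ * b).2, (hφker _).mp (by rw [map_mul, map_inv, h, inv_mul_cancel])⟩
    rw [hD, Subgroup.mem_bot] at h1
    exact inv_mul_eq_one.mp (Subtype.ext h1)
  have hL : F ≤ Subgroup.normalizer ((Subgroup.zpowers (w : G) : Subgroup G) : Set G) := by
    refine residual_induction (res hF) fun y hy hcop => mem_normalizer_of_le fun v hv => ?_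
    obtain ⟨i, rfl⟩ := hv
    show y * (w : G) ^ i * y⁻¹ ∈ _
    rw [← conj_zpow]
    refine Subgroup.zpow_mem _ ?_ i
    have hsq : ρ ⟨y, hy⟩ * ρ ⟨y, hy⟩ = 1 := by
      rw [← map_mul, show (⟨y, hy⟩ * ⟨y, hy⟩ : ↥F) = 1 from Subtype.ext (hno y hy hcop), map_one]
    have hinv : (ρ ⟨y, hy⟩)⁻¹ = ρ ⟨y, hy⟩ := inv_eq_of_mul_eq_one_right hsq
    have h0 := congrArg (fun m : SpecialLinearGroup (Fin 2) K => (m : Matrix (Fin 2) (Fin 2) K)) hinv
    change adjugate (ρ ⟨y, hy⟩).1 = (ρ ⟨y, hy⟩).1 at h0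
    rw [adjugate_fin_two] at h0
    set g := (ρ ⟨y, hy⟩).1 with hg
    have h10 : g 1 0 = 0 := by
      have h := congrFun (congrFun h0 1) 0
      simp at h
      refine (mul_eq_zero.mp (?_ : (2 : K) * g 1 0 = 0)).resolve_left h2
      linear_combination -h
    have h00 : g 1 1 = g 0 0 := by simpa using congrFun (congrFun h0 0) 0
    have hd := (ρ ⟨y, hy⟩).2
    rw [← hg, det_fin_two, h10, h00] at hd
    have hsign : (g 0 0 - 1) * (g 0 0 + 1) = 0 := by linear_combination hd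
    have himg : (φ ⟨y * w * y⁻¹, conj_mem' (le_normalizer_bW hF hy) w.2⟩).toAdd = ![g 0 0, 0] := by
      rw [hφeq ⟨y, hy⟩ w, hw, toAdd_ofAdd]
      ext i
      fin_cases i <;> simp [mulVec, dotProduct, Fin.sum_univ_two, ← hg, h10]
    rcases mul_eq_zero.mp hsign with h | h
    · rw [sub_eq_zero.mp h] at himg
      have h3 := congrArg Subtype.val (hinj _ w (Multiplicative.toAdd.injective
        (himg.trans (by rw [hw, toAdd_ofAdd]))))
      rw [show y * (w : G) * y⁻¹ = w from h3]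
      exact Subgroup.mem_zpowers _
    · rw [eq_neg_of_add_eq_zero_left h] at himg
      have h3 := congrArg Subtype.val (hinj _ w⁻¹ (Multiplicative.toAdd.injective
        (himg.trans (by rw [map_inv, hw, toAdd_inv, toAdd_ofAdd]; simp))))
      rw [show y * (w : G) * y⁻¹ = (w : G)⁻¹ from h3]
      exact inv_mem (Subgroup.mem_zpowers _)
  have htop := irredW hF hG (Subgroup.zpowers_le.mpr w.2) hL fun h => by
    have h1 := (hφker w).mpr (h (Subgroup.mem_zpowers _))
    rw [hw] at h1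
    simpa using congrFun (congrArg Multiplicative.toAdd h1) 0
  obtain ⟨i, hi⟩ := htop.ge w'.2
  have h1 : w' = w ^ i := Subtype.ext (by simpa using hi.symm)
  rw [h1, map_zpow, hw] at hw'
  simpa using congrFun (congrArg Multiplicative.toAdd hw') 1

/-- Pairwise commuting blocks permuted by a block with a smaller module are normalized by it. -/
theorem le_normalizer_of_family {E F : Subgroup G} (hE : IsBlock p E) (hF : IsBlock p F)
    (hgood : bQ p F ≤ Cfsg.pCore p G)
    (hfam : ∀ x ∈ F, x ∈ Subgroup.normalizer (E : Set G) ∨ ⁅E, E.map (MulAut.conj x).toMonoidHom⁆ = ⊥)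
    (hd : uCard p F ≤ uCard p E) : F ≤ Subgroup.normalizer (E : Set G) := by
  classical
  set M := Cfsg.omegaOneCenter p (Cfsg.pCore p G) with hM
  have hMEA : Cfsg.IsElementaryAbelian p M := CfsgLib.PLocal.omegaCenter_isEA _
  have hMcomm : ∀ a ∈ M, ∀ b ∈ M, Commute a b := fun a ha b hb =>
    CfsgLib.PLocal.commute_of_mem_comm hMEA.1 ha hb
  have hEM : bW p E ≤ M := bW_le_omega hE hG
  have hFM : bW p F ≤ M := bW_le_omega hF hG
  have hMn : ∀ x, x ∈ Subgroup.normalizer (M : Set G) := fun x => map_conj_omegaOneCenter p (by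
    haveI := core_normal p G
    rw [Subgroup.normalizer_eq_top]; exact Subgroup.mem_top x)
  have hW : bW p E ≤ E := bW_le hE
  have hFW := le_normalizer_bW hF
  let D' : Subgroup ↥(bW p F) := (bW p F ⊓ Subgroup.centralizer (F : Set G)).subgroupOf (bW p F)
  haveI : D'.Normal := ⟨fun a ha g => by
    rwa [show g * a * g⁻¹ = a from mul_inv_eq_iff_eq_mul.mpr (Subtype.ext
      (bV_comm (bW_le_bV hF g.2) (bW_le_bV hF a.2)).eq)]⟩
  have hone := one_lt_uCard hG hE
  have hsq : ∀ x ∈ F, (orderOf x).Coprime p → x * x ∈ Subgroup.normalizer (E : Set G) := by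
    intro x hx hcop
    by_contra hxx
    have h12 := (hfam x hx).resolve_left fun h => hxx (mul_mem h h)
    have h13 := (hfam _ (mul_mem hx hx)).resolve_left hxx
    let c := commOn hMcomm x hFM fun m hm => conj_omega_mem hF hG hgood hx hm
    have h1 := uCard_sq_le_of_move hEM hMcomm hW (hMn x) ((QuotientGroup.mk' D').comp c)
      (fun s hs => fixed_of_stable hcop
        (((QuotientGroup.eq_one_iff (c s)).mp hs).2 x hx)
        ((bV_isEA p F).2 _ (bW_le_bV hF (c s).2))) h12 h13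
    have h2 : Nat.card ((QuotientGroup.mk' D').comp c).range ≤ uCard p F := by
      refine le_trans (Subgroup.card_le_card_group _) ?_
      exact le_of_eq (Subgroup.index_eq_card D').symm
    have h3 : uCard p E * uCard p E ≤ uCard p E * 1 := by omega
    have h4 := Nat.le_of_mul_le_mul_left h3 (by omega)
    omega
  refine residual_induction (res hF) fun x hx hcop => ?_
  by_cases hp : p = 2
  · subst hp
    obtain ⟨m, hm⟩ := exists_pow_eq_self_of_coprime (x := x) (n := 2) hcop.symm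
    rw [← hm, pow_two]
    exact pow_mem (hsq x hx hcop) m
  by_contra hxE
  have h12 := (hfam x hx).resolve_left hxE
  have hD := fixed_eq_bot hG hE hp
  have hD' := fixed_eq_bot hG hF hp
  have hzero : ∀ w ∈ bW p E, w ∈ Subgroup.centralizer (E : Set G) → w = 1 := fun w h h' =>
    (Subgroup.mem_bot).mp (hD ▸ Subgroup.mem_inf.mpr ⟨h, h'⟩)
  -- every element of the module of `F` is a commutator
  let c : ↥(bW p E) → ↥(bW p F) := fun w =>
    ⟨x * w * x⁻¹ * (w : G)⁻¹, conj_omega_mem hF hG hgood hx (hEM w.2)⟩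
  have hcinj : Function.Injective c := by
    intro a b h
    have h1 : x * a * x⁻¹ * (a : G)⁻¹ = x * b * x⁻¹ * (b : G)⁻¹ := congrArg Subtype.val h
    have h2 : x * ((b : G)⁻¹ * a) * x⁻¹ = (b : G)⁻¹ * a := by
      calc x * ((b : G)⁻¹ * a) * x⁻¹ = (x * b * x⁻¹)⁻¹ * (x * a * x⁻¹ * (a : G)⁻¹) * a := by group
        _ = (x * b * x⁻¹)⁻¹ * (x * b * x⁻¹ * (b : G)⁻¹) * a := by rw [h1]
        _ = (b : G)⁻¹ * a := by group
    have h4 := (conj_mem_centralizer h12 (hW (b⁻¹ * a).2)).1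
    rw [show ((b⁻¹ * a : ↥(bW p E)) : G) = (b : G)⁻¹ * a from rfl, h2] at h4
    have h3 := hzero _ (b⁻¹ * a).2 h4
    exact (inv_mul_eq_one.mp (Subtype.ext h3)).symm
  have hcsurj : Function.Surjective c := by
    refine ((Nat.bijective_iff_injective_and_card c).mpr ⟨hcinj, le_antisymm ?_ ?_⟩).2
    · exact Nat.card_le_card_of_injective c hcinj
    · have e1 : uCard p E = Nat.card ↥(bW p E) := by rw [uCard, hD, Subgroup.relIndex_bot_left]
      have e2 : uCard p F = Nat.card ↥(bW p F) := by rw [uCard, hD', Subgroup.relIndex_bot_left]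
      rw [← e1, ← e2]; exact hd
  -- the normalizer of `E` in `F` is `O_p(F)`
  have hNQ : ∀ y ∈ F, y ∈ Subgroup.normalizer (E : Set G) → y ∈ bQ p F := by
    intro y hy hyE
    refine centralizer_bW_inf hF hG hy fun v hv => ?_
    obtain ⟨w, hw⟩ := hcsurj ⟨v, hv⟩
    have hwv : x * w * x⁻¹ * (w : G)⁻¹ = v := congrArg Subtype.val hw
    have hyw : y * w * y⁻¹ = (w : G) := by
      set d := y * w * y⁻¹ * (w : G)⁻¹ with hd'
      have hdW : d ∈ bW p E :=
        mul_mem (conj_mem' (normalizer_le_normalizer_bW E hyE) w.2) (inv_mem w.2)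
      obtain ⟨w0, hw0⟩ := hcsurj ⟨d, conj_omega_mem hF hG hgood hy (hEM w.2)⟩
      have hw0' : x * w0 * x⁻¹ * (w0 : G)⁻¹ = d := congrArg Subtype.val hw0
      have h1 : x * w0 * x⁻¹ ∈ bW p E := by
        rw [show x * w0 * x⁻¹ = d * w0 by rw [← hw0']; group]
        exact mul_mem hdW w0.2
      have h2 := hzero _ h1 (conj_mem_centralizer h12 (hW w0.2)).1
      have h3 : (w0 : G) = 1 := conj_eq_one_iff.mp h2
      rw [h3] at hw0'
      simp at hw0'
      exact mul_inv_eq_one.mp hw0'.symm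
    obtain ⟨w', hw'⟩ := hcsurj ⟨y * v * y⁻¹, conj_mem' (hFW hy) hv⟩
    have hw'' : x * w' * x⁻¹ * (w' : G)⁻¹ = y * v * y⁻¹ := congrArg Subtype.val hw'
    have hyx := (hfam _ (mul_mem hy hx)).resolve_left fun h => hxE (by
      simpa using mul_mem (inv_mem hyE) h)
    have he : (w' : G)⁻¹ * w = (x * w' * x⁻¹)⁻¹ * (y * x * w * (y * x)⁻¹) := by
      calc (w' : G)⁻¹ * w = (x * w' * x⁻¹)⁻¹ * (x * w' * x⁻¹ * (w' : G)⁻¹) * w := by group
        _ = (x * w' * x⁻¹)⁻¹ * (y * (x * w * x⁻¹ * (w : G)⁻¹) * y⁻¹) * w := by rw [hw'', hwv]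
        _ = (x * w' * x⁻¹)⁻¹ * (y * x * w * (y * x)⁻¹) * (y * w * y⁻¹)⁻¹ * w := by group
        _ = _ := by rw [hyw]; group
    have h4 := hzero _ (mul_mem (inv_mem w'.2) w.2) (by
      rw [he]
      exact mul_mem (inv_mem (conj_mem_centralizer h12 (hW w'.2)).1)
        (conj_mem_centralizer hyx (hW w.2)).1)
    rw [inv_mul_eq_one] at h4
    rw [h4, hwv] at hw''
    exact (mul_inv_eq_iff_eq_mul.mp hw''.symm).symm
  obtain ⟨z, hz, hzcop, hz2⟩ := exists_sq_ne_one hG hF hp
  apply hz2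
  obtain ⟨k, hk⟩ := pCoreOf_isPGroup p F ⟨z * z, hNQ _ (mul_mem hz hz) (hsq z hz hzcop)⟩
  refine orderOf_eq_one_iff.mp (Nat.eq_one_of_dvd_coprimes (hzcop.pow_right k) ?_
    (orderOf_dvd_of_pow_eq_one (congrArg Subtype.val hk)))
  rw [← pow_two]
  exact orderOf_pow_dvd 2

end CfsgLib.BlockPair
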