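import Cfsg.Agent.Lib.BlockPair.Same
import Cfsg.Agent.Lib.BlockPair.Orbit

/-!
# A block inside `E C(W)` not centralizing the module lies in `E`
-/

set_option autoImplicit false
set_option linter.unusedSectionVars false
set_option linter.style.haveILetI false

open Matrix
open scoped commutatorElement

namespace CfsgLib.BlockPair

open CfsgLib.LocalEven CfsgLib.LocalEven.BBlock CfsgLib.BlockNorm

variable {G : Type*} [Group G] [Finite G] {p : ℕ} [Fact p.Prime]

variable (hG : Subgroup.centralizer (Cfsg.pCore p G : Set G) ≤ Cfsg.pCore p G)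

include hG

/-- `O_p(E) ∩ Ω₁(Z(O_p(G))) ≤ Ω₁(Z(O_p(E)))` for any block. -/
theorem omega_inf_bQ_le {E : Subgroup G} (hE : IsBlock p E) :
    Cfsg.omegaOneCenter p (Cfsg.pCore p G) ⊓ bQ p E ≤ bV p E := by
  classical
  obtain ⟨T, -, -, -, -, hcase⟩ := id hE
  rcases hcase with ⟨K, iK, iKt, n, hn, -, -, hQ | ⟨hp, hact2, hQQ, -, hZ, hcard, -⟩⟩ | ⟨-, m, -, -, hQ⟩
  · exact inf_le_right.trans hQ.le
  · by_contra hle
    set M := Cfsg.omegaOneCenter p (Cfsg.pCore p G) with hM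
    have hMn : ∀ g, g ∈ Subgroup.normalizer (M : Set G) := fun g =>
      map_conj_omegaOneCenter p (by
        haveI := core_normal p G
        rw [Subgroup.normalizer_eq_top]; exact Subgroup.mem_top g)
    have hEL : E ≤ Subgroup.normalizer (((M ⊓ bQ p E) ⊔ bV p E : Subgroup G) : Set G) := by
      intro x hx
      refine CfsgLib.PLocal.mem_normalizer_of_map_conj_eq ?_
      rw [Subgroup.map_sup, CfsgLib.PLocal.map_conj_eq_of_mem_normalizer (le_normalizer_bV hE hx),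
        CfsgLib.PLocal.map_conj_eq_of_mem_normalizer (mem_normalizer_of_le fun y hy =>
          Subgroup.mem_inf.mpr ⟨conj_mem' (hMn x) hy.1,
            conj_mem' (le_normalizer_pCoreOf p E hx) hy.2⟩)]
    have htop := section_simple_sl2 hact2 le_sup_right (sup_le inf_le_right (bV_le_bQ p E)) hEL
      fun h => hle (le_sup_left.trans h)
    have h2 : bQ p E ≤ Subgroup.centralizer (bQ p E : Set G) := by
      have h1 : M ⊓ bQ p E ≤ Subgroup.centralizer (bQ p E : Set G) := by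
        refine Subgroup.le_centralizer_iff.mp ?_
        refine htop.ge.trans (sup_le (fun a ha b hb => ?_) (fun a ha b hb => ?_))
        · exact (CfsgLib.PLocal.commute_of_mem_comm (CfsgLib.PLocal.omegaCenter_isEA (p := p)
            (Cfsg.pCore p G)).1 hb.1 ha.1).eq
        · exact (bV_central ha hb.2).eq.symm
      exact htop.ge.trans (sup_le h1 fun a ha b hb => (bV_central ha hb).eq.symm)
    have hbot : ⁅bQ p E, bQ p E⁆ = ⊥ := Subgroup.commutator_eq_bot_iff_le_centralizer.mpr h2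
    rw [hbot] at hQQ
    rw [hZ, ← hQQ, Subgroup.card_bot] at hcard
    subst hp
    rcases n with _ | n
    · rw [pow_zero] at hn
      exact (Fintype.one_lt_card (α := K)).ne' hn
    · have : 3 ≤ 3 ^ (n + 1) := Nat.le_self_pow (Nat.succ_ne_zero n) 3
      omega
  · exact inf_le_right.trans hQ.le

/-- `[Ω₁(Z(O_p(G))), E] ≤ W` for any block. -/
theorem conj_omega_mem' {E : Subgroup G} (hE : IsBlock p E) {x m : G} (hx : x ∈ E)
    (hm : m ∈ Cfsg.omegaOneCenter p (Cfsg.pCore p G)) : x * m * x⁻¹ * m⁻¹ ∈ bW p E := by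
  haveI := core_normal p G
  have hmO : m ∈ Cfsg.pCore p G := (CfsgLib.PLocal.omegaOne_le p _ hm).1
  have hMn : ∀ g, g * m * g⁻¹ ∈ Cfsg.omegaOneCenter p (Cfsg.pCore p G) := fun g =>
    conj_mem' (map_conj_omegaOneCenter p (by
      rw [Subgroup.normalizer_eq_top]; exact Subgroup.mem_top g)) hm
  have hV : ∀ y ∈ E, y * m * y⁻¹ * m⁻¹ ∈ bV p E := fun y hy =>
    omega_inf_bQ_le hG hE (Subgroup.mem_inf.mpr
      ⟨mul_mem (hMn y) (inv_mem hm), conj_pCore_mem hE hG hy hmO⟩)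
  let S : Subgroup G :=
    { carrier := {x | x ∈ E ∧ x * m * x⁻¹ * m⁻¹ ∈ bW p E}
      one_mem' := ⟨one_mem _, by simp⟩
      mul_mem' := fun {a b} ha hb => ⟨mul_mem ha.1 hb.1, by
        rw [show a * b * m * (a * b)⁻¹ * m⁻¹ =
          a * (b * m * b⁻¹ * m⁻¹) * a⁻¹ * (a * m * a⁻¹ * m⁻¹) by group]
        exact mul_mem (conj_mem' (le_normalizer_bW hE ha.1) hb.2) ha.2⟩
      inv_mem' := fun {a} ha => ⟨inv_mem ha.1, by
        have h := conj_mem' (inv_mem (le_normalizer_bW hE ha.1)) (inv_mem ha.2)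
        rw [show a⁻¹ * (a * m * a⁻¹ * m⁻¹)⁻¹ * a⁻¹⁻¹ = a⁻¹ * m * a * m⁻¹ by group] at h
        rwa [inv_inv]⟩ }
  refine (residual_induction (res hE) (R := S) (fun y hy hcop => ⟨hy, ?_⟩) hx).2
  refine stable_mem (o := m) (le_normalizer_bW hE hy) hcop
    (fun w hw => bV_comm (bW_le_bV hE hw) (hV y hy)) (k := 1)
    (by rw [pow_one]; exact (bV_isEA p E).2 _ (hV y hy)) (by group) ?_
  have hm' := inv_mem (Subgroup.commutator_mem_commutator (hV y hy) hy)
  rwa [commutatorElement_inv, commutatorElement_def] at hm'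

/-- A block normalizing `E` and not centralizing its module has its module inside. -/
theorem bW_le_of_not_le {E F : Subgroup G} (hE : IsBlock p E) (hF : IsBlock p F)
    (hFE : F ≤ Subgroup.normalizer (E : Set G))
    (hFW : ¬ F ≤ Subgroup.centralizer (bW p E : Set G)) : bW p F ≤ bW p E := by
  set L := bW p E ⊓ bW p F with hL
  have hFNW : F ≤ Subgroup.normalizer (bW p E : Set G) := hFE.trans (normalizer_le_normalizer_bW E)
  have hFL : F ≤ Subgroup.normalizer (L : Set G) := fun x hx => mem_normalizer_of_le fun y hy =>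
    Subgroup.mem_inf.mpr ⟨conj_mem' (hFNW hx) hy.1, conj_mem' (le_normalizer_bW hF hx) hy.2⟩
  by_cases hC : L ≤ Subgroup.centralizer (F : Set G)
  · exfalso
    apply hFW
    refine residual_induction (res hF) fun x hx hcop w hw => ?_
    have h : x * w * x⁻¹ * w⁻¹ ∈ L := Subgroup.mem_inf.mpr
      ⟨Subgroup.mul_mem _ (conj_mem' (hFNW hx) hw) (Subgroup.inv_mem _ hw),
        conj_omega_mem' hG hF hx (bW_le_omega hE hG hw)⟩
    exact (mul_inv_eq_iff_eq_mul.mp (fixed_of_stable hcop ((hC h) x hx)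
      ((bV_isEA p F).2 _ (bW_le_bV hF h.2)))).symm
  · have h := irredW hF hG (inf_le_right : L ≤ bW p F) hFL hC
    rw [← h]
    exact inf_le_left

/-- If `E` is linear and `F ≤ E C(W)` stabilizes `O_p(G) ≥ W ≥ 1`, then `F ≤ E`. -/
theorem le_of_stable {E F : Subgroup G} (hE : IsBlock p E) (hF : IsBlock p F)
    (hlin : bQ p E = bW p E)
    (hO : ∀ y ∈ F, ∀ o ∈ Cfsg.pCore p G, y * o * y⁻¹ * o⁻¹ ∈ bW p E)
    (hM : F ≤ E ⊔ Subgroup.centralizer (bW p E : Set G)) : F ≤ E := by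
  classical
  haveI := core_normal p G
  have hCE : Subgroup.centralizer (bW p E : Set G) ≤ Subgroup.normalizer (E : Set G) :=
    centralizer_le_normalizer hG hE.choose hE.choose_spec
  have hEW := le_normalizer_bW hE
  refine residual_induction (res hF) fun y hy hcop => ?_
  obtain ⟨x, hx, hc⟩ := exists_of_mem_sup hG hE (hM hy)
  set O := Cfsg.pCore p G with hOdef
  set W := bW p E with hWdef
  let K : Subgroup G :=
    { carrier := {g | g ∈ Subgroup.centralizer (W : Set G) ∧ ∀ o ∈ O, g * o * g⁻¹ * o⁻¹ ∈ W}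
      one_mem' := ⟨one_mem _, fun o _ => by simp⟩
      mul_mem' := fun {a b} ha hb => ⟨mul_mem ha.1 hb.1, fun o ho => by
        rw [show a * b * o * (a * b)⁻¹ * o⁻¹ =
          a * (b * o * b⁻¹ * o⁻¹) * a⁻¹ * (a * o * a⁻¹ * o⁻¹) by group,
          ← ha.1 _ (hb.2 o ho), mul_inv_cancel_right]
        exact mul_mem (hb.2 o ho) (ha.2 o ho)⟩
      inv_mem' := fun {a} ha => ⟨inv_mem ha.1, fun o ho => by
        have h := inv_mem (ha.2 o ho)
        rw [show a⁻¹ * o * a⁻¹⁻¹ * o⁻¹ = a⁻¹ * (a * o * a⁻¹ * o⁻¹)⁻¹ * a by group, mul_assoc,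
          ha.1 _ h, inv_mul_cancel_left]
        exact h⟩ }
  have hKp : IsPGroup p ↥K := by
    intro g
    have hW1 : ∀ o ∈ O, ((g : G) ^ p) * o * ((g : G) ^ p)⁻¹ = o := by
      intro o ho
      obtain ⟨w, hw, hwe⟩ : ∃ w ∈ W, (g : G) * o * (g : G)⁻¹ = w * o := ⟨_, g.2.2 o ho, by group⟩
      have key : ∀ n : ℕ, (g : G) ^ n * o * ((g : G) ^ n)⁻¹ = w ^ n * o := by
        intro n
        induction n with
        | zero => simp
        | succ n ih =>
          have hc' : Commute (g : G) (w ^ n) :=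
            (show Commute (g : G) w from (g.2.1 w hw).symm).pow_right n
          calc (g : G) ^ (n + 1) * o * ((g : G) ^ (n + 1))⁻¹
              = (g : G) * ((g : G) ^ n * o * ((g : G) ^ n)⁻¹) * (g : G)⁻¹ := by rw [pow_succ']; group
            _ = w ^ n * ((g : G) * o * (g : G)⁻¹) := by rw [ih, ← mul_assoc, hc'.eq]; group
            _ = w ^ (n + 1) * o := by rw [hwe, pow_succ]; group
      rw [key p, (bV_isEA p E).2 w (bW_le_bV hE hw), one_mul]
    obtain ⟨k, hk⟩ := core_isPGroup p G ⟨(g : G) ^ p,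
      hG fun o ho => (mul_inv_eq_iff_eq_mul.mp (hW1 o ho)).symm⟩
    refine ⟨k + 1, Subtype.ext ?_⟩
    show ((g : G)) ^ p ^ (k + 1) = 1
    rw [pow_succ', pow_mul]
    exact congrArg Subtype.val hk
  refine mem_of_coprime_sup hKp (fun g hg => hCE hg.1) ?_ hcop
  rw [show y = x * (x⁻¹ * y) by group]
  refine mul_mem (Subgroup.mem_sup_left hx) (Subgroup.mem_sup_right ⟨hc, fun o ho => ?_⟩)
  rw [show x⁻¹ * y * o * (x⁻¹ * y)⁻¹ * o⁻¹ =
    x⁻¹ * (y * o * y⁻¹ * o⁻¹) * x⁻¹⁻¹ * (x⁻¹ * o * x⁻¹⁻¹ * o⁻¹) by group]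
  refine mul_mem (conj_mem' (inv_mem (hEW hx)) (hO y hy o ho)) ?_
  rw [← hlin]; exact conj_pCore_mem hE hG (inv_mem hx) ho

/-- A block inside `E C(W)` which does not centralize `W` lies in `E`. -/
theorem le_of_le_sup {E F : Subgroup G} (hE : IsBlock p E) (hF : IsBlock p F)
    (hgood : bQ p E ≤ Cfsg.pCore p G) (hFE : F ≤ Subgroup.normalizer (E : Set G))
    (hFW : ¬ F ≤ Subgroup.centralizer (bW p E : Set G))
    (hM : F ≤ E ⊔ Subgroup.centralizer (bW p E : Set G)) : F ≤ E := by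
  classical
  have hWW := bW_le_of_not_le hG hE hF hFE hFW
  have hCE : Subgroup.centralizer (bW p E : Set G) ≤ Subgroup.normalizer (E : Set G) :=
    centralizer_le_normalizer hG hE.choose hE.choose_spec
  have hCF : Subgroup.centralizer (bW p F : Set G) ≤ Subgroup.normalizer (F : Set G) :=
    centralizer_le_normalizer hG hF.choose hF.choose_spec
  have hCC : Subgroup.centralizer (bW p E : Set G) ≤ Subgroup.centralizer (bW p F : Set G) :=
    Subgroup.centralizer_le hWW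
  by_cases hp2 : p = 2
  · have hlin : bQ p E = bW p E :=
      (exists_ctx_of_good hE hG hgood).resolve_right fun h => by omega
    obtain ⟨T, hT⟩ := id hF
    have hQV : Cfsg.pCoreOf p F = bV p F := by
      rcases hT.2.2.2.2 with ⟨K, iK, iKt, n, -, -, -, hQ | ⟨hp, -⟩⟩ | ⟨-, m, -, -, hQ⟩
      · exact hQ
      · omega
      · exact hQ
    exact le_of_stable hG hE hF hlin
      (fun y hy o ho => hWW (stable_of_eq hG T hT hQV o ho y hy)) hM
  -- odd characteristic: both blocks are of linear type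
  obtain ⟨T, -, -, -, -, hcase⟩ := id hF
  rcases hcase with ⟨K, iK, iKt, n, hn, hiso, hact, -⟩ | ⟨hp, -⟩
  swap
  · exact absurd hp hp2
  haveI : CharP K p := by
    have h0 := FiniteField.cast_card_eq_zero K
    rw [hn] at h0
    push_cast at h0
    exact (CharP.charP_iff_prime_eq_zero (Fact.out : p.Prime)).mpr (eq_zero_of_pow_eq_zero h0)
  obtain ⟨φ, ρ, hφ, hφker, hρ, hρker, hρφ⟩ := exists_coords_sl2 hG hF hiso hact
  have hcomm : ∀ y y' : ↥F, ∃ i : ↥F, (i : G) ∈ E ∧ ρ (y * y' * y⁻¹ * y'⁻¹) = ρ i := by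
    intro y y'
    obtain ⟨e', he', hc⟩ := exists_of_mem_sup hG hE (hM y'.2)
    set c := e'⁻¹ * (y' : G) with hcdef
    set q := (y : G) * c * (y : G)⁻¹ * c⁻¹ with hq
    have hqF : q ∈ F := by
      rw [hq, show (y : G) * c * (y : G)⁻¹ * c⁻¹ = (y : G) * (c * (y : G)⁻¹ * c⁻¹) by group]
      exact mul_mem y.2 (conj_mem' (hCF (hCC hc)) (inv_mem y.2))
    have hqQ : q ∈ bQ p F := centralizer_bW_inf hF hG hqF
      (mul_mem (conj_centralizer_mem (le_normalizer_bW hF y.2) (hCC hc)) (inv_mem (hCC hc)))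
    set i0 := (y : G) * y' * (y : G)⁻¹ * (y' : G)⁻¹ * q⁻¹ with hi0
    have hi0F : i0 ∈ F :=
      mul_mem (mul_mem (mul_mem (mul_mem y.2 y'.2) (inv_mem y.2)) (inv_mem y'.2)) (inv_mem hqF)
    refine ⟨⟨i0, hi0F⟩, ?_, ?_⟩
    · show i0 ∈ E
      have e : i0 = ((y : G) * e' * (y : G)⁻¹ * e'⁻¹) * (e' * (q * e'⁻¹ * q⁻¹)) := by
        rw [hi0, hq, hcdef]; group
      rw [e]
      exact mul_mem (mul_mem (conj_mem' (hFE y.2) he') (inv_mem he'))
        (mul_mem he' (conj_mem' (hFE hqF) (inv_mem he')))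
    · rw [show y * y' * y⁻¹ * y'⁻¹ = ⟨i0, hi0F⟩ * ⟨q, hqF⟩ from Subtype.ext (by simp [hi0]), map_mul,
        (hρker ⟨q, hqF⟩).mpr hqQ, mul_one]
  let S : Subgroup (SpecialLinearGroup (Fin 2) K) := (E.subgroupOf F).map ρ
  have hR : ⁅ρ.range, ρ.range⁆ ≤ S := by
    refine Subgroup.commutator_le.mpr ?_
    rintro _ ⟨y, rfl⟩ _ ⟨y', rfl⟩
    obtain ⟨i, hi, he⟩ := hcomm y y'
    rw [commutatorElement_def, ← map_inv, ← map_inv, ← map_mul, ← map_mul, ← map_mul, he]
    exact ⟨i, Subgroup.mem_subgroupOf.mpr hi, rfl⟩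
  rcases le_or_gt 4 (Fintype.card K) with h4 | h4
  · refine le_of_le_mul hF hFE fun x hx => ?_
    have htop := commutator_eq_top h4
    have h1 : ρ ⟨x, hx⟩ ∈ S := hR (by
      rw [hρ, htop, ← commutator_def, htop]
      exact Subgroup.mem_top _)
    obtain ⟨i, hi, he⟩ := h1
    refine ⟨i, i.2, Subgroup.mem_subgroupOf.mp hi, ?_⟩
    exact (hρker (i⁻¹ * ⟨x, hx⟩)).mp (by rw [map_mul, map_inv, he, inv_mul_cancel])
  -- the field has three elements
  have hp3 : p = 3 ∧ n = 1 := by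
    rcases n with _ | _ | n
    · rw [pow_zero] at hn; exact absurd hn (Fintype.one_lt_card (α := K)).ne'
    · rw [pow_one] at hn
      have := (Fact.out : p.Prime).two_le
      exact ⟨by omega, rfl⟩
    · have h := Nat.pow_le_pow_left (Fact.out : p.Prime).two_le (n + 2)
      have h' : 2 ^ 2 ≤ 2 ^ (n + 2) := Nat.pow_le_pow_right (by norm_num) (by omega)
      rw [hn, show n + 1 + 1 = n + 2 from rfl] at h4
      omega
  obtain ⟨hp3, hn1⟩ := hp3
  subst hp3
  rw [hn1, pow_one] at hn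
  have hSn : ∀ g ∈ commutator (SpecialLinearGroup (Fin 2) K), ∀ s ∈ S, g * s * g⁻¹ ∈ S := by
    rintro g hg _ ⟨i, hi, rfl⟩
    rw [← hρ] at hg
    obtain ⟨y, rfl⟩ := hg
    refine ⟨y * i * y⁻¹, Subgroup.mem_subgroupOf.mpr ?_, by rw [map_mul, map_mul, map_inv]⟩
    exact conj_mem' (hFE y.2) (Subgroup.mem_subgroupOf.mp hi)
  have hSne : S ≠ ⊥ := by
    intro h
    obtain ⟨a, ha, b, hb, hab⟩ := not_commutative (F := K)
    apply hab
    rw [← hρ] at ha hb
    have h1 := hR (Subgroup.commutator_mem_commutator ha hb)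
    rw [h, Subgroup.mem_bot, commutatorElement_eq_one_iff_mul_comm] at h1
    exact h1
  obtain ⟨i, hiE, hiρ⟩ := neg_one_mem_of_normal S
    (by rw [← hρ]; exact Subgroup.map_le_range ρ _) hSn hSne
  replace hiE : (i : G) ∈ E := Subgroup.mem_subgroupOf.mp hiE
  have hbotF := fixed_eq_bot hG hF hp2
  have hφinj : ∀ a b : ↥(bW 3 F), φ a = φ b → a = b := by
    intro a b h
    refine inv_mul_eq_one.mp (Subtype.ext ?_)
    have h1 : ((a⁻¹ * b : ↥(bW 3 F)) : G) ∈ bW 3 F ⊓ Subgroup.centralizer (F : Set G) :=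
      Subgroup.mem_inf.mpr ⟨(a⁻¹ * b).2, (hφker _).mp (by rw [map_mul, map_inv, h, inv_mul_cancel])⟩
    rw [hbotF, Subgroup.mem_bot] at h1
    exact h1
  have hinvF : ∀ z : ↥F, ρ z = -1 → ∀ w ∈ bW 3 F, (z : G) * w * (z : G)⁻¹ = w⁻¹ := by
    intro z hz w hw
    refine congrArg Subtype.val (hφinj ⟨_, conj_mem' (le_normalizer_bW hF z.2) hw⟩ (⟨w, hw⟩ : ↥(bW 3 F))⁻¹ ?_)
    refine Multiplicative.toAdd.injective ((hρφ z ⟨w, hw⟩).trans ?_)
    rw [hz, map_inv, toAdd_inv]
    show (-(1 : Matrix (Fin 2) (Fin 2) K)).mulVec _ = _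
    rw [neg_mulVec, one_mulVec]
  -- an element inverting both modules
  obtain ⟨k, hk⟩ := pCoreOf_isPGroup 3 F ⟨(i : G) * i, (hρker (i * i)).mp (by
    rw [map_mul, hiρ, neg_mul_neg, one_mul])⟩
  have hk' : ((i : G) * i) ^ 3 ^ k = 1 := congrArg Subtype.val hk
  set j := i ^ 3 ^ k with hj
  have hjE : (j : G) ∈ E := by rw [hj, Subgroup.coe_pow]; exact pow_mem hiE _
  have hjρ : ρ j = -1 := by rw [hj, map_pow, hiρ, Odd.neg_one_pow ((by decide : Odd 3).pow)]
  have hbotE := fixed_eq_bot hG hE hp2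
  obtain ⟨TE, -, -, -, -, hcaseE⟩ := id hE
  rcases hcaseE with ⟨K', iK', iKt', n', hn', hiso', hact', -⟩ | ⟨hp, -⟩
  swap
  · exact absurd hp hp2
  haveI : CharP K' 3 := by
    have h0 := FiniteField.cast_card_eq_zero K'
    rw [hn'] at h0
    push_cast at h0
    exact (CharP.charP_iff_prime_eq_zero Nat.prime_three).mpr (eq_zero_of_pow_eq_zero h0)
  obtain ⟨φ', ρ', hφ', hφker', hρ', hρker', hρφ'⟩ := exists_coords_sl2 hG hE hiso' hact'
  have hinjE : ∀ a b : ↥(bW 3 E), φ' a = φ' b → a = b := by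
    intro a b h
    refine inv_mul_eq_one.mp (Subtype.ext ?_)
    have h1 : ((a⁻¹ * b : ↥(bW 3 E)) : G) ∈ bW 3 E ⊓ Subgroup.centralizer (E : Set G) :=
      Subgroup.mem_inf.mpr ⟨(a⁻¹ * b).2, (hφker' _).mp (by rw [map_mul, map_inv, h, inv_mul_cancel])⟩
    rw [hbotE, Subgroup.mem_bot] at h1
    exact h1
  have hinvE : ∀ z : ↥E, ρ' z = -1 → ∀ w ∈ bW 3 E, (z : G) * w * (z : G)⁻¹ = w⁻¹ := by
    intro z hz w hw
    refine congrArg Subtype.val (hinjE ⟨_, conj_mem' (le_normalizer_bW hE z.2) hw⟩ (⟨w, hw⟩ : ↥(bW 3 E))⁻¹ ?_)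
    refine Multiplicative.toAdd.injective ((hρφ' z ⟨w, hw⟩).trans ?_)
    rw [hz, map_inv, toAdd_inv]
    show (-(1 : Matrix (Fin 2) (Fin 2) K')).mulVec _ = _
    rw [neg_mulVec, one_mulVec]
  have hjne : ρ' ⟨j, hjE⟩ ≠ 1 := by
    intro h
    apply bW_not_le_centralizer hF hG
    intro w hw
    have h1 : (j : G) * w * (j : G)⁻¹ = w := by
      rw [← bQ_le_centralizer_bW hE hG ((hρker' _).mp h) w (hWW hw), mul_inv_cancel_right]
    have h2 := h1.symm.trans (hinvF j hjρ w hw)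
    have h3 : w = 1 := orderOf_eq_one_iff.mp (Nat.eq_one_of_dvd_coprimes
      (by norm_num : Nat.Coprime 2 3)
      (orderOf_dvd_of_pow_eq_one (by rw [pow_two]; nth_rewrite 1 [h2]; exact inv_mul_cancel w))
      (orderOf_dvd_of_pow_eq_one ((bV_isEA 3 F).2 w (bW_le_bV hF hw))))
    rw [h3]
    exact one_mem _
  have hjE1 : ρ' ⟨j, hjE⟩ = -1 := by
    refine eq_neg_one_of_sq ?_ hjne
    rw [← map_mul, ← map_one ρ']
    refine congrArg ρ' (Subtype.ext ?_)
    show (j : G) * j = 1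
    rw [hj, Subgroup.coe_pow, ← (Commute.refl (i : G)).mul_pow, hk']
  have hEF : bW 3 E ≤ bW 3 F := by
    intro w hw
    have h := conj_omega_mem' hG hF j.2 (bW_le_omega hE hG hw)
    rw [hinvE ⟨j, hjE⟩ hjE1 w hw] at h
    have h3 : w ^ 3 = 1 := (bV_isEA 3 E).2 w (bW_le_bV hE hw)
    rwa [show w⁻¹ * w⁻¹ = w from (by
      rw [← _root_.mul_inv_rev, inv_eq_iff_mul_eq_one, ← pow_two, ← pow_succ]
      exact h3)] at h
  have hW : bW 3 F = bW 3 E := le_antisymm hWW hEF
  have huF : uCard 3 F = 9 := by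
    rw [uCard_eq φ hφker, MonoidHom.range_eq_top.mpr hφ, Subgroup.card_top,
      Nat.card_congr Multiplicative.toAdd, Nat.card_fun, Nat.card_fin,
      Nat.card_eq_fintype_card (α := K), hn]
    norm_num
  have hu : uCard 3 E = 9 := by
    rw [← huF, uCard, uCard, hbotE, hbotF, hW]
  obtain ⟨K2, iK2, iK2t, iC2, φ2, ρ2, hK2, -, -, -, hρker2, hρφ2⟩ := exists_coords_three hG hE hu
  have hinv2 : ∀ z : ↥E, ρ2 z = -1 → ∀ w ∈ bW 3 E, (z : G) * w * (z : G)⁻¹ = w⁻¹ := by
    intro z hz w hw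
    have hz' : ρ' z = -1 := by
      refine eq_neg_one_of_sq ?_ fun h => ?_
      · rw [← map_mul]
        refine (hρker' _).mpr ((hρker2 _).mp ?_)
        rw [map_mul, hz, neg_mul_neg, one_mul]
      · have h1 := (hρker2 z).mpr ((hρker' z).mp h)
        rw [hz] at h1
        have h4 := congrArg (fun g : SpecialLinearGroup (Fin 2) K2 => g.1 0 0) h1
        simp at h4
        exact neg_one_ne_one (F := K2) h4
    exact hinvE z hz' w hw
  have hEM : E ≤ F ⊔ Subgroup.centralizer (bW 3 E : Set G) := by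
    refine residual_induction (res hE) fun x hx hcop => ?_
    have hxn : ρ2 ⟨x, hx⟩ ^ orderOf x = 1 := by
      rw [← map_pow, show (⟨x, hx⟩ : ↥E) ^ orderOf x = 1 from Subtype.ext (pow_orderOf_eq_one x),
        map_one]
    have hfin : ∀ y : ↥F, (∀ w ∈ bW 3 E, (y : G) * w * (y : G)⁻¹ = x * w * x⁻¹) →
        x ∈ F ⊔ Subgroup.centralizer (bW 3 E : Set G) := fun y hy => by
      rw [show x = (y : G) * ((y : G)⁻¹ * x) by group]
      refine mul_mem (Subgroup.mem_sup_left y.2) (Subgroup.mem_sup_right fun w hw => ?_)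
      have h := hy w hw
      calc w * ((y : G)⁻¹ * x) = (y : G)⁻¹ * ((y : G) * w * (y : G)⁻¹) * x := by group
        _ = (y : G)⁻¹ * (x * w * x⁻¹) * x := by rw [h]
        _ = (y : G)⁻¹ * x * w := by group
    rcases sl2_three_cases hK2 hxn hcop with h | h | h
    · exact Subgroup.mem_sup_right (bQ_le_centralizer_bW hE hG ((hρker2 _).mp h))
    · exact hfin i fun w hw => by rw [hinvF i hiρ w (hEF hw), hinv2 ⟨x, hx⟩ h w hw]
    · have hxW : x ∈ Subgroup.normalizer (bW 3 F : Set G) := by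
        rw [hW]; exact le_normalizer_bW hE hx
      obtain ⟨A, hA⟩ := exists_induced hφ hφker hxW fun d hd hd' => by
        have h1 : d ∈ bW 3 F ⊓ Subgroup.centralizer (F : Set G) := ⟨hd, hd'⟩
        rw [hbotF, Subgroup.mem_bot] at h1
        rw [h1, mul_one, mul_inv_cancel]
      obtain ⟨g, hg, hgA⟩ := exists_commutator_of_sq_neg (by rw [hn]) A fun u => by
        obtain ⟨w, hw⟩ := hφ (Multiplicative.ofAdd u)
        rw [show u = (φ w).toAdd by rw [hw, toAdd_ofAdd], ← hA, ← hA, ← toAdd_inv, ← map_inv]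
        refine congrArg (fun z => (φ z).toAdd) (Subtype.ext ?_)
        show x * (x * (w : G) * x⁻¹) * x⁻¹ = (w : G)⁻¹
        rw [← hinv2 (⟨x, hx⟩ * ⟨x, hx⟩) (by rw [map_mul, h]) w (hWW w.2)]
        show _ = x * x * (w : G) * (x * x)⁻¹
        group
      rw [← hρ] at hg
      obtain ⟨y, rfl⟩ := hg
      refine hfin y fun w hw => congrArg Subtype.val (hφinj
        ⟨_, conj_mem' (le_normalizer_bW hF y.2) (hEF hw)⟩ ⟨_, conj_mem' hxW (hEF hw)⟩ ?_)
      exact Multiplicative.toAdd.injective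
        (((hρφ y ⟨w, hEF hw⟩).trans (hgA _)).trans (hA ⟨w, hEF hw⟩).symm)
  have hEN : E ≤ Subgroup.normalizer (F : Set G) := hEM.trans (sup_le Subgroup.le_normalizer
    (by rw [← hW]; exact hCF))
  exact (eq_of_same_module hG hE hF hgood hEN hFE hW).ge

end CfsgLib.BlockPair
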