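import Cfsg.Agent.Lib.BlockNorm.Normalizes
import Cfsg.Agent.Lib.Components.Subnormal

/-!
# Facts about one block: its module modulo the fixed points is irreducible and faithful
-/

set_option autoImplicit false
set_option linter.unusedSectionVars false
set_option linter.style.haveILetI false

open Matrix
open scoped MatrixGroups commutatorElement

namespace CfsgLib.BlockPair

open CfsgLib.LocalEven CfsgLib.LocalEven.BBlock CfsgLib.BlockNorm

variable {G : Type*} [Group G]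

/-- `O_p(E)`. -/
abbrev bQ (p : ℕ) (E : Subgroup G) : Subgroup G := Cfsg.pCoreOf p E

/-- `Ω₁(Z(O_p(E)))`. -/
abbrev bV (p : ℕ) (E : Subgroup G) : Subgroup G := Cfsg.omegaOneCenter p (Cfsg.pCoreOf p E)

/-- `[Ω₁(Z(O_p(E))), E]`. -/
abbrev bW (p : ℕ) (E : Subgroup G) : Subgroup G := ⁅bV p E, E⁆

/-- A `B(T)`-block for some Sylow `p`-subgroup `T`. -/
def IsBlock (p : ℕ) (E : Subgroup G) : Prop :=
  ∃ T : Sylow p G, Cfsg.IsBaumannBlock p (T : Subgroup G) E

theorem bV_central {p : ℕ} {E : Subgroup G} {v q : G} (hv : v ∈ bV p E) (hq : q ∈ bQ p E) :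
    Commute v q :=
  (((CfsgLib.PLocal.omegaOne_le p _) hv).2 q hq).symm

theorem bV_le_bQ (p : ℕ) (E : Subgroup G) : bV p E ≤ bQ p E :=
  (CfsgLib.PLocal.omegaOne_le p _).trans inf_le_left

theorem bQ_le (p : ℕ) (E : Subgroup G) : bQ p E ≤ E := pCoreOf_le p E

theorem bV_isEA (p : ℕ) (E : Subgroup G) : Cfsg.IsElementaryAbelian p (bV p E) :=
  CfsgLib.PLocal.omegaCenter_isEA (Cfsg.pCoreOf p E)

theorem bV_comm {p : ℕ} {E : Subgroup G} {v v' : G} (hv : v ∈ bV p E) (hv' : v' ∈ bV p E) :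
    Commute v v' :=
  CfsgLib.PLocal.commute_of_mem_comm (bV_isEA p E).1 hv hv'

/-- A subgroup normalized by `E`, covering `V` modulo the fixed points, contains `[V, E]`. -/
theorem commutator_le_of_cover {V L E : Subgroup G} (hEL : E ≤ Subgroup.normalizer (L : Set G))
    (h : ∀ v ∈ V, ∃ l ∈ L, ∃ z ∈ Subgroup.centralizer (E : Set G), v = l * z) : ⁅V, E⁆ ≤ L := by
  refine Subgroup.commutator_le.mpr fun v hv x hx => ?_
  obtain ⟨l, hl, z, hz, rfl⟩ := h v hv
  rw [commutatorElement_def, show l * z * x * (l * z)⁻¹ * x⁻¹ = l * (z * x * z⁻¹) * l⁻¹ * x⁻¹ by group,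
    ← hz x hx, mul_inv_cancel_right, show l * x * l⁻¹ * x⁻¹ = l * (x * l⁻¹ * x⁻¹) by group]
  exact mul_mem hl (conj_mem' (hEL hx) (inv_mem hl))

variable [Finite G] {p : ℕ}

/-- The kernel of an action of `E` as the group `E / O_p(E)`. -/
theorem ker_iff {E : Subgroup G} {H : Type*} [Group H] {R : Subgroup H}
    (hiso : Nonempty (↥E ⧸ Cfsg.pCore p ↥E ≃* ↥R)) (f : ↥E →* H) (hf : f.range = R)
    (hle : ∀ x : ↥E, (x : G) ∈ bQ p E → f x = 1) (x : ↥E) : f x = 1 ↔ (x : G) ∈ bQ p E := by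
  obtain ⟨θ⟩ := hiso
  have h1 : (bQ p E).subgroupOf E ≤ f.ker := fun x hx => hle x hx
  have hcardE : Nat.card ↥E = Nat.card ↥(bQ p E) * Nat.card ↥R := by
    rw [← Nat.card_congr θ.toEquiv, bQ, Cfsg.pCoreOf,
      Subgroup.card_map_of_injective E.subtype_injective, mul_comm]
    exact Subgroup.card_eq_card_quotient_mul_card_subgroup _
  have h2 : Nat.card f.ker * Nat.card f.range = Nat.card ↥E := by
    rw [← Subgroup.index_ker, Subgroup.card_mul_index]
  rw [hf, hcardE] at h2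
  haveI : Finite ↥R := Finite.of_equiv _ θ.toEquiv
  have h3 := Nat.eq_of_mul_eq_mul_right Nat.card_pos h2
  rw [← Nat.card_congr (Subgroup.subgroupOfEquivOfLe (bQ_le p E)).toEquiv] at h3
  have h4 := Subgroup.eq_of_le_of_card_ge h1 h3.le
  rw [← MonoidHom.mem_ker, ← h4]
  rfl

theorem mul_inv_comm_of_mem {E : Subgroup G} {V : Subgroup G} (hV : ∀ v ∈ V, ∀ q ∈ bQ p E, Commute v q)
    {x v : G} (hx : x ∈ bQ p E) (hv : v ∈ V) : x * v * x⁻¹ = v := by
  rw [← (hV v hv x hx).eq, mul_inv_cancel_right]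

/-- The kernel of the action on the natural section. -/
theorem sl2_ker_iff {E : Subgroup G} {F : Type*} [Field F] {U₀ : Subgroup G}
    (hiso : Nonempty (↥E ⧸ Cfsg.pCore p ↥E ≃* ↥(commutator (SpecialLinearGroup (Fin 2) F))))
    {ρ : ↥E →* SpecialLinearGroup (Fin 2) F} {ψ : ↥(bV p E) →* Multiplicative (Fin 2 → F)}
    (hρ : ρ.range = commutator (SpecialLinearGroup (Fin 2) F)) (hψ : Function.Surjective ψ)
    (hψker : ∀ u : ↥(bV p E), ψ u = 1 ↔ (u : G) ∈ U₀)
    (hψeq : ∀ (x : ↥E) (u : ↥(bV p E)), ∃ w : ↥(bV p E), (w : G) = (x : G) * u * (x : G)⁻¹ ∧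
      (ψ w).toAdd = (ρ x : Matrix (Fin 2) (Fin 2) F).mulVec (ψ u).toAdd) (x : ↥E) :
    (ρ x = 1 ↔ (x : G) ∈ bQ p E) := by
  refine ker_iff hiso ρ hρ (fun x hx => Subtype.ext (Matrix.ext_of_mulVec_single fun i => ?_)) x
  obtain ⟨u, hu⟩ := hψ (Multiplicative.ofAdd (Pi.single i 1))
  obtain ⟨w, hw, hw2⟩ := hψeq x u
  have : w = u := Subtype.ext (by
    rw [hw, mul_inv_comm_of_mem (fun v hv q hq => bV_central hv hq) hx u.2])
  rw [this, hu, toAdd_ofAdd] at hw2
  exact hw2.symm.trans (one_mulVec _).symm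

variable [Fact p.Prime]

section

variable {E : Subgroup G} (hE : IsBlock p E)

include hE

theorem res : Cfsg.pResidualOf p E = E := hE.choose_spec.1

theorem commutator_bQ : ⁅bQ p E, E⁆ = bQ p E := hE.choose_spec.2.2.1

theorem le_normalizer_bV : E ≤ Subgroup.normalizer (bV p E : Set G) := fun _ hx =>
  map_conj_omegaOneCenter p (le_normalizer_pCoreOf p E hx)

theorem le_normalizer_bW : E ≤ Subgroup.normalizer (bW p E : Set G) := le_normalizer_module p E

theorem bW_le_bV : bW p E ≤ bV p E := commutator_le_of_le_normalizer (le_normalizer_bV hE)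

/-- `V` modulo the fixed points is irreducible. -/
theorem irred {L : Subgroup G} (hLV : L ≤ bV p E) (h0 : bV p E ⊓ Subgroup.centralizer (E : Set G) ≤ L)
    (hEL : E ≤ Subgroup.normalizer (L : Set G)) (hne : ¬ L ≤ Subgroup.centralizer (E : Set G)) :
    L = bV p E := by
  obtain ⟨T, -, -, -, -, hcase⟩ := hE
  rcases hcase with ⟨F, iF, iFt, n, -, -, hact, -⟩ | ⟨-, m, -, hact, -⟩
  · exact section_simple_sl2 hact h0 hLV hEL fun h => hne (h.trans inf_le_right)
  · exact section_simple_alt hact h0 hLV hEL fun h => hne (h.trans inf_le_right)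

/-- `E / O_p(E)` is faithful on `V` modulo the fixed points. -/
theorem faithful {x : G} (hx : x ∈ E)
    (h : ∀ v ∈ bV p E, x * v * x⁻¹ * v⁻¹ ∈ Subgroup.centralizer (E : Set G)) : x ∈ bQ p E := by
  classical
  obtain ⟨T, -, -, -, -, hcase⟩ := hE
  rcases hcase with ⟨F, iF, iFt, n, -, hiso, hact, -⟩ | ⟨-, m, hiso, hact, -⟩
  · obtain ⟨hEV, -, ρ, ψ, hρ, hψ, hψker, hψeq⟩ := hact
    refine (sl2_ker_iff hiso hρ hψ hψker hψeq ⟨x, hx⟩).mp
      (Subtype.ext (Matrix.ext_of_mulVec_single fun i => ?_))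
    obtain ⟨u, hu⟩ := hψ (Multiplicative.ofAdd (Pi.single i 1))
    obtain ⟨w, hw, hw2⟩ := hψeq ⟨x, hx⟩ u
    have h1 : ψ (w * u⁻¹) = 1 := (hψker _).mpr ⟨(w * u⁻¹).2, by
      show (w : G) * (u : G)⁻¹ ∈ _
      rw [hw]; exact h u u.2⟩
    rw [map_mul, map_inv, mul_inv_eq_one] at h1
    rw [h1, hu, toAdd_ofAdd] at hw2
    exact hw2.symm.trans (one_mulVec _).symm
  · obtain ⟨hEV, -, ρ, ψ, hρ, -, hψsurj, hψker, hψeq⟩ := hact
    have hker := ker_iff hiso ρ hρ
    have key : ∀ (y : ↥E), (∀ v ∈ bV p E, (y : G) * v * (y : G)⁻¹ * v⁻¹ ∈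
        Subgroup.centralizer (E : Set G)) → ρ y = 1 := by
      intro y hy
      have hfix : ∀ v : Fin (2 * m + 1) → ZMod 2, ∑ i, v i = 0 → ∀ i, v ((ρ y)⁻¹ i) = v i := by
        intro v hv i
        obtain ⟨u, rfl⟩ := hψsurj v hv
        obtain ⟨w, hw, hw2⟩ := hψeq y u
        have h1 : ψ (w * u⁻¹) = 1 := (hψker _).mpr ⟨(w * u⁻¹).2, by
          show (w : G) * (u : G)⁻¹ ∈ _
          rw [hw]; exact hy u u.2⟩
        rw [map_mul, map_inv, mul_inv_eq_one] at h1
        rw [← hw2 i, h1]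
      rw [← inv_eq_one]
      refine Equiv.ext fun i => ?_
      by_contra hne
      set j := (ρ y)⁻¹ i with hj
      have hij : j ≠ i := hne
      obtain ⟨k, hki, hkj⟩ : ∃ k, k ≠ i ∧ k ≠ j := by
        rcases Nat.eq_zero_or_pos m with rfl | hm
        · exact absurd (Fin.ext (by omega)) hij
        have hc : ({i, j} : Finset (Fin (2 * m + 1))).card < Fintype.card (Fin (2 * m + 1)) := by
          rw [Fintype.card_fin]
          exact (Finset.card_le_two).trans_lt (by omega)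
        obtain ⟨k, -, hk⟩ := Finset.exists_mem_notMem_of_card_lt_card
          (t := Finset.univ) (s := ({i, j} : Finset (Fin (2 * m + 1)))) (by simpa using hc)
        simp only [Finset.mem_insert, Finset.mem_singleton, not_or] at hk
        exact ⟨k, hk.1, hk.2⟩
      have h1 := hfix (Pi.single i 1 + Pi.single k 1) (by
        simp only [Pi.add_apply, Finset.sum_add_distrib, Finset.sum_pi_single', Finset.mem_univ,
          if_true]
        decide) i
      rw [← hj] at h1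
      simp [hij, hki.symm, Ne.symm hkj] at h1
    refine (hker (fun y hy => key y fun v hv => ?_) ⟨x, hx⟩).mp (key ⟨x, hx⟩ h)
    rw [mul_inv_comm_of_mem (fun v hv q hq => bV_central hv hq) hy hv, mul_inv_cancel]
    exact one_mem _

variable (hG : Subgroup.centralizer (Cfsg.pCore p G : Set G) ≤ Cfsg.pCore p G)

include hG

theorem bW_le_omega : bW p E ≤ Cfsg.omegaOneCenter p (Cfsg.pCore p G) :=
  (block_module hG hE.choose hE.choose_spec).2.1

theorem pCore_le_normalizer : Cfsg.pCore p G ≤ Subgroup.normalizer (E : Set G) :=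
  (block_module hG hE.choose hE.choose_spec).1

theorem bW_not_le_centralizer : ¬ bW p E ≤ Subgroup.centralizer (E : Set G) := fun h =>
  (block_module hG hE.choose hE.choose_spec).2.2
    (Subgroup.commutator_eq_bot_iff_le_centralizer.mpr h)

/-- `V = W C_V(E)`. -/
theorem exists_decomp {v : G} (hv : v ∈ bV p E) :
    ∃ w ∈ bW p E, ∃ z ∈ bV p E ⊓ Subgroup.centralizer (E : Set G), v = w * z := by
  have hsup : bW p E ⊔ (bV p E ⊓ Subgroup.centralizer (E : Set G)) = bV p E := by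
    refine irred hE (sup_le (bW_le_bV hE) inf_le_left) le_sup_right (fun x hx => ?_)
      fun h => bW_not_le_centralizer hE hG (le_sup_left.trans h)
    refine CfsgLib.PLocal.mem_normalizer_of_map_conj_eq ?_
    rw [Subgroup.map_sup, CfsgLib.PLocal.map_conj_eq_of_mem_normalizer (le_normalizer_bW hE hx),
      CfsgLib.PLocal.map_conj_eq_of_mem_normalizer (mem_normalizer_of_le fun y hy => by
        rw [hy.2 x hx, mul_inv_cancel_right]; exact hy)]
  rw [← hsup, ← SetLike.mem_coe, Subgroup.coe_mul_of_right_le_normalizer_left _ _ (fun z hz =>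
    mem_normalizer_of_le fun y hy => by
      rwa [(bV_comm hz.1 (bW_le_bV hE hy)).eq, mul_inv_cancel_right])] at hv
  obtain ⟨w, hw, z, hz, rfl⟩ := hv
  exact ⟨w, hw, z, hz, rfl⟩

/-- `[W, E] = W`. -/
theorem commutator_bW : ⁅bW p E, E⁆ = bW p E := by
  refine le_antisymm (commutator_le_of_le_normalizer (le_normalizer_bW hE)) ?_
  refine commutator_le_of_cover (le_normalizer_commutator (le_normalizer_bW hE)) fun v hv => ?_
  obtain ⟨w, hw, z, hz, rfl⟩ := exists_decomp hE hG hv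
  -- `W = [W, E] (W ∩ C(E))`
  have hsup : ⁅bW p E, E⁆ ⊔ (bV p E ⊓ Subgroup.centralizer (E : Set G)) = bV p E := by
    refine irred hE (sup_le ((commutator_le_of_le_normalizer (le_normalizer_bW hE)).trans
      (bW_le_bV hE)) inf_le_left) le_sup_right (fun x hx => ?_) fun h => ?_
    · refine CfsgLib.PLocal.mem_normalizer_of_map_conj_eq ?_
      rw [Subgroup.map_sup, CfsgLib.PLocal.map_conj_eq_of_mem_normalizer
          (le_normalizer_commutator (le_normalizer_bW hE) hx),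
        CfsgLib.PLocal.map_conj_eq_of_mem_normalizer (mem_normalizer_of_le fun y hy => by
          rw [hy.2 x hx, mul_inv_cancel_right]; exact hy)]
    · refine (block_module hG hE.choose hE.choose_spec).2.2 (commutator_eq_bot_of_stable (res hE)
        (CfsgLib.PLocal.isEA_mono (bV_isEA p E) (bW_le_bV hE)) (le_normalizer_bW hE) ?_)
      exact Subgroup.commutator_eq_bot_iff_le_centralizer.mpr (le_sup_left.trans h)
  have hv' : w * z ∈ ⁅bW p E, E⁆ ⊔ (bV p E ⊓ Subgroup.centralizer (E : Set G)) := by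
    rw [hsup]; exact hv
  rw [← SetLike.mem_coe, Subgroup.coe_mul_of_right_le_normalizer_left _ _ (fun u hu =>
    mem_normalizer_of_le fun y hy => by
      rwa [(bV_comm hu.1 (bW_le_bV hE (commutator_le_of_le_normalizer (le_normalizer_bW hE) hy))).eq,
        mul_inv_cancel_right])] at hv'
  obtain ⟨a, ha, b, hb, he⟩ := hv'
  exact ⟨a, ha, b, hb.2, he.symm⟩

/-- The only invariant subgroup of `W` not centralized is `W`. -/
theorem irredW {L : Subgroup G} (hLW : L ≤ bW p E) (hEL : E ≤ Subgroup.normalizer (L : Set G))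
    (hne : ¬ L ≤ Subgroup.centralizer (E : Set G)) : L = bW p E := by
  refine le_antisymm hLW (commutator_le_of_cover hEL fun v hv => ?_)
  have hsup : L ⊔ (bV p E ⊓ Subgroup.centralizer (E : Set G)) = bV p E := by
    refine irred hE (sup_le (hLW.trans (bW_le_bV hE)) inf_le_left) le_sup_right (fun x hx => ?_)
      fun h => hne (le_sup_left.trans h)
    refine CfsgLib.PLocal.mem_normalizer_of_map_conj_eq ?_
    rw [Subgroup.map_sup, CfsgLib.PLocal.map_conj_eq_of_mem_normalizer (hEL hx),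
      CfsgLib.PLocal.map_conj_eq_of_mem_normalizer (mem_normalizer_of_le fun y hy => by
        rw [hy.2 x hx, mul_inv_cancel_right]; exact hy)]
  rw [← hsup, ← SetLike.mem_coe, Subgroup.coe_mul_of_right_le_normalizer_left _ _ (fun z hz =>
    mem_normalizer_of_le fun y hy => by
      rwa [(bV_comm hz.1 (bW_le_bV hE (hLW hy))).eq, mul_inv_cancel_right])] at hv
  obtain ⟨l, hl, z, hz, rfl⟩ := hv
  exact ⟨l, hl, z, hz.2, rfl⟩

/-- `E / O_p(E)` is faithful on `W` modulo the fixed points. -/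
theorem faithfulW {x : G} (hx : x ∈ E)
    (h : ∀ w ∈ bW p E, x * w * x⁻¹ * w⁻¹ ∈ Subgroup.centralizer (E : Set G)) : x ∈ bQ p E := by
  refine faithful hE hx fun v hv => ?_
  obtain ⟨w, hw, z, hz, rfl⟩ := exists_decomp hE hG hv
  rw [show x * (w * z) * x⁻¹ * (w * z)⁻¹ = x * w * x⁻¹ * (x * z * x⁻¹ * z⁻¹) * w⁻¹ by group,
    show x * z * x⁻¹ * z⁻¹ = 1 by rw [hz.2 x hx, mul_inv_cancel_right, mul_inv_cancel], mul_one]
  exact h w hw

theorem centralizer_bW_inf {x : G} (hx : x ∈ E) (hxW : x ∈ Subgroup.centralizer (bW p E : Set G)) :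
    x ∈ bQ p E :=
  faithfulW hE hG hx fun w hw => by
    rw [← hxW w hw, mul_inv_cancel_right, mul_inv_cancel]; exact one_mem _

theorem bQ_le_centralizer_bW : bQ p E ≤ Subgroup.centralizer (bW p E : Set G) := fun _ hq _ hw =>
  (bV_central (bW_le_bV hE hw) hq).eq

theorem pCore_inf_le : E ⊓ Cfsg.pCore p G ≤ bQ p E := by
  haveI := core_normal p G
  exact le_pCoreOf inf_le_left
    (fun g hg => mem_normalizer_of_le fun y hy =>
      ⟨E.mul_mem (E.mul_mem hg hy.1) (E.inv_mem hg), (core_normal p G).conj_mem y hy.2 g⟩)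
    ((core_isPGroup p G).to_le inf_le_right)

/-- `[O_p(G), E] ≤ O_p(E)`. -/
theorem conj_pCore_mem {x o : G} (hx : x ∈ E) (ho : o ∈ Cfsg.pCore p G) :
    x * o * x⁻¹ * o⁻¹ ∈ bQ p E := by
  haveI := core_normal p G
  refine pCore_inf_le hE hG ⟨?_, (Cfsg.pCore p G).mul_mem ((core_normal p G).conj_mem o ho x)
    ((Cfsg.pCore p G).inv_mem ho)⟩
  rw [show x * o * x⁻¹ * o⁻¹ = x * (o * x⁻¹ * o⁻¹) by group]
  exact mul_mem hx (conj_mem' (pCore_le_normalizer hE hG ho) (inv_mem hx))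

/-- If `O_p(E) ≤ O_p(G)`, then `[Ω₁(Z(O_p(G))), E] ≤ W`. -/
theorem conj_omega_mem (hgood : bQ p E ≤ Cfsg.pCore p G) {x m : G} (hx : x ∈ E)
    (hm : m ∈ Cfsg.omegaOneCenter p (Cfsg.pCore p G)) : x * m * x⁻¹ * m⁻¹ ∈ bW p E := by
  haveI := core_normal p G
  have hM := CfsgLib.PLocal.omegaCenter_isEA (p := p) (Cfsg.pCore p G)
  have hmO : m ∈ Cfsg.pCore p G := (CfsgLib.PLocal.omegaOne_le p _ hm).1
  have hMn : ∀ g, g * m * g⁻¹ ∈ Cfsg.omegaOneCenter p (Cfsg.pCore p G) := fun g =>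
    conj_mem' (map_conj_omegaOneCenter p (by
      rw [Subgroup.normalizer_eq_top]; exact Subgroup.mem_top g)) hm
  have hV : ∀ y ∈ E, y * m * y⁻¹ * m⁻¹ ∈ bV p E := by
    intro y hy
    have h1 := mul_mem (hMn y) (inv_mem hm)
    have h2 := conj_pCore_mem hE hG hy hmO
    exact CfsgLib.PLocal.mem_omegaOne
      ⟨h2, fun q hq => (CfsgLib.PLocal.omegaOne_le p _ h1).2 q (hgood hq)⟩ (hM.2 _ h1)
  let S : Subgroup G :=
    { carrier := {x | x ∈ E ∧ x * m * x⁻¹ * m⁻¹ ∈ bW p E}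
      one_mem' := ⟨one_mem _, by simp⟩
      mul_mem' := fun {a b} ha hb => ⟨mul_mem ha.1 hb.1, by
        rw [show a * b * m * (a * b)⁻¹ * m⁻¹ =
          a * (b * m * b⁻¹ * m⁻¹) * a⁻¹ * (a * m * a⁻¹ * m⁻¹) by group]
        exact mul_mem (conj_mem' (le_normalizer_bW hE ha.1) hb.2) ha.2⟩
      inv_mem' := fun {a} ha => ⟨inv_mem ha.1, by
        have h := conj_mem' (inv_mem (le_normalizer_bW hE ha.1)) (inv_mem ha.2)
        rw [show a⁻¹ * (a * m * a⁻¹ * m⁻¹)⁻¹ * a⁻¹⁻¹ = a⁻¹ * m * a * m⁻¹ by group] at h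
        rwa [inv_inv]⟩ }
  refine (residual_induction (res hE) (R := S) (fun y hy hcop => ⟨hy, ?_⟩) hx).2
  refine stable_mem (o := m) (le_normalizer_bW hE hy) hcop
    (fun w hw => bV_comm (bW_le_bV hE hw) (hV y hy)) (k := 1)
    (by rw [pow_one]; exact (bV_isEA p E).2 _ (hV y hy)) (by group) ?_
  have hm' := inv_mem (Subgroup.commutator_mem_commutator (hV y hy) hy)
  rwa [commutatorElement_inv, commutatorElement_def] at hm'

/-- Either `O_p(E) = W`, or `p = 3` and the exceptional data exist, provided `O_p(E) ≤ O_p(G)`. -/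
theorem exists_ctx_of_good (hgood : bQ p E ≤ Cfsg.pCore p G) :
    bQ p E = bW p E ∨ (p = 3 ∧ ∃ (F : Type) (_ : Field F) (_ : Fintype F) (_ : CharP F 3)
      (c : Ctx G F), c.E = E ∧ c.Q = bQ p E ∧ c.V = bV p E ∧ c.W = bW p E ∧
        c.O = Cfsg.pCoreOf p (Subgroup.normalizer (bW p E : Set G)) ∧ c.HasCubic) := by
  classical
  obtain ⟨T, hT⟩ := id hE
  have hWEA : Cfsg.IsElementaryAbelian p (bW p E) :=
    CfsgLib.PLocal.isEA_mono (bV_isEA p E) (bW_le_bV hE)
  have hWVG := bW_le_omega hE hG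
  obtain ⟨hres, hEB, hQE, -, hcase⟩ := id hT
  have hlin : Cfsg.pCoreOf p E = bV p E → bQ p E = bW p E := fun h => by
    show bQ p E = ⁅bV p E, E⁆
    conv_lhs => rw [bQ, ← hQE, h]
  rcases hcase with ⟨F, iF, iFt, n, hn, hiso, hact, hQ | ⟨hp, hact2, hQQ, -, hZEE, hcard, hblock⟩⟩ |
    ⟨-, m, -, -, hQ⟩
  · exact Or.inl (hlin hQ)
  · subst hp
    haveI : CharP F 3 := by
      have h0 := FiniteField.cast_card_eq_zero F
      rw [hn] at h0
      push_cast at h0
      exact (CharP.charP_iff_prime_eq_zero Nat.prime_three).mpr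
        (by exact_mod_cast eq_zero_of_pow_eq_zero h0)
    rcases exists_ctx hG T hT hn hiso hact hact2 hQQ hZEE hcard with h | ⟨c, cE, cQ, cV, cZ, cW, cO⟩
    · left
      refine le_antisymm ?_ ((bW_le_bV hE).trans (bV_le_bQ 3 E))
      conv_lhs => rw [bQ, ← hQE]
      refine Subgroup.commutator_le.mpr fun q hq x hx => ?_
      rw [← commutatorElement_inv, commutatorElement_def]
      exact inv_mem (h q (hgood hq) x hx)
    right
    refine ⟨rfl, F, iF, iFt, inferInstance, c, cE, cQ, cV, cW, cO, ?_⟩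
    have hWT : bW 3 E ≤ (T : Subgroup G) :=
      hWVG.trans (((CfsgLib.PLocal.omegaOne_le 3 _).trans inf_le_left).trans
        (CfsgLib.Solvable.pCore_le_sylow T))
    have hBW := baumann_le_normalizer_module (p := 3) hEB
    obtain ⟨b, hbB, hbW, hb3, hbq⟩ := exists_quadratic T hWT hWEA hBW
      (commutator_thompson_ne_bot hG T hT)
    have hbE := le_normalizer_of_commutator_eq hEB hbB
    have hbQ := normalizer_le_normalizer_pCoreOf (p := 3) E hbE
    have hbV := map_conj_omegaOneCenter 3 hbQ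
    have hbZ : b ∈ Subgroup.normalizer ((bV 3 E ⊓
        Subgroup.centralizer (E : Set G) : Subgroup G) : Set G) :=
      mem_normalizer_of_le fun y hy => ⟨conj_mem' hbV hy.1, fun x hx => by
        have h1 : b⁻¹ * x * b ∈ E := by simpa using conj_mem' (inv_mem hbE) hx
        have h2 := hy.2 _ h1
        calc x * (b * y * b⁻¹) = b * (b⁻¹ * x * b * y) * b⁻¹ := by group
          _ = b * (y * (b⁻¹ * x * b)) * b⁻¹ := by rw [h2]
          _ = b * y * b⁻¹ * x := by group⟩
    refine c.hasCubic (cE ▸ hbE) ?_ (cQ ▸ hbQ) (cV ▸ hbV) (cZ ▸ hbZ) hb3 ?_ ?_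
    · show b ∈ Subgroup.normalizer (c.W : Set G)
      rw [cW]
      exact hBW hbB
    · rw [cW]
      exact hbq
    · rw [cQ, cZ, ← hZEE]
      exact hblock b hbB fun h => hbW (Subgroup.centralizer_le (bW_le_bV hE) h)
  · exact Or.inl (hlin hQ)

theorem good_of_isSubnormal (hs : E.IsSubnormal) : bQ p E ≤ Cfsg.pCore p G := by
  refine CfsgLib.Components.le_pCore_of_isSubnormal ?_ (pCoreOf_isPGroup p E)
  haveI : ((Cfsg.pCoreOf p E).subgroupOf E).Normal :=
    (Subgroup.normal_subgroupOf_iff_le_normalizer (pCoreOf_le p E)).mpr (le_normalizer_pCoreOf p E)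
  exact Subgroup.IsSubnormal.trans (pCoreOf_le p E) (Subgroup.Normal.isSubnormal inferInstance) hs

end

end CfsgLib.BlockPair
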