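import Cfsg.Agent.Lib.BlockNorm.SL2Aut
import Mathlib.FieldTheory.Finite.Basic
import Mathlib.GroupTheory.SpecificGroups.Cyclic
import Mathlib.GroupTheory.PGroup

/-!
# Elementary abelian groups of semilinear maps of a plane: no offender leaves the linear group
-/

set_option autoImplicit false
set_option linter.unusedSectionVars false
set_option linter.style.haveILetI false

namespace CfsgLib.BlockPair.Semilin

open CfsgLib.BlockNorm Matrix

variable {F : Type*} [Field F]

theorem det2_add_left (x x' y : Fin 2 → F) : det2 (x + x') y = det2 x y + det2 x' y := by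
  simp [det2]; ring

theorem det2_add_right (x y y' : Fin 2 → F) : det2 x (y + y') = det2 x y + det2 x y' := by
  simp [det2]; ring

theorem det2_smul_left (t : F) (x y : Fin 2 → F) : det2 (t • x) y = t * det2 x y := by
  simp [det2]; ring

theorem det2_smul_right (t : F) (x y : Fin 2 → F) : det2 x (t • y) = t * det2 x y := by
  simp [det2]; ring

theorem det2_self (x : Fin 2 → F) : det2 x x = 0 := by simp [det2]; ring

theorem coords {u v : Fin 2 → F} (h : det2 u v = 1) (x : Fin 2 → F) :
    det2 x v • u + det2 u x • v = x := by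
  simp only [det2] at h
  funext i
  fin_cases i
  · simp [det2]; linear_combination (x 0) * h
  · simp [det2]; linear_combination (x 1) * h

theorem exists_det2_eq_one {u : Fin 2 → F} (hu : u ≠ 0) : ∃ v, det2 u v = 1 := by
  rcases eq_or_ne (u 0) 0 with h | h
  · have h1 : u 1 ≠ 0 := fun h1 => hu (funext fun i => by fin_cases i <;> assumption)
    exact ⟨![-(u 1)⁻¹, 0], by simp [det2, h, h1]⟩
  · exact ⟨![0, (u 0)⁻¹], by simp [det2, h]⟩

variable {p : ℕ} [Fact p.Prime] [Fintype F] [CharP F p]

theorem eq_one_of_pow_prime_pow {D : F} {k : ℕ} (h : D ^ p ^ k = 1) : D = 1 := by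
  refine sub_eq_zero.mp (eq_zero_of_pow_eq_zero (n := p ^ k) ?_)
  rw [sub_pow_char_pow, h, one_pow, sub_self]

/-- A linear map of `p`-power order is in `SL₂`. -/
theorem exists_sl2_of_linear (A : (Fin 2 → F) →+ (Fin 2 → F)) {k : ℕ}
    (hk : ∀ u, (⇑A)^[p ^ k] u = u) (hlin : ∀ (t : F) u, A (t • u) = t • A u) :
    ∃ g : SpecialLinearGroup (Fin 2) F, ∀ u, (g : Matrix (Fin 2) (Fin 2) F).mulVec u = A u := by
  have hpos : 0 < p ^ k := pow_pos (Fact.out : p.Prime).pos k
  let e0 : Fin 2 → F := ![1, 0]
  let e1 : Fin 2 → F := ![0, 1]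
  have h01 : det2 e0 e1 = 1 := by simp [det2, e0, e1]
  set D := det2 (A e0) (A e1) with hD
  have hdet : ∀ x y, det2 (A x) (A y) = D * det2 x y := by
    intro x y
    conv_lhs => rw [← coords h01 x, ← coords h01 y, map_add, map_add, hlin, hlin, hlin, hlin]
    simp only [det2_add_left, det2_add_right, det2_smul_left, det2_smul_right, det2_self]
    rw [hD]
    simp only [det2, e0, e1]
    simp
    ring
  have hiter : ∀ n x y, det2 ((⇑A)^[n] x) ((⇑A)^[n] y) = D ^ n * det2 x y := by
    intro n
    induction n with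
    | zero => intro x y; simp
    | succ n ih =>
      intro x y
      rw [Function.iterate_succ_apply', Function.iterate_succ_apply', hdet, ih, pow_succ]
      ring
  have hD1 : D = 1 := by
    refine eq_one_of_pow_prime_pow (p := p) (k := k) ?_
    have h := hiter (p ^ k) e0 e1
    rw [hk, hk, h01, mul_one] at h
    exact h.symm
  have hbij : Function.Bijective A :=
    Finite.injective_iff_bijective.mp fun x y h => by
      rw [← hk x, ← hk y, show p ^ k = (p ^ k - 1) + 1 by omega, Function.iterate_succ_apply,
        Function.iterate_succ_apply, h]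
  exact exists_sl2_of_det2 (AddEquiv.ofBijective A hbij) fun x y => by
    show det2 (A x) (A y) = _
    rw [hdet, hD1, one_mul]

/-- An elementary abelian group of semilinear maps which is not linear is not an offender on the
natural module. -/
theorem card_mul_fixed_lt {R : Type*} [CommGroup R] [Finite R] (hR : ∀ r : R, r ^ p = 1)
    (Λ : R → (Fin 2 → F) →+ (Fin 2 → F)) (hmul : ∀ r r' u, Λ (r * r') u = Λ r (Λ r' u))
    (hone : ∀ u, Λ 1 u = u) (hfaith : ∀ r, (∀ u, Λ r u = u) → r = 1) (s : R → F → F)
    (hsemi : ∀ r t u, Λ r (t • u) = s r t • Λ r u) {r0 : R} {t0 : F} (hnl : s r0 t0 ≠ t0) :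
    Nat.card R * Nat.card {u : Fin 2 → F // ∀ r, Λ r u = u} < Nat.card F ^ 2 := by
  classical
  have hp := (Fact.out : p.Prime)
  have hinjΛ : ∀ r, Function.Injective (Λ r) := fun r x y h => by
    rw [← hone x, ← hone y, ← inv_mul_cancel r, hmul, hmul, h]
  -- a fixed vector
  letI : MulAction R (Fin 2 → F) :=
    { smul := fun r u => Λ r u
      one_smul := hone
      mul_smul := hmul }
  have hRp : IsPGroup p R := fun r => ⟨1, by rw [pow_one]; exact hR r⟩
  obtain ⟨n, -, hn⟩ := FiniteField.card F p
  have hdvd : p ∣ Nat.card (Fin 2 → F) := by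
    rw [Nat.card_fun, Nat.card_eq_fintype_card (α := F), Nat.card_fin, hn, ← pow_mul]
    exact dvd_pow_self p (by simp)
  obtain ⟨u, hu, hu0⟩ := hRp.exists_fixed_point_of_prime_dvd_card_of_fixed_point (Fin 2 → F) hdvd
    (a := 0) (fun r => map_zero (Λ r))
  replace hu : ∀ r, Λ r u = u := hu
  have hune : u ≠ 0 := fun h => hu0 h.symm
  obtain ⟨v, huv⟩ := exists_det2_eq_one hune
  have hscal : ∀ {a b : F}, a • u = b • u → a = b := fun {a b} h => smul_left_injective F hune h
  -- the field automorphisms
  have hs_add : ∀ r a b, s r (a + b) = s r a + s r b := fun r a b => hscal (by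
    have h := hsemi r (a + b) u
    rw [add_smul, map_add, hsemi, hsemi, hu, ← add_smul] at h
    exact h.symm)
  have hs_mul : ∀ r a b, s r (a * b) = s r a * s r b := fun r a b => hscal (by
    have h := hsemi r (a * b) u
    rw [mul_smul, hsemi, hsemi, hu, smul_smul] at h
    exact h.symm)
  have hs_one : ∀ r, s r 1 = 1 := fun r => hscal (by
    have h := hsemi r 1 u
    rw [one_smul, hu] at h
    rw [one_smul]; exact h.symm)
  have hs_comp : ∀ r r' a, s (r * r') a = s r (s r' a) := fun r r' a => hscal (by
    have h := hsemi (r * r') a u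
    rw [hu, hmul, hsemi, hsemi, hu, hu] at h
    exact h.symm)
  have hs_id : ∀ a, s 1 a = a := fun a => hscal (by
    have h := hsemi 1 a u
    rw [hone, hone] at h
    exact h.symm)
  have hs_zero : ∀ r, s r 0 = 0 := fun r => by
    have h := hs_add r 0 0
    rw [add_zero] at h
    simpa using h
  let L : Subgroup R :=
    { carrier := {r | ∀ t, s r t = t}
      one_mem' := hs_id
      mul_mem' := fun {a b} ha hb t => by rw [hs_comp, hb, ha]
      inv_mem' := fun {a} ha t => by
        conv_lhs => rw [← ha t, ← hs_comp, inv_mul_cancel, hs_id] }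
  letI : Algebra (ZMod p) F := ZMod.algebra F p
  let σe : R → (F ≃+* F) := fun r =>
    { toFun := s r
      invFun := s r⁻¹
      left_inv := fun a => by rw [← hs_comp, inv_mul_cancel, hs_id]
      right_inv := fun a => by rw [← hs_comp, mul_inv_cancel, hs_id]
      map_mul' := hs_mul r
      map_add' := hs_add r }
  let σ : R →* (F ≃ₐ[ZMod p] F) :=
    { toFun := fun r => AlgEquiv.ofRingEquiv (f := σe r) fun x => by
        have h : ((σe r).toRingHom).comp (algebraMap (ZMod p) F) = algebraMap (ZMod p) F :=
          Subsingleton.elim _ _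
        exact RingHom.congr_fun h x
      map_one' := AlgEquiv.ext fun a => hs_id a
      map_mul' := fun r r' => AlgEquiv.ext fun a => hs_comp r r' a }
  haveI : Fintype (F ≃ₐ[ZMod p] F) := Fintype.ofFinite _
  have hcardR : Nat.card R ≤ p * Nat.card L := by
    have hker : σ.ker = L := by
      ext r
      exact ⟨fun h t => (congrArg (fun e : F ≃ₐ[ZMod p] F => e t) h), fun h => AlgEquiv.ext h⟩
    rw [← Subgroup.card_mul_index L, ← hker, Subgroup.index_ker, mul_comm]
    refine Nat.mul_le_mul_right _ (le_trans ?_ (IsCyclic.card_pow_eq_one_le (α := F ≃ₐ[ZMod p] F) hp.pos))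
    rw [← Fintype.card_coe, ← Nat.card_eq_fintype_card]
    refine Nat.card_le_card_of_injective (fun e : σ.range => ⟨(e : F ≃ₐ[ZMod p] F), ?_⟩) ?_
    · obtain ⟨r, hr⟩ := e.2
      rw [Finset.mem_filter, ← hr, ← map_pow, hR, map_one]
      exact ⟨Finset.mem_univ _, rfl⟩
    · intro a b h
      have h' := congrArg Subtype.val h
      exact Subtype.ext h'
  -- the fixed field
  set q0 := Nat.card {t : F // s r0 t = t} with hq0
  have hq0p : p ≤ q0 := by
    have hnat : ∀ m : ℕ, s r0 (m : F) = m := by
      intro m
      induction m with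
      | zero => simpa using hs_zero r0
      | succ m ih => rw [Nat.cast_succ, hs_add, ih, hs_one]
    have h := Nat.card_le_card_of_injective (fun m : Fin p => (⟨(m : ℕ), hnat m⟩ : {t : F // s r0 t = t}))
      fun a b h => Fin.ext (CharP.natCast_injOn_Iio F p a.2 b.2 (congrArg Subtype.val h))
    rwa [Nat.card_fin] at h
  have hq0sq : q0 * q0 ≤ Nat.card F := by
    rw [hq0, ← Nat.card_prod]
    refine Nat.card_le_card_of_injective (fun x => (x.1 : F) + t0 * x.2) fun x y h => ?_
    have h' : (x.1 : F) + t0 * x.2 = y.1 + t0 * y.2 := h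
    have h2 : (x.2 : F) = y.2 := by
      by_contra hne
      apply hnl
      have e := congrArg (s r0) h'
      rw [hs_add, hs_add, hs_mul, hs_mul, x.1.2, x.2.2, y.1.2, y.2.2] at e
      exact mul_right_cancel₀ (sub_ne_zero.mpr hne) (by linear_combination e - h')
    rw [h2, add_left_inj] at h'
    exact Prod.ext (Subtype.ext h') (Subtype.ext h2)
  -- the linear part
  have hLv : ∀ l ∈ L, ∀ x, Λ l x = x + (det2 u x * det2 (Λ l v) v) • u := by
    intro l hl x
    have hlin : ∀ t y, Λ l (t • y) = t • Λ l y := fun t y => by rw [hsemi, hl t]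
    have hD : ∀ m : ℕ, det2 u (Λ (l ^ m) v) = det2 u (Λ l v) ^ m := by
      intro m
      induction m with
      | zero => rw [pow_zero, pow_zero, hone, huv]
      | succ m ih =>
        rw [pow_succ', hmul]
        conv_lhs => rw [← coords huv (Λ (l ^ m) v), map_add, hlin, hlin, hu, det2_add_right,
          det2_smul_right, det2_smul_right, det2_self, mul_zero, zero_add, ih, ← pow_succ]
    have hD1 : det2 u (Λ l v) = 1 := by
      refine eq_one_of_pow_prime_pow (p := p) (k := 1) ?_
      rw [pow_one, ← hD, hR, hone, huv]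
    have hv' : Λ l v = det2 (Λ l v) v • u + v := by
      conv_lhs => rw [← coords huv (Λ l v), hD1, one_smul]
    conv_lhs => rw [← coords huv x, map_add, hlin, hlin, hu, hv', smul_add, smul_smul]
    rw [← add_assoc, add_right_comm, coords huv x]
  have hLc : ∀ l ∈ L, s r0 (det2 (Λ l v) v) = det2 u (Λ r0 v) * det2 (Λ l v) v := by
    intro l hl
    apply hscal
    have h1 : Λ r0 (Λ l v) = Λ l (Λ r0 v) := by rw [← hmul, ← hmul, mul_comm]
    rw [hLv l hl v, huv, one_mul, map_add, hsemi, hu, hLv l hl (Λ r0 v)] at h1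
    exact add_left_cancel h1
  have hb0 : det2 u (Λ r0 v) ≠ 0 := by
    intro h0
    have h1 := coords huv (Λ r0 v)
    rw [h0, zero_smul, add_zero] at h1
    have h2 : v = s r0⁻¹ (det2 (Λ r0 v) v) • u := hinjΛ r0 (by
      rw [hsemi, ← hs_comp, mul_inv_cancel, hs_id, hu, h1])
    rw [h2, det2_smul_right, det2_self, mul_zero] at huv
    exact zero_ne_one huv
  have hline : ∀ x : Fin 2 → F, (∀ r, Λ r x = x) → det2 u x = 0 → s r0 (det2 x v) = det2 x v := by
    intro x hx h0
    apply hscal
    have hxu : det2 x v • u = x := by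
      have := coords huv x
      rwa [h0, zero_smul, add_zero] at this
    have h := hsemi r0 (det2 x v) u
    rw [hxu, hx, hu] at h
    rw [hxu]; exact h.symm
  have key : Nat.card L * Nat.card {x : Fin 2 → F // ∀ r, Λ r x = x} ≤ q0 * q0 := by
    by_cases hL : ∃ l ∈ L, det2 (Λ l v) v ≠ 0
    · obtain ⟨l1, hl1, hc1⟩ := hL
      refine Nat.mul_le_mul ?_ ?_
      · refine Nat.card_le_card_of_injective (fun l : L =>
          (⟨det2 (Λ (l : R) v) v / det2 (Λ l1 v) v, by
            have e := hs_mul r0 (det2 (Λ (l : R) v) v / det2 (Λ l1 v) v) (det2 (Λ l1 v) v)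
            rw [div_mul_cancel₀ _ hc1, hLc _ l.2, hLc l1 hl1] at e
            refine mul_right_cancel₀ hc1 ?_
            rw [div_mul_cancel₀ _ hc1]
            refine mul_left_cancel₀ hb0 ?_
            rw [e]; ring⟩ : {t : F // s r0 t = t})) fun a b h => ?_
        have h' : det2 (Λ (a : R) v) v / det2 (Λ l1 v) v = det2 (Λ (b : R) v) v / det2 (Λ l1 v) v :=
          congrArg Subtype.val h
        rw [div_left_inj' hc1] at h'
        refine Subtype.ext (inv_mul_eq_one.mp (hfaith _ fun x => ?_))
        rw [hmul, show Λ (b : R) x = Λ (a : R) x by rw [hLv _ a.2, hLv _ b.2, h'], ← hmul,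
          inv_mul_cancel, hone]
      · refine Nat.card_le_card_of_injective (fun x : {x : Fin 2 → F // ∀ r, Λ r x = x} =>
          (⟨det2 x.1 v, hline x.1 x.2 ?_⟩ : {t : F // s r0 t = t})) fun a b h => ?_
        · have h := hLv l1 hl1 x.1
          rw [x.2, left_eq_add, smul_eq_zero, or_iff_left hune, mul_eq_zero, or_iff_left hc1] at h
          exact h
        · have ha := hLv l1 hl1 a.1
          have hb := hLv l1 hl1 b.1
          rw [a.2, left_eq_add, smul_eq_zero, or_iff_left hune, mul_eq_zero, or_iff_left hc1] at ha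
          rw [b.2, left_eq_add, smul_eq_zero, or_iff_left hune, mul_eq_zero, or_iff_left hc1] at hb
          have h' : det2 a.1 v = det2 b.1 v := congrArg Subtype.val h
          exact Subtype.ext (by rw [← coords huv a.1, ← coords huv b.1, ha, hb, h'])
    · simp only [not_exists, not_and, not_not] at hL
      have hL1 : L = ⊥ := by
        rw [Subgroup.eq_bot_iff_forall]
        exact fun l hl => hfaith l fun x => by rw [hLv l hl, hL l hl, mul_zero, zero_smul, add_zero]
      rw [hL1, Subgroup.card_bot, one_mul]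
      by_cases hex : ∃ x : {x : Fin 2 → F // ∀ r, Λ r x = x}, det2 u x.1 ≠ 0
      · obtain ⟨⟨v', hv'⟩, hb⟩ := hex
        have hb' : det2 u v' ≠ 0 := hb
        rw [hq0, ← Nat.card_prod]
        have hdec : ∀ x : Fin 2 → F, (det2 x v' / det2 u v') • u + (det2 u x / det2 u v') • v' = x := by
          intro x
          have e : det2 x v' • u + det2 u x • v' = det2 u v' • x := by
            funext i
            fin_cases i <;> simp [det2] <;> ring
          rw [div_eq_inv_mul, div_eq_inv_mul, mul_smul, mul_smul, ← smul_add, e, inv_smul_smul₀ hb']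
        have hcmp : ∀ a b a' b' : F, a • u + b • v' = a' • u + b' • v' → a = a' ∧ b = b' := by
          intro a b a' b' h
          have h1 := congrArg (det2 u) h
          rw [det2_add_right, det2_add_right] at h1
          simp only [det2_smul_right, det2_self, mul_zero, zero_add] at h1
          have hb1 : b = b' := mul_right_cancel₀ hb' h1
          rw [hb1, add_left_inj] at h
          exact ⟨hscal h, hb1⟩
        refine Nat.card_le_card_of_injective (fun x : {x : Fin 2 → F // ∀ r, Λ r x = x} =>
          ((⟨det2 x.1 v' / det2 u v', ?_⟩ : {t : F // s r0 t = t}),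
           (⟨det2 u x.1 / det2 u v', ?_⟩ : {t : F // s r0 t = t}))) fun a b h => ?_
        rotate_right
        · refine Subtype.ext ?_
          rw [← hdec a.1, ← hdec b.1, show det2 a.1 v' / det2 u v' = det2 b.1 v' / det2 u v' from
              congrArg (fun z : {t : F // s r0 t = t} × {t : F // s r0 t = t} => (z.1 : F)) h,
            show det2 u a.1 / det2 u v' = det2 u b.1 / det2 u v' from
              congrArg (fun z : {t : F // s r0 t = t} × {t : F // s r0 t = t} => (z.2 : F)) h]
        all_goals
          have h1 := x.2 r0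
          have h3 : Λ r0 ((det2 x.1 v' / det2 u v') • u + (det2 u x.1 / det2 u v') • v') =
              (det2 x.1 v' / det2 u v') • u + (det2 u x.1 / det2 u v') • v' := by
            rw [hdec x.1]; exact h1
          rw [map_add, hsemi, hsemi, hu, hv' r0] at h3
        · exact (hcmp _ _ _ _ h3).1
        · exact (hcmp _ _ _ _ h3).2
      · simp only [not_exists, not_not] at hex
        refine le_trans (Nat.card_le_card_of_injective
          (fun x : {x : Fin 2 → F // ∀ r, Λ r x = x} =>
            (⟨det2 x.1 v, hline x.1 x.2 (hex x)⟩ : {t : F // s r0 t = t})) fun a b h => ?_)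
          (Nat.le_mul_of_pos_left q0 (hp.pos.trans_le hq0p))
        have h' : det2 a.1 v = det2 b.1 v := congrArg Subtype.val h
        exact Subtype.ext (by rw [← coords huv a.1, ← coords huv b.1, hex a, hex b, h'])
  calc Nat.card R * Nat.card {x : Fin 2 → F // ∀ r, Λ r x = x}
      ≤ p * Nat.card L * Nat.card {x : Fin 2 → F // ∀ r, Λ r x = x} := Nat.mul_le_mul_right _ hcardR
    _ ≤ p * (q0 * q0) := by rw [mul_assoc]; exact Nat.mul_le_mul_left p key
    _ ≤ q0 * (q0 * q0) := Nat.mul_le_mul_right _ hq0p
    _ < q0 * q0 * (q0 * q0) := by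
      have h2 : 2 ≤ q0 := hp.two_le.trans hq0p
      have hp3 : 0 < q0 * (q0 * q0) := by positivity
      calc q0 * (q0 * q0) = 1 * (q0 * (q0 * q0)) := (one_mul _).symm
        _ < q0 * (q0 * (q0 * q0)) := Nat.mul_lt_mul_of_pos_right (by omega) hp3
        _ = _ := by ring
    _ ≤ Nat.card F ^ 2 := by rw [pow_two]; exact Nat.mul_le_mul hq0sq hq0sq

end CfsgLib.BlockPair.Semilin
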