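import Cfsg.Agent.Lib.BlockPair.Baumann
import Cfsg.Agent.Lib.BlockPair.AltNormalizer
import Cfsg.Agent.Lib.BlockPair.Semilinear
import Cfsg.Agent.Lib.BlockNorm.Cubic

/-!
# The Baumann subgroup induces only elements of the block on its module
-/

set_option autoImplicit false
set_option linter.unusedSectionVars false
set_option linter.style.haveILetI false

open Matrix

namespace CfsgLib.BlockPair

open CfsgLib.LocalEven CfsgLib.LocalEven.BBlock CfsgLib.BlockNorm

variable {G : Type*} [Group G] [Finite G] {p : ℕ} [Fact p.Prime]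

/-- Conjugation by an element of `N(E)` induces a map on coordinates of `W / C_W(E)`. -/
theorem exists_induced_fun {E : Subgroup G} {K : Type*} [AddCommGroup K]
    {φ : ↥(bW p E) →* Multiplicative K}
    (hφker : ∀ w : ↥(bW p E), φ w = 1 ↔ (w : G) ∈ Subgroup.centralizer (E : Set G))
    {g : G} (hgE : g ∈ Subgroup.normalizer (E : Set G)) :
    ∃ A : K → K, ∀ w : ↥(bW p E),
      (φ ⟨g * w * g⁻¹, conj_mem' (normalizer_le_normalizer_bW E hgE) w.2⟩).toAdd =
        A (φ w).toAdd := by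
  classical
  have hgW := normalizer_le_normalizer_bW (p := p) E hgE
  have hwd : ∀ a b : ↥(bW p E), φ a = φ b →
      φ ⟨g * a * g⁻¹, conj_mem' hgW a.2⟩ = φ ⟨g * b * g⁻¹, conj_mem' hgW b.2⟩ := by
    intro a b h
    refine inv_mul_eq_one.mp ?_
    rw [← map_inv, ← map_mul]
    refine (hφker _).mpr ?_
    have hd : ((a⁻¹ * b : ↥(bW p E)) : G) ∈ Subgroup.centralizer (E : Set G) :=
      (hφker _).mp (by rw [map_mul, map_inv, h, inv_mul_cancel])
    show (g * a * g⁻¹)⁻¹ * (g * b * g⁻¹) ∈ _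
    rw [show (g * a * g⁻¹)⁻¹ * (g * b * g⁻¹) = g * ((a : G)⁻¹ * b) * g⁻¹ by group]
    exact conj_centralizer_mem hgE hd
  refine ⟨fun u => if h : ∃ w, (φ w).toAdd = u then
    (φ ⟨g * h.choose * g⁻¹, conj_mem' hgW h.choose.2⟩).toAdd else 0, fun w => ?_⟩
  have h : ∃ w', (φ w').toAdd = (φ w).toAdd := ⟨w, rfl⟩
  simp only [dif_pos h]
  exact congrArg Multiplicative.toAdd (hwd w _ (Multiplicative.toAdd.injective h.choose_spec).symm)

variable (hG : Subgroup.centralizer (Cfsg.pCore p G : Set G) ≤ Cfsg.pCore p G)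

include hG

theorem baumannSubgroup_le_normalizer {E : Subgroup G} (hE : IsBlock p E) (hEs : E.IsSubnormal) :
    Cfsg.baumannSubgroup p G ≤ Subgroup.normalizer (E : Set G) :=
  iSup_le fun T => baumann_le_normalizer hG hE hEs T

/-- On a linear block's module, `B(G)` induces elements of `SL₂`. -/
theorem exists_sl2_of_baumann {E : Subgroup G} (hE : IsBlock p E) (hEs : E.IsSubnormal)
    {F : Type*} [Field F] [Fintype F] [CharP F p] {n : ℕ} (hn : Fintype.card F = p ^ n)
    {φ : ↥(bW p E) →* Multiplicative (Fin 2 → F)} {ρ : ↥E →* SpecialLinearGroup (Fin 2) F}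
    (hφ : Function.Surjective φ)
    (hφker : ∀ w : ↥(bW p E), φ w = 1 ↔ (w : G) ∈ Subgroup.centralizer (E : Set G))
    (hρ : ρ.range = commutator (SpecialLinearGroup (Fin 2) F))
    (hρφ : ∀ (x : ↥E) (w : ↥(bW p E)),
      (φ ⟨(x : G) * w * (x : G)⁻¹, conj_mem' (le_normalizer_bW hE x.2) w.2⟩).toAdd =
        (ρ x : Matrix (Fin 2) (Fin 2) F).mulVec (φ w).toAdd)
    {g : G} (hg : g ∈ Cfsg.baumannSubgroup p G) :
    ∃ (hgW : g ∈ Subgroup.normalizer (bW p E : Set G)) (a : SpecialLinearGroup (Fin 2) F),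
      ∀ w : ↥(bW p E), (φ ⟨g * w * g⁻¹, conj_mem' hgW w.2⟩).toAdd =
        (a : Matrix (Fin 2) (Fin 2) F).mulVec (φ w).toAdd := by
  classical
  have hWM : (bW p E) ≤ Cfsg.omegaOneCenter p (Cfsg.pCore p G) := bW_le_omega hE hG
  have hWEA : Cfsg.IsElementaryAbelian p (bW p E) :=
    CfsgLib.PLocal.isEA_mono (CfsgLib.PLocal.omegaCenter_isEA (Cfsg.pCore p G)) hWM
  have hNW : Subgroup.normalizer (E : Set G) ≤ Subgroup.normalizer (bW p E : Set G) :=
    normalizer_le_normalizer_bW E
  let L : Subgroup G :=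
    { carrier := {g | ∃ (hgW : g ∈ Subgroup.normalizer (bW p E : Set G)) (a : SpecialLinearGroup (Fin 2) F),
        ∀ w : ↥(bW p E), (φ ⟨g * w * g⁻¹, conj_mem' hgW w.2⟩).toAdd =
          (a : Matrix (Fin 2) (Fin 2) F).mulVec (φ w).toAdd}
      one_mem' := ⟨one_mem _, 1, fun w => by
        rw [mulVec_one']
        exact congrArg (fun z : ↥(bW p E) => (φ z).toAdd) (Subtype.ext (by simp))⟩
      mul_mem' := by
        rintro g h ⟨hgW, a, ha⟩ ⟨hhW, b, hb⟩
        refine ⟨mul_mem hgW hhW, a * b, fun w => ?_⟩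
        rw [mulVec_mul, ← hb, ← ha]
        exact congrArg (fun z : ↥(bW p E) => (φ z).toAdd) (Subtype.ext (by simp [mul_assoc]))
      inv_mem' := by
        rintro g ⟨hgW, a, ha⟩
        refine ⟨inv_mem hgW, a⁻¹, fun w => ?_⟩
        have h := ha ⟨g⁻¹ * w * g⁻¹⁻¹, conj_mem' (inv_mem hgW) w.2⟩
        rw [show (⟨g * (g⁻¹ * w * g⁻¹⁻¹) * g⁻¹, conj_mem' hgW
          (conj_mem' (inv_mem hgW) w.2)⟩ : ↥(bW p E)) = w from Subtype.ext (by simp [mul_assoc])] at h
        rw [h, ← mulVec_mul, inv_mul_cancel, mulVec_one'] }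
  suffices h : Cfsg.baumannSubgroup p G ≤ L from h hg
  clear hg g
  refine iSup_le fun T' => ?_
  -- the induced maps
  choose A hA using fun (g : G) (hgE : g ∈ Subgroup.normalizer (E : Set G)) =>
    exists_induced_fun hφker hgE
  have hsurj : ∀ u : Fin 2 → F, ∃ w, (φ w).toAdd = u := fun u => by
    obtain ⟨w, hw⟩ := hφ (Multiplicative.ofAdd u)
    exact ⟨w, by rw [hw, toAdd_ofAdd]⟩
  have hadd : ∀ g hgE u v, A g hgE (u + v) = A g hgE u + A g hgE v := by
    intro g hgE u v
    obtain ⟨a, rfl⟩ := hsurj u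
    obtain ⟨b, rfl⟩ := hsurj v
    rw [← hA, ← hA, ← toAdd_mul, ← toAdd_mul, ← map_mul, ← map_mul, ← hA]
    exact congrArg (fun z : ↥(bW p E) => (φ z).toAdd) (Subtype.ext (by simp [mul_assoc]))
  have hcomp : ∀ g h hgE hhE hghE u, A (g * h) hghE u = A g hgE (A h hhE u) := by
    intro g h hgE hhE hghE u
    obtain ⟨a, rfl⟩ := hsurj u
    rw [← hA, ← hA, ← hA]
    exact congrArg (fun z : ↥(bW p E) => (φ z).toAdd) (Subtype.ext (by simp [mul_assoc]))
  have hid : ∀ h u, A 1 h u = u := by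
    intro h u
    obtain ⟨a, rfl⟩ := hsurj u
    rw [← hA]
    exact congrArg (fun z : ↥(bW p E) => (φ z).toAdd) (Subtype.ext (by simp))
  have hcong : ∀ g g' (h : g ∈ Subgroup.normalizer (E : Set G)) (h' : g' ∈ Subgroup.normalizer (E : Set G)),
      g = g' → ∀ u, A g h u = A g' h' u := by
    intro g g' h h' e u
    subst e
    rfl
  have hinvA : ∀ g hgE hgiE u, A g⁻¹ hgiE (A g hgE u) = u := fun g hgE hgiE u =>
    (hcomp g⁻¹ g hgiE hgE (mul_mem hgiE hgE) u).symm.trans
      ((hcong _ 1 _ (one_mem _) (inv_mul_cancel g) u).trans (hid _ u))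
  have hinvA' : ∀ g hgE hgiE u, A g hgE (A g⁻¹ hgiE u) = u := fun g hgE hgiE u =>
    (hcomp g g⁻¹ hgE hgiE (mul_mem hgE hgiE) u).symm.trans
      ((hcong _ 1 _ (one_mem _) (mul_inv_cancel g) u).trans (hid _ u))
  have hequiv : ∀ g hgE (x : ↥E) u, A g hgE ((ρ x : Matrix (Fin 2) (Fin 2) F).mulVec u) =
      (ρ ⟨g * x * g⁻¹, conj_mem' hgE x.2⟩ : Matrix (Fin 2) (Fin 2) F).mulVec (A g hgE u) := by
    intro g hgE x u
    obtain ⟨a, rfl⟩ := hsurj u
    rw [← hρφ, ← hA, ← hA, ← hρφ]
    exact congrArg (fun z : ↥(bW p E) => (φ z).toAdd) (Subtype.ext (by simp [mul_assoc]))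
  let Ah : ∀ g, g ∈ Subgroup.normalizer (E : Set G) → (Fin 2 → F) →+ (Fin 2 → F) :=
    fun g hgE => AddMonoidHom.mk' (A g hgE) (hadd g hgE)
  -- semilinearity
  have hsemi : ∀ g hgE, ∃ s : F → F, ∀ (t : F) u, Ah g hgE (t • u) = s t • Ah g hgE u := by
    intro g hgE
    rcases Nat.lt_or_ge n 2 with hn2 | hn2
    · refine ⟨fun t => t, fun t u => ?_⟩
      obtain ⟨m, rfl⟩ : ∃ m : ℕ, (m : F) = t := by
        have hn1 : n = 1 := by
          rcases n with _ | _ | n
          · rw [pow_zero] at hn; exact absurd hn (Fintype.one_lt_card (α := F)).ne'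
          · rfl
          · omega
        have hbij : Function.Bijective fun m : Fin p => ((m : ℕ) : F) :=
          (Fintype.bijective_iff_injective_and_card _).mpr
            ⟨fun a b h => Fin.ext (CharP.natCast_injOn_Iio F p a.2 b.2 h), by
              rw [Fintype.card_fin, hn, hn1, pow_one]⟩
        obtain ⟨m, hm⟩ := hbij.2 t
        exact ⟨m, hm⟩
      rw [Nat.cast_smul_eq_nsmul, map_nsmul, Nat.cast_smul_eq_nsmul]
    · have h4 : 4 ≤ Fintype.card F := by
        rw [hn]
        calc 4 = 2 ^ 2 := by norm_num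
          _ ≤ p ^ 2 := Nat.pow_le_pow_left (Fact.out : p.Prime).two_le 2
          _ ≤ p ^ n := Nat.pow_le_pow_right (Fact.out : p.Prime).pos hn2
      have htop := commutator_eq_top h4
      have hgi := inv_mem hgE
      have hinv : ∀ u, A g⁻¹ hgi (A g hgE u) = u := hinvA g hgE hgi
      have hex : ∀ t : F, ∃ k : F, ∀ u, A g hgE (t • A g⁻¹ hgi u) = k • u := by
        intro t
        refine exists_scalar_of_commute
          (AddMonoidHom.mk' (fun u => A g hgE (t • A g⁻¹ hgi u))
            fun u v => by rw [hadd, smul_add, hadd]) fun a u => ?_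
        obtain ⟨x, rfl⟩ : ∃ x, ρ x = a := by
          have h : a ∈ ρ.range := by rw [hρ, htop]; exact Subgroup.mem_top a
          exact h
        show A g hgE (t • A g⁻¹ hgi _) = _
        rw [hequiv g⁻¹ hgi x, ← mulVec_smul, hequiv g hgE,
          show (⟨g * (g⁻¹ * (x : G) * g⁻¹⁻¹) * g⁻¹, conj_mem' hgE (conj_mem' hgi x.2)⟩ : ↥E) = x from
            Subtype.ext (by simp [mul_assoc])]
        rfl
      choose s hs using hex
      refine ⟨s, fun t u => ?_⟩
      show A g hgE (t • u) = s t • A g hgE u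
      rw [← hs t, hinv]
  choose s hs using hsemi
  set J := Cfsg.thompsonSubgroupOf p (T' : Subgroup G) with hJ
  have hB : Cfsg.baumannSubgroupOf p (T' : Subgroup G) ≤ Subgroup.normalizer (E : Set G) :=
    baumann_le_normalizer hG hE hEs T'
  have hWT : (bW p E) ≤ (T' : Subgroup G) :=
    hWM.trans (((CfsgLib.PLocal.omegaOne_le p _).trans inf_le_left).trans
      (CfsgLib.Solvable.pCore_le_sylow T'))
  -- the Thompson subgroup acts linearly
  have hlinA : ∀ A' ∈ CfsgLib.PLocal.maxEAIn p (T' : Subgroup G), ∀ (a : G),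
      a ∈ A' → ∀ (ha : a ∈ Subgroup.normalizer (E : Set G)) (t : F), s a ha t = t := by
    intro A' hA' a haA ha t0
    by_contra hnl
    have hA'N : A' ≤ Subgroup.normalizer (E : Set G) := maxEA_le_normalizer hG hE hEs T' hA'
    letI : CommGroup ↥A' :=
      { (inferInstance : Group ↥A') with
        mul_comm := fun x y => Subtype.ext (CfsgLib.PLocal.commute_of_mem_comm hA'.2.1.1 x.2 y.2).eq }
    let K0 : Subgroup ↥A' :=
      { carrier := {x | ∀ u, A x (hA'N x.2) u = u}
        one_mem' := fun u => hid _ u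
        mul_mem' := fun {x y} hx hy u => (hcomp (x : G) y (hA'N x.2) (hA'N y.2) _ u).trans (by rw [hy, hx])
        inv_mem' := fun {x} hx u => by
          conv_lhs => rw [← hx u]
          exact hinvA (x : G) (hA'N x.2) _ u }
    have hout : ∀ (x : ↥A') u, A _ (hA'N (Quotient.out (x : ↥A' ⧸ K0)).2) u = A x (hA'N x.2) u := by
      intro x u
      set y := Quotient.out (x : ↥A' ⧸ K0) with hy
      have hk : x⁻¹ * y ∈ K0 := QuotientGroup.eq.mp (QuotientGroup.out_eq' (x : ↥A' ⧸ K0)).symm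
      calc A _ (hA'N y.2) u = A ((x : G) * (x⁻¹ * y : ↥A')) (mul_mem (hA'N x.2) (hA'N (x⁻¹ * y).2)) u :=
            hcong _ _ _ _ (by simp) u
        _ = A x (hA'N x.2) (A _ (hA'N (x⁻¹ * y).2) u) := hcomp _ _ _ _ _ u
        _ = _ := by rw [hk u]
    let Λ : ↥A' ⧸ K0 → (Fin 2 → F) →+ (Fin 2 → F) := fun r => Ah _ (hA'N (Quotient.out r).2)
    have hR : ∀ r : ↥A' ⧸ K0, r ^ p = 1 := fun r => by
      induction r using QuotientGroup.induction_on with
      | H x =>
        rw [← QuotientGroup.mk_pow, show x ^ p = 1 from Subtype.ext (hA'.2.1.2 _ x.2),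
          QuotientGroup.mk_one]
    have hWfix := Semilin.card_mul_fixed_lt hR Λ
      (fun r r' u => by
        induction r using QuotientGroup.induction_on with
        | H x =>
          induction r' using QuotientGroup.induction_on with
          | H y =>
            show A _ _ u = A _ _ (A _ _ u)
            rw [← QuotientGroup.mk_mul, hout, hout, hout]
            exact hcomp _ _ _ _ _ u)
      (fun u => by
        show A _ _ u = u
        rw [← QuotientGroup.mk_one, hout]
        exact hid _ u)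
      (fun r h => by
        induction r using QuotientGroup.induction_on with
        | H x =>
          refine (QuotientGroup.eq_one_iff x).mpr fun u => ?_
          rw [← hout]
          exact h u)
      (fun r t => s _ (hA'N (Quotient.out r).2) t)
      (fun r t u => hs _ _ t u)
      (r0 := ((⟨a, haA⟩ : ↥A') : ↥A' ⧸ K0)) (t0 := t0) (by
        intro h
        apply hnl
        have h1 := hs _ (hA'N (Quotient.out ((⟨a, haA⟩ : ↥A') : ↥A' ⧸ K0)).2) t0 ![1, 0]
        rw [h] at h1
        change A _ _ _ = t0 • A _ _ _ at h1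
        rw [hout, hout] at h1
        have h2 : A a ha (t0 • ![1, 0]) = s a ha t0 • A a ha ![1, 0] := hs a ha t0 _
        refine smul_left_injective F ?_ (h2.symm.trans h1)
        intro h0
        have hi := (hinvA a ha (inv_mem ha) ![1, 0]).symm
        rw [h0, show A a⁻¹ (inv_mem ha) 0 = 0 from (Ah a⁻¹ (inv_mem ha)).map_zero] at hi
        simpa using congrFun hi 0)
    -- the offender inequality
    set B := A' ⊓ Subgroup.centralizer (bW p E : Set G) with hBdef
    have h1 := card_mul_le hA' (inf_le_left : B ≤ A') hWT hWEA inf_le_right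
    have hK0 : Nat.card ↥K0 ≤ Nat.card ↥B := by
      refine Nat.card_le_card_of_injective (fun x : ↥K0 => (⟨(x : ↥A'), Subgroup.mem_inf.mpr
        ⟨(x : ↥A').2, centralizes_of_stable hG hE (hA'N (x : ↥A').2) (hNW (hA'N (x : ↥A').2))
          fun w hw => ?_⟩⟩ : ↥B)) fun x y h => Subtype.ext (Subtype.ext (congrArg (fun z : ↥B => (z : G)) h))
      refine (hφker (⟨_, conj_mem' (hNW (hA'N (x : ↥A').2)) hw⟩ * (⟨w, hw⟩ : ↥(bW p E))⁻¹)).mp ?_
      rw [map_mul, map_inv, mul_inv_eq_one]
      refine Multiplicative.toAdd.injective ?_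
      rw [hA _ (hA'N (x : ↥A').2) ⟨w, hw⟩]
      exact x.2 _
    have hAc : Nat.card ↥A' = Nat.card (↥A' ⧸ K0) * Nat.card ↥K0 :=
      Subgroup.card_eq_card_quotient_mul_card_subgroup K0
    have hWc : Nat.card ↥(bW p E) = Nat.card φ.ker * Nat.card F ^ 2 := by
      rw [← Subgroup.card_mul_index φ.ker, Subgroup.index_ker, MonoidHom.range_eq_top.mpr hφ,
        Subgroup.card_top, Nat.card_congr Multiplicative.toAdd, Nat.card_fun, Nat.card_fin]
    have hC : Nat.card ↥((bW p E) ⊓ Subgroup.centralizer (A' : Set G)) ≤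
        Nat.card φ.ker * Nat.card {u : Fin 2 → F // ∀ r, Λ r u = u} := by
      let ψ := φ.comp (Subgroup.inclusion (inf_le_left : (bW p E) ⊓ Subgroup.centralizer (A' : Set G) ≤ (bW p E)))
      rw [← Subgroup.card_mul_index ψ.ker, Subgroup.index_ker]
      refine Nat.mul_le_mul ?_ ?_
      · exact Nat.card_le_card_of_injective (fun x : ψ.ker => (⟨Subgroup.inclusion inf_le_left x.1, x.2⟩ : φ.ker))
          fun x y h => by
            have h' := congrArg Subtype.val h
            exact Subtype.ext (Subgroup.inclusion_injective _ h')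
      · refine Nat.card_le_card_of_injective (fun u : ψ.range => (⟨(u : Multiplicative (Fin 2 → F)).toAdd, ?_⟩ :
          {u : Fin 2 → F // ∀ r, Λ r u = u})) fun x y h => ?_
        · obtain ⟨c, hc⟩ := u.2
          intro r
          induction r using QuotientGroup.induction_on with
          | H x =>
            show A _ _ _ = _
            rw [hout, ← hc]
            show A _ _ (φ (Subgroup.inclusion inf_le_left c)).toAdd = (φ (Subgroup.inclusion inf_le_left c)).toAdd
            rw [← hA]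
            refine congrArg (fun z : ↥(bW p E) => (φ z).toAdd) (Subtype.ext ?_)
            show (x : G) * c * (x : G)⁻¹ = c
            rw [(Subgroup.mem_inf.mp c.2).2 x x.2, mul_inv_cancel_right]
        · have h' := congrArg Subtype.val h
          exact Subtype.ext (Multiplicative.toAdd.injective h')
    have h2 : Nat.card ↥B * Nat.card ↥(bW p E) < Nat.card ↥B * Nat.card ↥(bW p E) := by
      calc Nat.card ↥B * Nat.card ↥(bW p E)
          ≤ Nat.card ↥A' * Nat.card ↥((bW p E) ⊓ Subgroup.centralizer (A' : Set G)) := h1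
        _ ≤ Nat.card (↥A' ⧸ K0) * Nat.card ↥B *
            (Nat.card φ.ker * Nat.card {u : Fin 2 → F // ∀ r, Λ r u = u}) := by
          rw [hAc]; exact Nat.mul_le_mul (Nat.mul_le_mul_left _ hK0) hC
        _ = Nat.card ↥B * (Nat.card φ.ker *
            (Nat.card (↥A' ⧸ K0) * Nat.card {u : Fin 2 → F // ∀ r, Λ r u = u})) := by ring
        _ < Nat.card ↥B * (Nat.card φ.ker * Nat.card F ^ 2) :=
          Nat.mul_lt_mul_of_pos_left (Nat.mul_lt_mul_of_pos_left hWfix Nat.card_pos) Nat.card_pos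
        _ = _ := by rw [hWc]
    exact lt_irrefl _ h2
  have hJN : J ≤ Subgroup.normalizer (E : Set G) := (thompson_le_baumann _).trans hB
  have hlinJ : ∀ j (hj : j ∈ J) (t : F) u, A j (hJN hj) (t • u) = t • A j (hJN hj) u := by
    intro j hj
    let LJ : Subgroup G :=
      { carrier := {j | ∃ h : j ∈ Subgroup.normalizer (E : Set G), ∀ (t : F) u,
          A j h (t • u) = t • A j h u}
        one_mem' := ⟨one_mem _, fun t u => by rw [hid, hid]⟩
        mul_mem' := fun {a b} ha hb => ⟨mul_mem ha.1 hb.1, fun t u => by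
          rw [hcomp a b ha.1 hb.1, hcomp a b ha.1 hb.1, hb.2, ha.2]⟩
        inv_mem' := fun {a} ha => ⟨inv_mem ha.1, fun t u => by
          have hinv := hinvA a ha.1 (inv_mem ha.1)
          have hinv' := hinvA' a ha.1 (inv_mem ha.1)
          conv_lhs => rw [← hinv' u, ← ha.2, hinv]⟩ }
    have h : J ≤ LJ := by
      rw [hJ, CfsgLib.PLocal.thompsonSubgroupOf_eq]
      refine sSup_le fun A' hA' a ha => ⟨maxEA_le_normalizer hG hE hEs T' hA' ha, fun t u => ?_⟩
      have hh := hs a (maxEA_le_normalizer hG hE hEs T' hA' ha) t u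
      rwa [hlinA A' hA' a ha] at hh
    obtain ⟨h', hh⟩ := h hj
    exact hh
  -- a fixed line
  obtain ⟨w, hwW, hwC, hwfix⟩ := exists_fixed_mem hG hE (T'.2.to_le inf_le_left) hB
  set u0 := (φ ⟨w, hwW⟩).toAdd with hu0
  have hu0ne : u0 ≠ 0 := fun h => hwC ((hφker ⟨w, hwW⟩).mp (Multiplicative.toAdd.injective h))
  intro g hgB
  have hgE := hB hgB
  have hfixline : ∀ t : F, A g hgE (t • u0) = t • u0 := by
    intro t
    obtain ⟨w1, hw1⟩ := hsurj (t • u0)
    obtain ⟨w2, hw2W, hw2, hw2J⟩ := exists_fixed_lift hG hE hJN w1.2 fun j hj => by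
      refine (hφker (⟨_, conj_mem' (hNW (hJN hj)) w1.2⟩ * w1⁻¹)).mp ?_
      rw [map_mul, map_inv, mul_inv_eq_one]
      refine Multiplicative.toAdd.injective ?_
      rw [hA j (hJN hj) w1, hw1, hlinJ j hj, hu0, ← hA j (hJN hj)]
      exact congrArg (fun z : ↥(bW p E) => t • (φ z).toAdd)
        (Subtype.ext (hwfix j (thompson_le_baumann _ hj)))
    have hz := mem_omega_centerThompson (hWM hw2W) hw2J
    have hφ2 : (φ ⟨w2, hw2W⟩).toAdd = t • u0 := by
      rw [← hw1]
      refine congrArg Multiplicative.toAdd (inv_mul_eq_one.mp ?_).symm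
      rw [← map_inv, ← map_mul]
      exact (hφker _).mpr hw2
    rw [← hφ2, ← hA]
    exact congrArg (fun z : ↥(bW p E) => (φ z).toAdd) (Subtype.ext (by
      show g * w2 * g⁻¹ = w2
      rw [← hgB.2 w2 hz, mul_inv_cancel_right]))
  have hglin : ∀ (t : F) u, Ah g hgE (t • u) = t • Ah g hgE u := by
    intro t u
    rw [hs g hgE t u]
    congr 1
    refine smul_left_injective F hu0ne ?_
    show s g hgE t • u0 = t • u0
    have h1 := hfixline 1
    rw [one_smul] at h1
    have h := hs g hgE t u0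
    change A g hgE (t • u0) = s g hgE t • A g hgE u0 at h
    rw [hfixline, h1] at h
    exact h.symm
  obtain ⟨k, hk⟩ := (T'.2.to_le inf_le_left : IsPGroup p ↥(Cfsg.baumannSubgroupOf p (T' : Subgroup G))) ⟨g, hgB⟩
  have hgk : g ^ p ^ k = 1 := congrArg Subtype.val hk
  obtain ⟨a, ha⟩ := Semilin.exists_sl2_of_linear (p := p) (Ah g hgE) (k := k) (fun u => by
    have key : ∀ (m : ℕ) (h : g ^ m ∈ Subgroup.normalizer (E : Set G)) u,
        (⇑(Ah g hgE))^[m] u = A (g ^ m) h u := by
      intro m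
      induction m with
      | zero =>
        intro h u
        exact ((hcong _ 1 h (one_mem _) (pow_zero g) u).trans (hid _ u)).symm
      | succ m ih =>
        intro h u
        rw [Function.iterate_succ_apply', ih (pow_mem hgE m)]
        exact ((hcong _ (g * g ^ m) h (mul_mem hgE (pow_mem hgE m)) (pow_succ' g m) u).trans
          (hcomp _ _ _ _ _ u)).symm
    rw [key _ (pow_mem hgE _)]
    exact (hcong _ 1 _ (one_mem _) hgk u).trans (hid _ u)) hglin
  exact ⟨hNW hgE, a, fun v => (hA g hgE v).trans (ha _).symm⟩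

/-- On a symmetric block's module, `N(E)` induces elements of the symmetric group. -/
theorem exists_perm_of_normalizer {E : Subgroup G} (hE : IsBlock p E) {m : ℕ}
    {φ : ↥(bW p E) →* Multiplicative (Fin (2 * m + 1) → ZMod 2)}
    {ρ : ↥E →* Equiv.Perm (Fin (2 * m + 1))}
    (hev : ∀ v, (∃ w, (φ w).toAdd = v) ↔ ∑ i, v i = 0)
    (hφker : ∀ w : ↥(bW p E), φ w = 1 ↔ (w : G) ∈ Subgroup.centralizer (E : Set G))
    (hρ : ρ.range = alternatingGroup (Fin (2 * m + 1)))
    (hρφ : ∀ (x : ↥E) (w : ↥(bW p E)) i,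
      (φ ⟨(x : G) * w * (x : G)⁻¹, conj_mem' (le_normalizer_bW hE x.2) w.2⟩).toAdd i =
        (φ w).toAdd ((ρ x)⁻¹ i))
    {g : G} (hgE : g ∈ Subgroup.normalizer (E : Set G)) :
    ∃ π : Equiv.Perm (Fin (2 * m + 1)), ∀ w : ↥(bW p E),
      (φ ⟨g * w * g⁻¹, conj_mem' (normalizer_le_normalizer_bW E hgE) w.2⟩).toAdd =
        AltNorm.act π (φ w).toAdd := by
  classical
  obtain ⟨A, hA⟩ := exists_induced_fun hφker hgE
  have hev' : ∀ w, ∑ i, (φ w).toAdd i = 0 := fun w => (hev _).mp ⟨w, rfl⟩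
  have hA0 : A 0 = 0 := by
    have h := hA 1
    rw [map_one, toAdd_one, show (⟨g * ((1 : ↥(bW p E)) : G) * g⁻¹,
      conj_mem' (normalizer_le_normalizer_bW E hgE) (1 : ↥(bW p E)).2⟩ : ↥(bW p E)) = 1 from
      Subtype.ext (by simp), map_one, toAdd_one] at h
    exact h.symm
  have hadd : ∀ v v', ∑ i, v i = 0 → ∑ i, v' i = 0 → A (v + v') = A v + A v' := by
    intro v v' hv hv'
    obtain ⟨a, rfl⟩ := (hev v).mpr hv
    obtain ⟨b, rfl⟩ := (hev v').mpr hv'
    rw [← hA, ← hA, ← toAdd_mul, ← toAdd_mul, ← map_mul, ← map_mul, ← hA]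
    exact congrArg (fun z : ↥(bW p E) => (φ z).toAdd) (Subtype.ext (by simp [mul_assoc]))
  have hinj : ∀ v v', ∑ i, v i = 0 → ∑ i, v' i = 0 → A v = A v' → v = v' := by
    intro v v' hv hv' h
    obtain ⟨a, rfl⟩ := (hev v).mpr hv
    obtain ⟨b, rfl⟩ := (hev v').mpr hv'
    rw [← hA, ← hA] at h
    refine congrArg Multiplicative.toAdd (inv_mul_eq_one.mp ?_)
    rw [← map_inv, ← map_mul, hφker]
    have h1 : φ ((⟨g * a * g⁻¹, conj_mem' (normalizer_le_normalizer_bW E hgE) a.2⟩ : ↥(bW p E))⁻¹ *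
        ⟨g * b * g⁻¹, conj_mem' (normalizer_le_normalizer_bW E hgE) b.2⟩) = 1 := by
      rw [map_mul, map_inv, Multiplicative.toAdd.injective h, inv_mul_cancel]
    have h2 := (hφker _).mp h1
    change (g * a * g⁻¹)⁻¹ * (g * b * g⁻¹) ∈ _ at h2
    have h3 := conj_centralizer_mem (inv_mem hgE) h2
    rw [show g⁻¹ * ((g * a * g⁻¹)⁻¹ * (g * b * g⁻¹)) * g⁻¹⁻¹ = (a : G)⁻¹ * b by group] at h3
    exact h3
  have hstep : ∀ (x : ↥E) v, ∑ i, v i = 0 →
      A (AltNorm.act (ρ x) v) = AltNorm.act (ρ ⟨g * x * g⁻¹, conj_mem' hgE x.2⟩) (A v) := by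
    intro x v hv
    obtain ⟨a, rfl⟩ := (hev v).mpr hv
    have e1 : AltNorm.act (ρ x) (φ a).toAdd =
        (φ ⟨(x : G) * a * (x : G)⁻¹, conj_mem' (le_normalizer_bW hE x.2) a.2⟩).toAdd :=
      funext fun i => (hρφ x a i).symm
    rw [e1, ← hA, ← hA]
    funext i
    show _ = (φ _).toAdd ((ρ _)⁻¹ i)
    rw [← hρφ]
    exact congrArg (fun z : ↥(bW p E) => (φ z).toAdd i) (Subtype.ext (by simp [mul_assoc]))
  suffices h : ∃ π : Equiv.Perm (Fin (2 * m + 1)), ∀ v, ∑ i, v i = 0 → A v = AltNorm.act π v by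
    obtain ⟨π, hπ⟩ := h
    exact ⟨π, fun w => (hA w).trans (hπ _ (hev' w))⟩
  rcases m with _ | _ | m
  · refine ⟨1, fun v hv => ?_⟩
    have h0 : v = 0 := by
      funext i
      fin_cases i
      simpa using hv
    rw [h0, hA0]; rfl
  · have hcases : ∀ v : Fin (2 * 1 + 1) → ZMod 2, ∑ i, v i = 0 →
        v = 0 ∨ ∃ i, v = AltNorm.vec (Finset.univ.erase i) := by
      unfold AltNorm.vec; decide
    have hek : ∀ i : Fin (2 * 1 + 1), ∑ k, AltNorm.vec (Finset.univ.erase i) k = 0 := fun i =>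
      (AltNorm.even_iff _).mpr (by simp)
    have hnext : ∀ i, ∃ j, A (AltNorm.vec (Finset.univ.erase i)) = AltNorm.vec (Finset.univ.erase j) := by
      intro i
      obtain ⟨a, ha⟩ := (hev _).mpr (hek i)
      rcases hcases (A (AltNorm.vec (Finset.univ.erase i))) (by rw [← ha, ← hA]; exact hev' _) with h | h
      · exfalso
        have h1 : AltNorm.vec (Finset.univ.erase i) = (0 : Fin (2 * 1 + 1) → ZMod 2) :=
          hinj _ _ (hek i) (by simp) (by rw [h, hA0])
        rw [show (0 : Fin (2 * 1 + 1) → ZMod 2) = AltNorm.vec ∅ from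
          funext fun k => by simp [AltNorm.vec]] at h1
        have h2 := congrArg Finset.card (AltNorm.vec_injective h1)
        simp at h2
      · exact h
    choose π hπ using hnext
    have hπinj : Function.Injective π := fun i j h => by
      have h1 := AltNorm.vec_injective (hinj _ _ (hek i) (hek j) (by rw [hπ, hπ, h]))
      by_contra hne
      have h2 : i ∈ Finset.univ.erase i := h1 ▸ Finset.mem_erase.mpr ⟨hne, Finset.mem_univ i⟩
      simp at h2
    refine ⟨Equiv.ofBijective π (Finite.injective_iff_bijective.mp hπinj), fun v hv => ?_⟩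
    rcases hcases v hv with rfl | ⟨i, rfl⟩
    · rw [hA0]; rfl
    · rw [hπ, AltNorm.act_vec, Finset.map_erase, Finset.map_univ_equiv]; rfl
  · refine AltNorm.exists_perm (by omega) ⟨m + 2, rfl⟩ A
      (fun v hv => by obtain ⟨a, rfl⟩ := (hev v).mpr hv; rw [← hA]; exact hev' _) hadd hinj ?_ ?_
    · intro σ hσ
      rw [← hρ] at hσ
      obtain ⟨x, rfl⟩ := hσ
      exact ⟨_, hρ ▸ ⟨_, rfl⟩, fun v hv => hstep x v hv⟩
    · intro σ hσ
      rw [← hρ] at hσ
      obtain ⟨y, rfl⟩ := hσ
      have hy : g⁻¹ * y * g⁻¹⁻¹ ∈ E := conj_mem' (inv_mem hgE) y.2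
      refine ⟨ρ ⟨_, hy⟩, hρ ▸ ⟨_, rfl⟩, fun v hv => ?_⟩
      rw [hstep ⟨_, hy⟩ v hv]
      congr 2
      exact Subtype.ext (by simp [mul_assoc])

/-- A subgroup of `B(G)` generated by `p'`-elements lies in `E C(W)`. -/
theorem le_sup_of_le_baumann {E F : Subgroup G} (hE : IsBlock p E) (hEs : E.IsSubnormal)
    (hres : Cfsg.pResidualOf p F = F) (hF : F ≤ Cfsg.baumannSubgroup p G) :
    F ≤ E ⊔ Subgroup.centralizer (bW p E : Set G) := by
  classical
  refine residual_induction hres fun x hx hcop => ?_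
  have hxE := baumannSubgroup_le_normalizer hG hE hEs (hF hx)
  have hxW := normalizer_le_normalizer_bW (p := p) E hxE
  obtain ⟨T, -, -, -, -, hcase⟩ := id hE
  rcases hcase with ⟨K, iK, iKt, n, hn, hiso, hact, -⟩ | ⟨hp, m, -, hact, -⟩
  · haveI : CharP K p := by
      have h0 := FiniteField.cast_card_eq_zero K
      rw [hn] at h0
      push_cast at h0
      exact (CharP.charP_iff_prime_eq_zero (Fact.out : p.Prime)).mpr (eq_zero_of_pow_eq_zero h0)
    obtain ⟨φ, ρ, hφ, hφker, hρ, -, hρφ⟩ := exists_coords_sl2 hG hE hiso hact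
    obtain ⟨hxW', a, ha⟩ := exists_sl2_of_baumann hG hE hEs hn hφ hφker hρ hρφ (hF hx)
    have hpow : ∀ (k : ℕ) (w : ↥(bW p E)) (h : x ^ k ∈ Subgroup.normalizer (bW p E : Set G)),
        (φ ⟨x ^ k * w * (x ^ k)⁻¹, conj_mem' h w.2⟩).toAdd =
          ((a ^ k : SpecialLinearGroup (Fin 2) K) : Matrix (Fin 2) (Fin 2) K).mulVec (φ w).toAdd := by
      intro k
      induction k with
      | zero =>
        intro w h
        rw [pow_zero a, mulVec_one']
        exact congrArg (fun z : ↥(bW p E) => (φ z).toAdd) (Subtype.ext (by simp))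
      | succ k ih =>
        intro w h
        rw [pow_succ' a, mulVec_mul, ← ih w (pow_mem hxW k), ← ha]
        exact congrArg (fun z : ↥(bW p E) => (φ z).toAdd) (Subtype.ext (by simp [pow_succ', mul_assoc]))
    have han : a ^ orderOf x = 1 := by
      refine Subtype.ext (Matrix.ext_of_mulVec_single fun i => ?_)
      obtain ⟨w, hw⟩ := hφ (Multiplicative.ofAdd (Pi.single i 1))
      rw [show (Pi.single i 1 : Fin 2 → K) = (φ w).toAdd by rw [hw, toAdd_ofAdd],
        ← hpow (orderOf x) w (by rw [pow_orderOf_eq_one]; exact one_mem _), mulVec_one']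
      exact congrArg (fun z : ↥(bW p E) => (φ z).toAdd) (Subtype.ext (by simp [pow_orderOf_eq_one]))
    have hac := mem_commutator_of_coprime han hcop
    rw [← hρ] at hac
    obtain ⟨e, rfl⟩ := hac
    refine mem_sup_of_stable hG hE e.2 hxE hxW fun w hw => ?_
    have h1 : φ (⟨_, conj_mem' (le_normalizer_bW hE (inv_mem e.2)) (conj_mem' hxW hw)⟩ *
        (⟨w, hw⟩ : ↥(bW p E))⁻¹) = 1 := by
      rw [map_mul, map_inv, mul_inv_eq_one]
      refine Multiplicative.toAdd.injective ((hρφ e⁻¹ ⟨_, conj_mem' hxW hw⟩).trans ?_)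
      rw [ha ⟨w, hw⟩, ← mulVec_mul, map_inv, inv_mul_cancel, mulVec_one']
    have h2 := (hφker _).mp h1
    rw [show (e : G)⁻¹ * x * w * ((e : G)⁻¹ * x)⁻¹ * w⁻¹ =
      (e : G)⁻¹ * (x * w * x⁻¹) * (e : G)⁻¹⁻¹ * w⁻¹ by group]
    exact h2
  · subst hp
    obtain ⟨φ, ρ, hev, hφker, hρ, hρφ⟩ := exists_coords_alt hG hE hact
    obtain ⟨π, hπ⟩ := exists_perm_of_normalizer hG hE hev hφker hρ hρφ hxE
    have hsign : Equiv.Perm.sign π = 1 := by
      rcases Nat.lt_or_ge m 1 with hm | hm
      · obtain rfl : m = 0 := by omega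
        rw [show π = 1 from Equiv.ext fun i => Fin.ext (by have := (π i).isLt; have := ((1 : Equiv.Perm (Fin (2 * 0 + 1))) i).isLt; omega), map_one]
      have hiter : ∀ (k : ℕ) (w : ↥(bW 2 E)) (h : x ^ k ∈ Subgroup.normalizer (bW 2 E : Set G)),
          (φ ⟨x ^ k * w * (x ^ k)⁻¹, conj_mem' h w.2⟩).toAdd = AltNorm.act (π ^ k) (φ w).toAdd := by
        intro k
        induction k with
        | zero =>
          intro w h
          rw [pow_zero π]
          exact (congrArg (fun z : ↥(bW 2 E) => (φ z).toAdd) (Subtype.ext (by simp))).trans rfl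
        | succ k ih =>
          intro w h
          rw [show AltNorm.act (π ^ (k + 1)) (φ w).toAdd = AltNorm.act π (AltNorm.act (π ^ k) (φ w).toAdd)
            from funext fun i => by simp [AltNorm.act, pow_succ'],
            ← ih w (pow_mem hxW k), ← hπ]
          exact congrArg (fun z : ↥(bW 2 E) => (φ z).toAdd) (Subtype.ext (by simp [pow_succ', mul_assoc]))
      have hfaith : ∀ τ : Equiv.Perm (Fin (2 * m + 1)),
          (∀ v, ∑ i, v i = 0 → AltNorm.act τ v = v) → τ = 1 := by
        intro τ hτ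
        refine Equiv.ext fun i => ?_
        by_contra hne
        rw [Equiv.Perm.one_apply] at hne
        obtain ⟨k, hk⟩ : ∃ k, k ∈ ((Finset.univ : Finset (Fin (2 * m + 1))).erase i).erase (τ i) := by
          refine Finset.card_pos.mp ?_
          rw [Finset.card_erase_of_mem (Finset.mem_erase.mpr ⟨hne, Finset.mem_univ _⟩),
            Finset.card_erase_of_mem (Finset.mem_univ _), Finset.card_univ, Fintype.card_fin]
          omega
        rw [Finset.mem_erase, Finset.mem_erase] at hk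
        have h := hτ (AltNorm.vec {i, k}) ((AltNorm.even_iff _).mpr
          (by rw [Finset.card_pair hk.2.1.symm]; exact even_two))
        rw [AltNorm.act_vec] at h
        have h2 : τ i ∈ ({i, k} : Finset (Fin (2 * m + 1))) := by
          rw [← AltNorm.vec_injective h]
          exact Finset.mem_map.mpr ⟨i, Finset.mem_insert_self i _, rfl⟩
        rw [Finset.mem_insert, Finset.mem_singleton] at h2
        rcases h2 with h2 | h2
        · exact hne h2
        · exact hk.1 h2.symm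
      have hπn : π ^ orderOf x = 1 := hfaith _ fun v hv => by
        obtain ⟨w, rfl⟩ := (hev v).mpr hv
        rw [← hiter (orderOf x) w (by rw [pow_orderOf_eq_one]; exact one_mem _)]
        exact congrArg (fun z : ↥(bW 2 E) => (φ z).toAdd) (Subtype.ext (by simp [pow_orderOf_eq_one]))
      have h := congrArg Equiv.Perm.sign hπn
      rw [map_pow, map_one] at h
      rcases Int.units_eq_one_or (Equiv.Perm.sign π) with h1 | h1
      · exact h1
      · rw [h1, Odd.neg_one_pow (Nat.coprime_two_right.mp hcop)] at h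
        exact absurd h (by decide)
    have hmem : π ∈ ρ.range := by rw [hρ]; exact Equiv.Perm.mem_alternatingGroup.mpr hsign
    obtain ⟨e, rfl⟩ := hmem
    refine mem_sup_of_stable hG hE e.2 hxE hxW fun w hw => ?_
    have h1 : φ (⟨_, conj_mem' (le_normalizer_bW hE (inv_mem e.2)) (conj_mem' hxW hw)⟩ *
        (⟨w, hw⟩ : ↥(bW 2 E))⁻¹) = 1 := by
      rw [map_mul, map_inv, mul_inv_eq_one]
      refine Multiplicative.toAdd.injective (funext fun i => (hρφ e⁻¹ ⟨_, conj_mem' hxW hw⟩ i).trans ?_)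
      rw [map_inv, inv_inv, hπ ⟨w, hw⟩]
      show (φ ⟨w, hw⟩).toAdd ((ρ e)⁻¹ (ρ e i)) = _
      simp
    have h2 := (hφker _).mp h1
    rw [show (e : G)⁻¹ * x * w * ((e : G)⁻¹ * x)⁻¹ * w⁻¹ =
      (e : G)⁻¹ * (x * w * x⁻¹) * (e : G)⁻¹⁻¹ * w⁻¹ by group]
    exact h2

end CfsgLib.BlockPair
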