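import Cfsg.Agent.Lib.BlockPair.Module

/-!
# A large block lies in every block normalizing it with the same module
-/

set_option autoImplicit false
set_option linter.unusedSectionVars false
set_option linter.style.haveILetI false

open Matrix
open scoped MatrixGroups commutatorElement

namespace CfsgLib.BlockPair

open CfsgLib.LocalEven CfsgLib.LocalEven.BBlock CfsgLib.BlockNorm

variable {G : Type*} [Group G] [Finite G] {p : ℕ} [Fact p.Prime]

/-- The natural module is that of `SL₂(2)`, `SL₂(3)` or `A₃`. -/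
def IsSmall (p : ℕ) (E : Subgroup G) : Prop := uCard p E = p * p ∧ (p = 2 ∨ p = 3)

/-- If every element of `E` of order prime to `p` lies in `F (Q)`, then `E ≤ F`. -/
theorem le_of_le_mul {E F : Subgroup G} (hE : IsBlock p E) (hEF : E ≤ Subgroup.normalizer (F : Set G))
    (h : ∀ x ∈ E, ∃ i, i ∈ E ∧ i ∈ F ∧ i⁻¹ * x ∈ bQ p E) : E ≤ F := by
  have hle : E ≤ E ⊓ F := residual_induction (res hE) fun x hx hcop => by
    obtain ⟨i, hiE, hiF, hi⟩ := h x hx
    refine mem_of_coprime_sup (pCoreOf_isPGroup p E) (fun q hq => mem_normalizer_of_le fun y hy =>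
      Subgroup.mem_inf.mpr ⟨E.mul_mem (E.mul_mem (bQ_le p E hq) (Subgroup.mem_inf.mp hy).1)
        (E.inv_mem (bQ_le p E hq)),
        conj_mem' (hEF (bQ_le p E hq)) (Subgroup.mem_inf.mp hy).2⟩) ?_ hcop
    rw [show x = i * (i⁻¹ * x) by group]
    exact mul_mem (Subgroup.mem_sup_left ⟨hiE, hiF⟩) (Subgroup.mem_sup_right hi)
  exact fun x hx => (hle hx).2

omit [Finite G] [Fact p.Prime] in
private theorem card_even_three :
    (Finset.univ.filter fun v : Fin (2 * 1 + 1) → ZMod 2 => ∑ i, v i = 0).card = 2 * 2 := by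
  decide

variable (hG : Subgroup.centralizer (Cfsg.pCore p G : Set G) ≤ Cfsg.pCore p G)

include hG

theorem le_of_not_small {E F : Subgroup G} (hE : IsBlock p E) (hF : IsBlock p F)
    (hEF : E ≤ Subgroup.normalizer (F : Set G)) (hFE : F ≤ Subgroup.normalizer (E : Set G))
    (hW : bW p F = bW p E) (hns : ¬ IsSmall p E) : E ≤ F := by
  classical
  have hFW : F ≤ Subgroup.normalizer (bW p E : Set G) := hW ▸ le_normalizer_bW hF
  have hfix := fixed_eq hG hE hF hEF hW
  have hfix' : bW p E ⊓ Subgroup.centralizer (E : Set G) ≤ Subgroup.centralizer (F : Set G) := by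
    have h := fixed_eq hG hF hE hFE hW.symm
    rwa [hW] at h
  have hcomm : ∀ x ∈ E, ∀ y ∈ F, x * y * x⁻¹ * y⁻¹ ∈ E ∧ x * y * x⁻¹ * y⁻¹ ∈ F := fun x hx y hy =>
    ⟨by rw [show x * y * x⁻¹ * y⁻¹ = x * (y * x⁻¹ * y⁻¹) by group]
        exact mul_mem hx (conj_mem' (hFE hy) (inv_mem hx)),
      mul_mem (conj_mem' (hEF hx) hy) (inv_mem hy)⟩
  obtain ⟨T, -, -, -, -, hcase⟩ := id hE
  rcases hcase with ⟨K, iK, iKt, n, hn, hiso, hact, -⟩ | ⟨hp, m, hiso, hact, -⟩
  · -- linear kind
    obtain ⟨φ, ρ, hφ, hφker, hρ, hρker, hφeq⟩ := exists_coords_sl2 hG hE hiso hact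
    have hn0 : n ≠ 0 := by
      intro h0
      rw [h0, pow_zero] at hn
      exact (Fintype.one_lt_card (α := K)).ne' hn
    rcases le_or_gt 4 (Fintype.card K) with h4 | h4
    swap
    · exfalso
      refine hns ⟨?_, ?_⟩
      · rw [uCard_eq φ hφker, MonoidHom.range_eq_top.mpr hφ, Subgroup.card_top,
          Nat.card_congr Multiplicative.toAdd, Nat.card_eq_fintype_card, Fintype.card_fun, hn,
          Fintype.card_fin]
        have hp2 := (Fact.out : p.Prime).two_le
        have hn1 : n = 1 := by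
          by_contra hn1
          have h22 : 2 ^ 2 ≤ p ^ n := (Nat.pow_le_pow_left hp2 2).trans
            (Nat.pow_le_pow_right (by omega) (by omega))
          omega
        rw [hn1, pow_one, pow_two]
      · have hp2 := (Fact.out : p.Prime).two_le
        have hle : p ≤ p ^ n := Nat.le_self_pow hn0 p
        omega
    have htop := commutator_eq_top h4
    have hsurj : Function.Surjective ρ := MonoidHom.range_eq_top.mp (hρ.trans htop)
    let N : Subgroup (SpecialLinearGroup (Fin 2) K) := (F.subgroupOf E).map ρ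
    haveI hFn : (F.subgroupOf E).Normal := ⟨fun i hi g => Subgroup.mem_subgroupOf.mpr (conj_mem' (hEF g.2) hi)⟩
    haveI : N.Normal := Subgroup.Normal.map hFn ρ hsurj
    rcases CfsgLib.Linear.SL_normal_le_center_or_eq_top (Or.inr
      (CfsgLib.Linear.exists_sq_ne_one_of_four_le_card (by rwa [Nat.card_eq_fintype_card]))) N with
      hc | ht
    swap
    · refine le_of_le_mul hE hEF fun x hx => ?_
      obtain ⟨i, hi, hix⟩ : ρ ⟨x, hx⟩ ∈ N := ht ▸ Subgroup.mem_top _
      refine ⟨i, i.2, hi, ?_⟩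
      refine (hρker (i⁻¹ * ⟨x, hx⟩)).mp ?_
      rw [map_mul, map_inv, hix, inv_mul_cancel]
    -- `[E, F]` is central modulo `O_p(E)`
    exfalso
    have hQ : ∀ x ∈ E, ∀ y ∈ F, x * y * x⁻¹ * y⁻¹ ∈ bQ p E := by
      intro x hx y hy
      have hcen : ∀ x' : ↥E, ρ ⟨_, (hcomm x' x'.2 y hy).1⟩ ∈
          Subgroup.center (SpecialLinearGroup (Fin 2) K) := fun x' =>
        hc ⟨⟨_, (hcomm x' x'.2 y hy).1⟩, (hcomm x' x'.2 y hy).2, rfl⟩
      let χ : ↥E →* ↥(Subgroup.center (SpecialLinearGroup (Fin 2) K)) :=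
        { toFun := fun x' => ⟨ρ ⟨_, (hcomm x' x'.2 y hy).1⟩, hcen x'⟩
          map_one' := Subtype.ext (by
            show ρ _ = 1
            rw [← map_one ρ]
            exact congrArg ρ (Subtype.ext (by simp)))
          map_mul' := fun a b => Subtype.ext (by
            show ρ _ = ρ _ * ρ _
            have e : (⟨_, (hcomm _ (a * b).2 y hy).1⟩ : ↥E) =
                a * ⟨_, (hcomm b b.2 y hy).1⟩ * a⁻¹ * ⟨_, (hcomm a a.2 y hy).1⟩ := Subtype.ext (by
              simp only [Subgroup.coe_mul, Subgroup.coe_inv]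
              group)
            have hb := Subgroup.mem_center_iff.mp (hcen b) (ρ a)
            rw [e, map_mul, map_mul, map_mul, hb, mul_assoc (ρ _) (ρ a), ← map_mul ρ a, mul_inv_cancel,
              map_one, mul_one]
            exact (Subgroup.mem_center_iff.mp (hcen a) _)) }
      refine (hρker ⟨_, (hcomm x hx y hy).1⟩).mp ?_
      suffices h : χ ⟨x, hx⟩ = 1 from congrArg Subtype.val h
      have hmem : ρ ⟨x, hx⟩ ∈ (commutator ↥E).map ρ := by
        rw [commutator_def, Subgroup.map_commutator, ← MonoidHom.range_eq_map,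
          MonoidHom.range_eq_top.mpr hsurj, ← commutator_def, htop]
        exact Subgroup.mem_top _
      obtain ⟨x', hx', hxx⟩ := hmem
      letI : CommGroup ↥(Subgroup.center (SpecialLinearGroup (Fin 2) K)) :=
        { (inferInstance : Group ↥(Subgroup.center (SpecialLinearGroup (Fin 2) K))) with
          mul_comm := fun a b => Subtype.ext (Subgroup.mem_center_iff.mp b.2 a) }
      have h1 : χ x' = 1 := Abelianization.commutator_subset_ker χ hx'
      have hq : ((x'⁻¹ * ⟨x, hx⟩ : ↥E) : G) ∈ bQ p E :=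
        (hρker _).mp (by rw [map_mul, map_inv, hxx, inv_mul_cancel])
      have h2 : χ (x'⁻¹ * ⟨x, hx⟩) = 1 := by
        refine Subtype.ext ((hρker _).mpr ?_)
        show ((x'⁻¹ * ⟨x, hx⟩ : ↥E) : G) * y * ((x'⁻¹ * ⟨x, hx⟩ : ↥E) : G)⁻¹ * y⁻¹ ∈ bQ p E
        set q := ((x'⁻¹ * ⟨x, hx⟩ : ↥E) : G)
        rw [show q * y * q⁻¹ * y⁻¹ = q * (y * q⁻¹ * y⁻¹) by group]
        exact mul_mem hq (conj_mem' (normalizer_le_normalizer_pCoreOf E (hFE hy)) (inv_mem hq))
      rw [← mul_inv_cancel_left x' ⟨x, hx⟩, map_mul, h1, one_mul]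
      exact h2
    -- so `F` acts by scalars
    choose l hl using hφ
    have hscal : ∀ y ∈ F, ∀ w : ↥(bW p E), ∀ w' : ↥(bW p E),
        (w' : G) = y * w * y⁻¹ → (φ w).toAdd 1 = 0 → (φ w').toAdd 1 = 0 := by
      intro y hy w w' hw' h0
      have hwd : ∀ a b : ↥(bW p E), φ a = φ b →
          φ ⟨y * a * y⁻¹, conj_mem' (hFW hy) a.2⟩ = φ ⟨y * b * y⁻¹, conj_mem' (hFW hy) b.2⟩ := by
        intro a b h
        refine inv_mul_eq_one.mp ?_
        rw [← map_inv, ← map_mul]
        refine (hφker _).mpr ?_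
        have hd : ((a⁻¹ * b : ↥(bW p E)) : G) ∈ Subgroup.centralizer (E : Set G) :=
          (hφker _).mp (by rw [map_mul, map_inv, h, inv_mul_cancel])
        show (y * a * y⁻¹)⁻¹ * (y * b * y⁻¹) ∈ _
        rw [show (y * a * y⁻¹)⁻¹ * (y * b * y⁻¹) = y * ((a : G)⁻¹ * b) * y⁻¹ by group]
        have hd' : (a : G)⁻¹ * b ∈ Subgroup.centralizer (F : Set G) := hfix' ⟨(a⁻¹ * b).2, hd⟩
        rw [hd' y hy, mul_inv_cancel_right]
        exact hd
      let A : (Fin 2 → K) →+ (Fin 2 → K) := AddMonoidHom.mk'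
        (fun u => (φ ⟨y * l (Multiplicative.ofAdd u) * y⁻¹,
          conj_mem' (hFW hy) (l (Multiplicative.ofAdd u)).2⟩).toAdd)
        fun u v => by
          rw [hwd (l (Multiplicative.ofAdd (u + v))) (l (Multiplicative.ofAdd u) * l (Multiplicative.ofAdd v))
            (by rw [map_mul, hl, hl, hl, ofAdd_add]), ← toAdd_mul, ← map_mul]
          congr 2
          exact Subtype.ext (by simp [mul_assoc])
      have hA : ∀ a : ↥(bW p E),
          (φ ⟨y * a * y⁻¹, conj_mem' (hFW hy) a.2⟩).toAdd = A (φ a).toAdd := fun a =>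
        congrArg Multiplicative.toAdd (hwd a _ (by rw [hl, ofAdd_toAdd]))
      obtain ⟨k, hk⟩ := CfsgLib.BlockNorm.exists_scalar_of_commute A fun g u => by
        obtain ⟨x, rfl⟩ := hsurj g
        obtain ⟨a, rfl⟩ : ∃ a, (φ a).toAdd = u := ⟨l (Multiplicative.ofAdd u), by rw [hl, toAdd_ofAdd]⟩
        rw [← hφeq, ← hA, ← hA, ← hφeq]
        set s := (x : G) * y * (x : G)⁻¹ * y⁻¹ with hs
        have hsQ : s ∈ bQ p E := hQ x x.2 y hy
        have hb : y * ((x : G) * a * (x : G)⁻¹) * y⁻¹ ∈ bW p E :=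
          conj_mem' (hFW hy) (conj_mem' (le_normalizer_bW hE x.2) a.2)
        refine congrArg (fun z => (φ z).toAdd) (Subtype.ext ?_)
        show y * ((x : G) * a * (x : G)⁻¹) * y⁻¹ = (x : G) * (y * a * y⁻¹) * (x : G)⁻¹
        calc y * ((x : G) * a * (x : G)⁻¹) * y⁻¹
            = s * (y * ((x : G) * a * (x : G)⁻¹) * y⁻¹) * s⁻¹ := by
              rw [← bQ_le_centralizer_bW hE hG hsQ _ hb, mul_inv_cancel_right]
          _ = _ := by rw [hs]; group
      have : w' = ⟨y * w * y⁻¹, conj_mem' (hFW hy) w.2⟩ := Subtype.ext hw'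
      rw [this, hA, hk, Pi.smul_apply, h0, smul_zero]
    let L : Subgroup G := (Subgroup.comap φ
      { carrier := {u | u.toAdd 1 = 0}
        one_mem' := rfl
        mul_mem' := fun {a b} ha hb => by
          show a.toAdd 1 + b.toAdd 1 = 0
          rw [ha, hb, add_zero]
        inv_mem' := fun {a} ha => by
          show -(a.toAdd 1) = 0
          rw [ha, neg_zero] }).map (bW p E).subtype
    have hLW : L ≤ bW p E := Subgroup.map_subtype_le _
    have hLF : F ≤ Subgroup.normalizer (L : Set G) := fun y hy => mem_normalizer_of_le fun u hu => by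
      obtain ⟨w, hw, rfl⟩ := hu
      exact ⟨⟨y * w * y⁻¹, conj_mem' (hFW hy) w.2⟩, hscal y hy w _ rfl hw, rfl⟩
    have hLne : ¬ L ≤ Subgroup.centralizer (F : Set G) := by
      intro h
      have h1 : (l (Multiplicative.ofAdd ![1, 0]) : G) ∈ L :=
        ⟨l (Multiplicative.ofAdd ![1, 0]), by
          show (φ _).toAdd 1 = 0
          rw [hl]; simp, rfl⟩
      have h2 := (hφker _).mpr (hfix ⟨(l (Multiplicative.ofAdd ![1, 0])).2, h h1⟩)
      rw [hl] at h2
      have h3 := congrFun (congrArg Multiplicative.toAdd h2) 0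
      simp at h3
    have hLtop := irredW hF hG (hW.symm ▸ hLW) hLF hLne
    rw [hW] at hLtop
    obtain ⟨w, hw, hwe⟩ := hLtop.ge (l (Multiplicative.ofAdd ![0, 1])).2
    have hw' : (φ w).toAdd 1 = 0 := hw
    rw [Subtype.ext hwe, hl] at hw'
    simp at hw'
  · -- alternating kind
    subst hp
    obtain ⟨φ, ρ, hφ, hφker, hρ, hφeq⟩ := exists_coords_alt hG hE hact
    rcases Nat.lt_or_ge m 2 with hm | hm
    · rcases Nat.eq_zero_or_pos m with rfl | hm0
      · exfalso
        refine bW_not_le_centralizer hE hG fun w hw => (hφker ⟨w, hw⟩).mp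
          (Multiplicative.toAdd.injective (funext fun i => ?_))
        have h := (hφ _).mp ⟨⟨w, hw⟩, rfl⟩
        have hsub : Subsingleton (Fin (2 * 0 + 1)) := ⟨fun a b => Fin.ext (by omega)⟩
        rw [Finset.sum_eq_single_of_mem i (Finset.mem_univ i) fun j _ hj =>
          absurd (Subsingleton.elim j i) hj] at h
        exact h
      · exfalso
        obtain rfl : m = 1 := by omega
        refine hns ⟨?_, Or.inl rfl⟩
        rw [uCard_eq φ hφker]
        have hset : ((φ.range : Subgroup _) : Set (Multiplicative (Fin (2 * 1 + 1) → ZMod 2))) =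
            {u | ∑ i, u.toAdd i = 0} := by
          ext u
          exact ⟨fun ⟨w, hw⟩ => (hφ _).mp ⟨w, by rw [hw]⟩, fun hu => by
            obtain ⟨w, hw⟩ := (hφ _).mpr hu
            exact ⟨w, Multiplicative.toAdd.injective hw⟩⟩
        show Nat.card ((φ.range : Subgroup _) : Set (Multiplicative (Fin (2 * 1 + 1) → ZMod 2))) = _
        rw [hset, Nat.card_coe_set_eq]
        rw [show {u : Multiplicative (Fin (2 * 1 + 1) → ZMod 2) | ∑ i, u.toAdd i = 0} =
          Multiplicative.ofAdd '' {v | ∑ i, v i = 0} by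
            ext u
            exact ⟨fun h => ⟨u.toAdd, h, rfl⟩, by rintro ⟨v, hv, rfl⟩; exact hv⟩,
          Set.ncard_image_of_injective _ Multiplicative.ofAdd.injective, ← Nat.card_coe_set_eq,
          show ({v | ∑ i, v i = 0} : Set (Fin (2 * 1 + 1) → ZMod 2)) =
            ↑(Finset.univ.filter fun v : Fin (2 * 1 + 1) → ZMod 2 => ∑ i, v i = 0) by simp,
          Nat.card_coe_set_eq, Set.ncard_coe_finset]
        convert card_even_three
    have hsimple : IsSimpleGroup ↥(alternatingGroup (Fin (2 * m + 1))) := by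
      refine alternatingGroup.isSimpleGroup ?_
      rw [Nat.card_eq_fintype_card, Fintype.card_fin]
      omega
    let π : ↥E →* ↥(alternatingGroup (Fin (2 * m + 1))) :=
      ρ.codRestrict _ fun x => by rw [← hρ]; exact ⟨x, rfl⟩
    have hπ : Function.Surjective π := fun σ => by
      obtain ⟨x, hx⟩ : (σ : Equiv.Perm _) ∈ ρ.range := by rw [hρ]; exact σ.2
      exact ⟨x, Subtype.ext hx⟩
    have hπker : ∀ x : ↥E, π x = 1 → (x : G) ∈ bQ 2 E := fun x hx => by
      have hx' : ρ x = 1 := congrArg Subtype.val hx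
      refine faithfulW hE hG x.2 fun w hw => ?_
      refine (hφker (⟨_, conj_mem' (le_normalizer_bW hE x.2) hw⟩ * (⟨w, hw⟩ : ↥(bW 2 E))⁻¹)).mp ?_
      rw [map_mul, map_inv, mul_inv_eq_one]
      refine Multiplicative.toAdd.injective (funext fun i => ?_)
      rw [hφeq x ⟨w, hw⟩ i, hx', inv_one, Equiv.Perm.one_apply]
    haveI hFn : (F.subgroupOf E).Normal := ⟨fun i hi g => Subgroup.mem_subgroupOf.mpr (conj_mem' (hEF g.2) hi)⟩
    rcases (Subgroup.Normal.map hFn π hπ).eq_bot_or_eq_top with hb | ht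
    swap
    · refine le_of_le_mul hE hEF fun x hx => ?_
      obtain ⟨i, hi, hix⟩ : π ⟨x, hx⟩ ∈ (F.subgroupOf E).map π := ht ▸ Subgroup.mem_top _
      exact ⟨i, i.2, hi, hπker (i⁻¹ * ⟨x, hx⟩) (by rw [map_mul, map_inv, hix, inv_mul_cancel])⟩
    exfalso
    have hQ : ∀ x ∈ E, ∀ y ∈ F, x * y * x⁻¹ * y⁻¹ ∈ bQ 2 E := fun x hx y hy => by
      refine hπker ⟨_, (hcomm x hx y hy).1⟩ ?_
      have : π ⟨_, (hcomm x hx y hy).1⟩ ∈ (F.subgroupOf E).map π := ⟨_, (hcomm x hx y hy).2, rfl⟩
      rwa [hb, Subgroup.mem_bot] at this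
    have htriv : ∀ y ∈ F, y ∈ bQ 2 F := by
      intro y hy
      refine faithfulW hF hG hy ?_
      rw [hW]
      intro w hw
      refine hfix' ⟨(bW 2 E).mul_mem (conj_mem' (hFW hy) hw) ((bW 2 E).inv_mem hw), ?_⟩
      choose l hl using fun v (hv : ∑ i, v i = 0) => (hφ v).mpr hv
      have hwd : ∀ a b : ↥(bW 2 E), φ a = φ b →
          φ ⟨y * a * y⁻¹, conj_mem' (hFW hy) a.2⟩ = φ ⟨y * b * y⁻¹, conj_mem' (hFW hy) b.2⟩ := by
        intro a b h
        refine inv_mul_eq_one.mp ?_
        rw [← map_inv, ← map_mul]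
        refine (hφker _).mpr ?_
        have hd : ((a⁻¹ * b : ↥(bW 2 E)) : G) ∈ Subgroup.centralizer (E : Set G) :=
          (hφker _).mp (by rw [map_mul, map_inv, h, inv_mul_cancel])
        show (y * a * y⁻¹)⁻¹ * (y * b * y⁻¹) ∈ _
        rw [show (y * a * y⁻¹)⁻¹ * (y * b * y⁻¹) = y * ((a : G)⁻¹ * b) * y⁻¹ by group,
          (show (a : G)⁻¹ * b ∈ Subgroup.centralizer (F : Set G) from hfix' ⟨(a⁻¹ * b).2, hd⟩) y hy,
          mul_inv_cancel_right]
        exact hd
      let f : (Fin (2 * m + 1) → ZMod 2) → (Fin (2 * m + 1) → ZMod 2) := fun v =>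
        if hv : ∑ i, v i = 0 then (φ ⟨y * l v hv * y⁻¹, conj_mem' (hFW hy) (l v hv).2⟩).toAdd else 0
      have hf : ∀ a : ↥(bW 2 E),
          (φ ⟨y * a * y⁻¹, conj_mem' (hFW hy) a.2⟩).toAdd = f (φ a).toAdd := fun a => by
        have hev := (hφ _).mp ⟨a, rfl⟩
        simp only [f]
        rw [dif_pos hev]
        exact congrArg Multiplicative.toAdd (hwd a _ (Multiplicative.toAdd.injective (hl _ hev).symm))
      have key := alt_commutant (n := 2 * m + 1) (by omega) ⟨m, rfl⟩ f
        (fun v hv => by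
          obtain ⟨a, rfl⟩ := (hφ v).mpr hv
          rw [← hf]
          exact (hφ _).mp ⟨_, rfl⟩)
        (fun v v' hv hv' => by
          obtain ⟨a, rfl⟩ := (hφ v).mpr hv
          obtain ⟨b, rfl⟩ := (hφ v').mpr hv'
          rw [← toAdd_mul, ← map_mul, ← hf, ← hf, ← hf, ← toAdd_mul, ← map_mul]
          congr 2
          exact Subtype.ext (by simp [mul_assoc]))
        (fun σ hσ v hv => by
          obtain ⟨a, rfl⟩ := (hφ v).mpr hv
          rw [← hρ] at hσ
          obtain ⟨x, rfl⟩ := hσ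
          rw [show (fun i => (φ a).toAdd ((ρ x)⁻¹ i)) =
            (φ ⟨(x : G) * a * (x : G)⁻¹, conj_mem' (le_normalizer_bW hE x.2) a.2⟩).toAdd from
            (funext (hφeq x a)).symm, ← hf, ← hf]
          funext i
          rw [← hφeq x ⟨y * a * y⁻¹, conj_mem' (hFW hy) a.2⟩ i]
          set s := (x : G) * y * (x : G)⁻¹ * y⁻¹ with hs
          have hsQ : s ∈ bQ 2 E := hQ x x.2 y hy
          have hb : y * ((x : G) * a * (x : G)⁻¹) * y⁻¹ ∈ bW 2 E :=
            conj_mem' (hFW hy) (conj_mem' (le_normalizer_bW hE x.2) a.2)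
          refine congrArg (fun z => (φ z).toAdd i) (Subtype.ext ?_)
          show y * ((x : G) * a * (x : G)⁻¹) * y⁻¹ = (x : G) * (y * a * y⁻¹) * (x : G)⁻¹
          calc y * ((x : G) * a * (x : G)⁻¹) * y⁻¹
              = s * (y * ((x : G) * a * (x : G)⁻¹) * y⁻¹) * s⁻¹ := by
                rw [← bQ_le_centralizer_bW hE hG hsQ _ hb, mul_inv_cancel_right]
            _ = _ := by rw [hs]; group)
        (fun v hv h0 => by
          obtain ⟨a, rfl⟩ := (hφ v).mpr hv
          rw [← hf] at h0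
          have h1 := (hφker _).mp (Multiplicative.toAdd.injective h0)
          have h2 : y * (a : G) * y⁻¹ ∈ Subgroup.centralizer (F : Set G) :=
            hfix' ⟨conj_mem' (hFW hy) a.2, h1⟩
          have h3 : y * (a : G) * y⁻¹ = a := by
            have h4 := h2 y hy
            calc y * (a : G) * y⁻¹ = y⁻¹ * (y * (y * (a : G) * y⁻¹)) := by group
              _ = y⁻¹ * (y * (a : G) * y⁻¹ * y) := by rw [h4]
              _ = a := by group
          rw [(hφker a).mpr (h3 ▸ h1)]
          rfl)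
      refine (hφker (⟨_, conj_mem' (hFW hy) hw⟩ * (⟨w, hw⟩ : ↥(bW 2 E))⁻¹)).mp ?_
      rw [map_mul, map_inv, mul_inv_eq_one]
      exact Multiplicative.toAdd.injective ((hf ⟨w, hw⟩).trans (key _ ((hφ _).mp ⟨_, rfl⟩)))
    exact bW_not_le_centralizer hF hG fun w hw f hf => (bV_central (bW_le_bV hF hw) (htriv f hf)).eq.symm

end CfsgLib.BlockPair
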