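import Cfsg.Agent.Lib.BlockPair.Module
import Cfsg.Agent.Lib.BlockPair.Small

/-!
# Blocks with the same small module induce the same automorphisms of it
-/

set_option autoImplicit false
set_option linter.unusedSectionVars false
set_option linter.style.haveILetI false

open Matrix
open scoped MatrixGroups commutatorElement

namespace CfsgLib.BlockPair

open CfsgLib.LocalEven CfsgLib.LocalEven.BBlock CfsgLib.BlockNorm

variable {G : Type*} [Group G] [Finite G] {p : ℕ} [Fact p.Prime]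

/-- An element normalizing `W` and fixing `C_W(E)` induces an additive map of the coordinates. -/
theorem exists_induced {E : Subgroup G} {K : Type*} [AddCommGroup K]
    {φ : ↥(bW p E) →* Multiplicative K} (hφ : Function.Surjective φ)
    (hφker : ∀ w : ↥(bW p E), φ w = 1 ↔ (w : G) ∈ Subgroup.centralizer (E : Set G))
    {y : G} (hyW : y ∈ Subgroup.normalizer (bW p E : Set G))
    (hfix : ∀ d ∈ bW p E, d ∈ Subgroup.centralizer (E : Set G) → y * d * y⁻¹ = d) :
    ∃ A : K →+ K, ∀ a : ↥(bW p E),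
      (φ ⟨y * a * y⁻¹, conj_mem' hyW a.2⟩).toAdd = A (φ a).toAdd := by
  choose l hl using fun u => hφ (Multiplicative.ofAdd u)
  have hwd : ∀ a b : ↥(bW p E), φ a = φ b →
      φ ⟨y * a * y⁻¹, conj_mem' hyW a.2⟩ = φ ⟨y * b * y⁻¹, conj_mem' hyW b.2⟩ := by
    intro a b h
    refine inv_mul_eq_one.mp ?_
    rw [← map_inv, ← map_mul]
    refine (hφker _).mpr ?_
    have hd : ((a⁻¹ * b : ↥(bW p E)) : G) ∈ Subgroup.centralizer (E : Set G) :=
      (hφker _).mp (by rw [map_mul, map_inv, h, inv_mul_cancel])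
    show (y * a * y⁻¹)⁻¹ * (y * b * y⁻¹) ∈ _
    rw [show (y * a * y⁻¹)⁻¹ * (y * b * y⁻¹) = y * ((a : G)⁻¹ * b) * y⁻¹ by group,
      show y * ((a : G)⁻¹ * b) * y⁻¹ = (a : G)⁻¹ * b from hfix _ (a⁻¹ * b).2 hd]
    exact hd
  refine ⟨AddMonoidHom.mk' (fun u => (φ ⟨y * l u * y⁻¹, conj_mem' hyW (l u).2⟩).toAdd) fun u v => ?_,
    fun a => congrArg Multiplicative.toAdd (hwd a _ (by rw [hl, ofAdd_toAdd]))⟩
  rw [hwd (l (u + v)) (l u * l v) (by rw [map_mul, hl, hl, hl, ofAdd_add]), ← toAdd_mul, ← map_mul]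
  congr 2
  exact Subtype.ext (by simp [mul_assoc])

variable (hG : Subgroup.centralizer (Cfsg.pCore p G : Set G) ≤ Cfsg.pCore p G)

include hG

/-- Elements of `E C(W)` as products. -/
theorem exists_of_mem_sup {E : Subgroup G} (hE : IsBlock p E) {g : G}
    (hg : g ∈ E ⊔ Subgroup.centralizer (bW p E : Set G)) :
    ∃ x ∈ E, x⁻¹ * g ∈ Subgroup.centralizer (bW p E : Set G) := by
  rw [← SetLike.mem_coe, Subgroup.coe_mul_of_left_le_normalizer_right E _ (fun x hx =>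
    mem_normalizer_of_le fun y hy => conj_centralizer_mem (le_normalizer_bW hE hx) hy)] at hg
  obtain ⟨x, hx, c, hc, rfl⟩ := hg
  exact ⟨x, hx, by simpa using hc⟩

/-- If `y` acts on `W / C_W(E)` like an element of `E`, it lies in `E C(W)`. -/
theorem mem_sup_of_stable {E : Subgroup G} (hE : IsBlock p E) {x y : G} (hx : x ∈ E)
    (hyE : y ∈ Subgroup.normalizer (E : Set G)) (hyW : y ∈ Subgroup.normalizer (bW p E : Set G))
    (h : ∀ w ∈ bW p E,
      x⁻¹ * y * w * (x⁻¹ * y)⁻¹ * w⁻¹ ∈ Subgroup.centralizer (E : Set G)) :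
    y ∈ E ⊔ Subgroup.centralizer (bW p E : Set G) := by
  have hc := centralizes_of_stable hG hE (mul_mem (inv_mem (Subgroup.le_normalizer hx)) hyE)
    (mul_mem (inv_mem (le_normalizer_bW hE hx)) hyW) h
  rw [show y = x * (x⁻¹ * y) by group]
  exact mul_mem (Subgroup.mem_sup_left hx) (Subgroup.mem_sup_right hc)

omit [Fact p.Prime] hG in
theorem le_sup_two [Fact (Nat.Prime 2)]
    (hG : Subgroup.centralizer (Cfsg.pCore 2 G : Set G) ≤ Cfsg.pCore 2 G) {E F : Subgroup G}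
    (hE : IsBlock 2 E) (hF : IsBlock 2 F) (hFE : F ≤ Subgroup.normalizer (E : Set G))
    (hW : bW 2 F = bW 2 E) (hu : uCard 2 E = 4) :
    F ≤ E ⊔ Subgroup.centralizer (bW 2 E : Set G) := by
  classical
  set W := bW 2 E with hWdef
  have hEW := le_normalizer_bW hE
  have hFW : F ≤ Subgroup.normalizer (W : Set G) := hW ▸ le_normalizer_bW hF
  have hD : ∀ d ∈ W, d ∈ Subgroup.centralizer (E : Set G) →
      d ∈ Subgroup.centralizer (F : Set G) := fun d hd hd' => by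
    refine fixed_eq hG hF hE hFE hW.symm ⟨?_, hd'⟩
    rw [hW]; exact hd
  let D : Subgroup ↥W := (W ⊓ Subgroup.centralizer (E : Set G)).subgroupOf W
  have hcomm : ∀ a b : ↥W, a * b = b * a := fun a b =>
    Subtype.ext (bV_comm (bW_le_bV hE a.2) (bW_le_bV hE b.2)).eq
  haveI : D.Normal := ⟨fun a ha g => by rwa [hcomm g a, mul_inv_cancel_right]⟩
  let Nf : Subgroup G := Subgroup.normalizer (W : Set G) ⊓
    Subgroup.centralizer ((W ⊓ Subgroup.centralizer (E : Set G) : Subgroup G) : Set G)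
  let f : ↥Nf → (↥W →* ↥W) := fun g =>
    { toFun := fun w => ⟨(g : G) * w * (g : G)⁻¹, conj_mem' g.2.1 w.2⟩
      map_one' := Subtype.ext (by simp)
      map_mul' := fun a b => Subtype.ext (by simp [mul_assoc]) }
  have hf : ∀ g : ↥Nf, D ≤ D.comap (f g) := fun g a ha => by
    show f g a ∈ D
    rwa [show f g a = a from Subtype.ext (by
      show (g : G) * a * (g : G)⁻¹ = a
      rw [← g.2.2 a ha, mul_inv_cancel_right])]
  let Λ : ↥Nf →* Monoid.End (↥W ⧸ D) :=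
    { toFun := fun g => QuotientGroup.map D D (f g) (hf g)
      map_one' := DFunLike.ext _ _ fun u => by
        induction u using QuotientGroup.induction_on with
        | H a =>
          show ((f 1 a : ↥W) : ↥W ⧸ D) = (a : ↥W ⧸ D)
          exact congrArg _ (Subtype.ext (by simp [f]))
      map_mul' := fun g h => DFunLike.ext _ _ fun u => by
        induction u using QuotientGroup.induction_on with
        | H a =>
          show ((f (g * h) a : ↥W) : ↥W ⧸ D) = ((f g (f h a) : ↥W) : ↥W ⧸ D)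
          exact congrArg _ (Subtype.ext (by simp [f, mul_assoc])) }
  have hΛ : ∀ g : ↥Nf, Λ g = 1 → ∀ w ∈ W,
      (g : G) * w * (g : G)⁻¹ * w⁻¹ ∈ Subgroup.centralizer (E : Set G) := by
    intro g hg w hw
    have h : ((f g ⟨w, hw⟩ : ↥W) : ↥W ⧸ D) = ((⟨w, hw⟩ : ↥W) : ↥W ⧸ D) :=
      DFunLike.congr_fun hg ((⟨w, hw⟩ : ↥W) : ↥W ⧸ D)
    have h2 := QuotientGroup.eq.mp h.symm
    rw [hcomm] at h2
    exact h2.2
  have hcard : Nat.card (↥W ⧸ D) = 4 := by
    rw [← Subgroup.index_eq_card]; exact hu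
  have hsq : ∀ u : ↥W ⧸ D, u * u = 1 := fun u => by
    induction u using QuotientGroup.induction_on with
    | H a =>
      rw [← QuotientGroup.mk_mul, show a * a = 1 from Subtype.ext (by
        show (a : G) * a = 1
        rw [← pow_two]; exact (bV_isEA 2 E).2 _ (bW_le_bV hE a.2)), QuotientGroup.mk_one]
  have hENf : ∀ x ∈ E, x ∈ Nf := fun x hx => ⟨hEW hx, fun d hd => (hd.2 x hx).symm⟩
  have hFNf : ∀ y ∈ F, y ∈ Nf := fun y hy =>
    ⟨hFW hy, fun d hd => (hD d hd.1 hd.2 y hy).symm⟩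
  have hpow : ∀ g : ↥Nf, Λ g ^ orderOf (g : G) = 1 := fun g => by
    rw [← map_pow, show g ^ orderOf (g : G) = 1 from Subtype.ext (pow_orderOf_eq_one _), map_one]
  obtain ⟨x, hx, hxcop, hxne⟩ : ∃ x, ∃ hx : x ∈ E, (orderOf x).Coprime 2 ∧ Λ ⟨x, hENf x hx⟩ ≠ 1 := by
    by_contra hno
    refine bW_not_le_centralizer hE hG (Subgroup.le_centralizer_iff.mp ?_)
    refine residual_induction (res hE) fun x hx hcop => ?_
    exact centralizes_of_stable hG hE (Subgroup.le_normalizer hx) (hEW hx)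
      (hΛ ⟨x, hENf x hx⟩ (not_not.mp fun h => hno ⟨x, hx, hcop, h⟩))
  refine residual_induction (res hF) fun y hy hcop => ?_
  obtain ⟨k, hk⟩ := four_power hcard hsq (Nat.coprime_two_right.mp hxcop) (hpow _) hxne
    (Nat.coprime_two_right.mp hcop) (hpow ⟨y, hFNf y hy⟩)
  refine mem_sup_of_stable hG hE (pow_mem hx k) (hFE hy) (hFW hy)
    (hΛ ⟨_, mul_mem (inv_mem (hENf _ (pow_mem hx k))) (hFNf y hy)⟩ ?_)
  rw [show (⟨_, mul_mem (inv_mem (hENf _ (pow_mem hx k))) (hFNf y hy)⟩ : ↥Nf) =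
    ((⟨x, hENf x hx⟩ : ↥Nf) ^ k)⁻¹ * ⟨y, hFNf y hy⟩ from Subtype.ext (by simp), map_mul, hk,
    ← map_pow, ← map_mul, inv_mul_cancel, map_one]

omit [Fact p.Prime] hG in
theorem exists_coords_three [Fact (Nat.Prime 3)]
    (hG : Subgroup.centralizer (Cfsg.pCore 3 G : Set G) ≤ Cfsg.pCore 3 G) {E : Subgroup G}
    (hE : IsBlock 3 E) (hu : uCard 3 E = 9) :
    ∃ (K : Type) (_ : Field K) (_ : Fintype K) (_ : CharP K 3)
      (φ : ↥(bW 3 E) →* Multiplicative (Fin 2 → K)) (ρ : ↥E →* SpecialLinearGroup (Fin 2) K),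
      Fintype.card K = 3 ∧ Function.Surjective φ ∧
      (∀ w : ↥(bW 3 E), φ w = 1 ↔ (w : G) ∈ Subgroup.centralizer (E : Set G)) ∧
      ρ.range = commutator (SpecialLinearGroup (Fin 2) K) ∧
      (∀ x : ↥E, ρ x = 1 ↔ (x : G) ∈ bQ 3 E) ∧
      ∀ (x : ↥E) (w : ↥(bW 3 E)),
        (φ ⟨(x : G) * w * (x : G)⁻¹, conj_mem' (le_normalizer_bW hE x.2) w.2⟩).toAdd =
          (ρ x : Matrix (Fin 2) (Fin 2) K).mulVec (φ w).toAdd := by
  obtain ⟨T, -, -, -, -, hcase⟩ := id hE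
  rcases hcase with ⟨K, iK, iKt, n, hn, hiso, hact, -⟩ | ⟨h32, -⟩
  swap
  · omega
  haveI : CharP K 3 := by
    have h0 := FiniteField.cast_card_eq_zero K
    rw [hn] at h0
    push_cast at h0
    exact (CharP.charP_iff_prime_eq_zero Nat.prime_three).mpr
      (by exact_mod_cast eq_zero_of_pow_eq_zero h0)
  obtain ⟨φ, ρ, hφ, hφker, hρ, hρker, hφeq⟩ := exists_coords_sl2 hG hE hiso hact
  refine ⟨K, iK, iKt, inferInstance, φ, ρ, ?_, hφ, hφker, hρ, hρker, hφeq⟩
  rw [uCard_eq φ hφker, MonoidHom.range_eq_top.mpr hφ, Subgroup.card_top,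
    Nat.card_congr Multiplicative.toAdd, Nat.card_eq_fintype_card, Fintype.card_fun,
    Fintype.card_fin] at hu
  exact Nat.pow_left_injective (by norm_num : 2 ≠ 0) (show _ = 3 ^ 2 from hu)

omit [Fact p.Prime] hG in
theorem le_sup_three [Fact (Nat.Prime 3)]
    (hG : Subgroup.centralizer (Cfsg.pCore 3 G : Set G) ≤ Cfsg.pCore 3 G) {E F : Subgroup G}
    (hE : IsBlock 3 E) (hF : IsBlock 3 F) (hEF : E ≤ Subgroup.normalizer (F : Set G))
    (hFE : F ≤ Subgroup.normalizer (E : Set G))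
    (hW : bW 3 F = bW 3 E) (hu : uCard 3 E = 9) :
    F ≤ E ⊔ Subgroup.centralizer (bW 3 E : Set G) := by
  classical
  have hFW : F ≤ Subgroup.normalizer (bW 3 E : Set G) := hW ▸ le_normalizer_bW hF
  have hfix : ∀ d ∈ bW 3 E, d ∈ Subgroup.centralizer (E : Set G) →
      d ∈ Subgroup.centralizer (F : Set G) := fun d hd hd' => by
    refine fixed_eq hG hF hE hFE hW.symm ⟨?_, hd'⟩
    rw [hW]; exact hd
  have hfix' : ∀ d ∈ bW 3 E, d ∈ Subgroup.centralizer (F : Set G) →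
      d ∈ Subgroup.centralizer (E : Set G) := fun d hd hd' => fixed_eq hG hE hF hEF hW ⟨hd, hd'⟩
  have hu' : uCard 3 F = 9 := by
    rw [← hu, uCard, uCard, hW]
    congr 1
    exact le_antisymm (fun d hd => ⟨hd.1, hfix' d hd.1 hd.2⟩) fun d hd => ⟨hd.1, hfix d hd.1 hd.2⟩
  obtain ⟨K, iK, iKt, iC, φ, ρ, hK, hφ, hφker, hρ, -, hφeq⟩ := exists_coords_three hG hE hu
  obtain ⟨K', iK', iKt', iC', φ', ρ', hK', -, hφker', -, hρker', hφeq'⟩ :=
    exists_coords_three hG hF hu'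
  refine residual_induction (res hF) fun y hy hcop => ?_
  have hyn : ρ' ⟨y, hy⟩ ^ orderOf y = 1 := by
    rw [← map_pow, show (⟨y, hy⟩ : ↥F) ^ orderOf y = 1 from Subtype.ext (pow_orderOf_eq_one y),
      map_one]
  obtain ⟨A, hA⟩ := exists_induced hφ hφker (hFW hy) fun d hd hd' => by
    rw [hfix d hd hd' y hy, mul_inv_cancel_right]
  -- an element inverting `W / C_W(F)` inverts the coordinates
  have hneg : ∀ z : ↥F, ρ' z = -1 → ∀ w : ↥(bW 3 E),
      (φ ⟨(z : G) * w * (z : G)⁻¹, conj_mem' (hFW z.2) w.2⟩).toAdd = -(φ w).toAdd := by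
    intro z hz w
    refine eq_neg_of_add_eq_zero_left ?_
    rw [← toAdd_mul, ← map_mul, ← toAdd_one]
    refine congrArg Multiplicative.toAdd ((hφker _).mpr (hfix' _ (mul_mem (conj_mem' (hFW z.2) w.2) w.2) ?_))
    have hwF : (w : G) ∈ bW 3 F := hW.symm ▸ w.2
    refine (hφker' (⟨_, conj_mem' (le_normalizer_bW hF z.2) hwF⟩ * ⟨w, hwF⟩)).mp
      (Multiplicative.toAdd.injective ?_)
    rw [map_mul, toAdd_mul, hφeq' z ⟨w, hwF⟩, hz, toAdd_one]
    show ((-(1 : Matrix (Fin 2) (Fin 2) K')).mulVec (φ' ⟨w, hwF⟩).toAdd) + _ = 0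
    rw [neg_mulVec, one_mulVec, neg_add_cancel]
  have finish : ∀ g ∈ commutator (SpecialLinearGroup (Fin 2) K),
      (∀ u, (g : Matrix (Fin 2) (Fin 2) K).mulVec u = A u) →
      y ∈ E ⊔ Subgroup.centralizer (bW 3 E : Set G) := by
    intro g hg hgA
    rw [← hρ] at hg
    obtain ⟨x, rfl⟩ := hg
    refine mem_sup_of_stable hG hE x.2 (hFE hy) (hFW hy) fun w hw => ?_
    have hw1 : y * w * y⁻¹ ∈ bW 3 E := conj_mem' (hFW hy) hw
    have h := hφeq x⁻¹ ⟨_, hw1⟩
    rw [hA ⟨w, hw⟩, ← hgA, ← mulVec_mul, map_inv, inv_mul_cancel, mulVec_one'] at h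
    have h2 : φ (⟨_, conj_mem' (le_normalizer_bW hE (inv_mem x.2)) hw1⟩ * (⟨w, hw⟩ : ↥(bW 3 E))⁻¹) =
        1 := by
      rw [map_mul, map_inv, mul_inv_eq_one]
      exact Multiplicative.toAdd.injective h
    have h3 := (hφker _).mp h2
    rw [show (x : G)⁻¹ * y * w * ((x : G)⁻¹ * y)⁻¹ * w⁻¹ =
      (x : G)⁻¹ * (y * w * y⁻¹) * (x : G)⁻¹⁻¹ * w⁻¹ by group]
    exact h3
  rcases sl2_three_cases hK' hyn hcop with h | h | h
  · refine Subgroup.mem_sup_right ?_
    rw [← hW]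
    exact bQ_le_centralizer_bW hF hG ((hρker' _).mp h)
  · refine finish (-1) CfsgLib.BlockNorm.neg_one_mem fun u => ?_
    obtain ⟨w, hw⟩ := hφ (Multiplicative.ofAdd u)
    show (-(1 : Matrix (Fin 2) (Fin 2) K)).mulVec u = A u
    rw [neg_mulVec, one_mulVec, show u = (φ w).toAdd by rw [hw, toAdd_ofAdd], ← hA, hneg ⟨y, hy⟩ h]
  · obtain ⟨g, hg, hgA⟩ := exists_commutator_of_sq_neg hK A fun u => by
      obtain ⟨w, hw⟩ := hφ (Multiplicative.ofAdd u)
      rw [show u = (φ w).toAdd by rw [hw, toAdd_ofAdd], ← hA, ← hA,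
        ← hneg (⟨y, hy⟩ * ⟨y, hy⟩) (by rw [map_mul, h])]
      refine congrArg (fun z => (φ z).toAdd) (Subtype.ext ?_)
      show y * (y * (w : G) * y⁻¹) * y⁻¹ = y * y * (w : G) * (y * y)⁻¹
      group
    exact finish g hg hgA

/-- Blocks with the same small module normalizing each other: `F ≤ E C(W)`. -/
theorem le_sup_of_small {E F : Subgroup G} (hE : IsBlock p E) (hF : IsBlock p F)
    (hEF : E ≤ Subgroup.normalizer (F : Set G)) (hFE : F ≤ Subgroup.normalizer (E : Set G))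
    (hW : bW p F = bW p E) (hu : uCard p E = p * p) (hp : p = 2 ∨ p = 3) :
    F ≤ E ⊔ Subgroup.centralizer (bW p E : Set G) := by
  rcases hp with rfl | rfl
  · exact le_sup_two hG hE hF hFE hW hu
  · exact le_sup_three hG hE hF hEF hFE hW hu

end CfsgLib.BlockPair
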