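import Cfsg.Agent.Lib.BlockPair.CaseI

/-!
# The natural coordinates on `W / C_W(E)`
-/

set_option autoImplicit false
set_option linter.unusedSectionVars false
set_option linter.style.haveILetI false

open Matrix
open scoped MatrixGroups commutatorElement

namespace CfsgLib.BlockPair

open CfsgLib.LocalEven CfsgLib.LocalEven.BBlock CfsgLib.BlockNorm

variable {G : Type*} [Group G] [Finite G] {p : ℕ} [Fact p.Prime]

/-- The order of `W / C_W(E)`. -/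
noncomputable def uCard (p : ℕ) (E : Subgroup G) : ℕ :=
  (bW p E ⊓ Subgroup.centralizer (E : Set G)).relIndex (bW p E)

theorem uCard_eq {E : Subgroup G} {M : Type*} [Group M] (φ : ↥(bW p E) →* M)
    (hker : ∀ w : ↥(bW p E), φ w = 1 ↔ (w : G) ∈ Subgroup.centralizer (E : Set G)) :
    uCard p E = Nat.card φ.range := by
  rw [← Subgroup.index_ker, uCard, Subgroup.relIndex]
  congr 1
  ext w
  rw [Subgroup.mem_subgroupOf, MonoidHom.mem_ker, hker]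
  exact ⟨fun h => h.2, fun h => ⟨w.2, h⟩⟩

variable (hG : Subgroup.centralizer (Cfsg.pCore p G : Set G) ≤ Cfsg.pCore p G)

include hG

/-- An element normalizing `E` and trivial on `W / C_W(E)` centralizes `W`. -/
theorem centralizes_of_stable {E : Subgroup G} (hE : IsBlock p E) {f : G}
    (hfE : f ∈ Subgroup.normalizer (E : Set G)) (hfW : f ∈ Subgroup.normalizer (bW p E : Set G))
    (h : ∀ w ∈ bW p E, f * w * f⁻¹ * w⁻¹ ∈ Subgroup.centralizer (E : Set G)) :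
    f ∈ Subgroup.centralizer (bW p E : Set G) := by
  have hcomm : ∀ a ∈ bW p E, ∀ b ∈ bW p E, Commute a b := fun a ha b hb =>
    bV_comm (bW_le_bV hE ha) (bW_le_bV hE hb)
  have hEW := le_normalizer_bW hE
  -- conjugation by `x` does not change the commutator
  have hinv : ∀ x ∈ E, ∀ w ∈ bW p E,
      f * (x * w * x⁻¹) * f⁻¹ * (x * w * x⁻¹)⁻¹ = f * w * f⁻¹ * w⁻¹ := by
    intro x hx w hw
    set i := x⁻¹ * (f * x * f⁻¹) with hi
    have hiE : i ∈ E := mul_mem (inv_mem hx) (conj_mem' hfE hx)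
    have hiQ : i ∈ bQ p E := by
      refine faithfulW hE hG hiE fun v hv => ?_
      set v0 := f⁻¹ * v * f with hv0
      have hv0W : v0 ∈ bW p E := by simpa [hv0] using conj_mem' (inv_mem hfW) hv
      set d0 := f * v0 * f⁻¹ * v0⁻¹ with hd0
      set d1 := f * (x * v0 * x⁻¹) * f⁻¹ * (x * v0 * x⁻¹)⁻¹ with hd1
      have hd0C := h v0 hv0W
      have hd1C := h _ (conj_mem' (hEW hx) hv0W)
      have e0 : v = d0 * v0 := by rw [hd0, hv0]; group
      have e : i * v * i⁻¹ * v⁻¹ = x⁻¹ * (d1 * (x * v0 * x⁻¹)) * x * v⁻¹ := by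
        rw [hi, hd1, hv0]; group
      rw [e, e0, show x⁻¹ * (d1 * (x * v0 * x⁻¹)) * x * (d0 * v0)⁻¹ =
        (x⁻¹ * d1 * x) * d0⁻¹ by group, show x⁻¹ * d1 * x = d1 by
        rw [mul_assoc, ← hd1C x hx, inv_mul_cancel_left]]
      exact mul_mem hd1C (inv_mem hd0C)
    have hfx : f * x = x * i * f := by rw [hi]; group
    have hfw : f * w * f⁻¹ ∈ bW p E := conj_mem' hfW hw
    have e1 : i * (f * w * f⁻¹) * i⁻¹ = f * w * f⁻¹ := by
      rw [← bQ_le_centralizer_bW hE hG hiQ _ hfw, mul_inv_cancel_right]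
    calc f * (x * w * x⁻¹) * f⁻¹ * (x * w * x⁻¹)⁻¹
        = (f * x) * w * (f * x)⁻¹ * (x * w * x⁻¹)⁻¹ := by group
      _ = x * (i * (f * w * f⁻¹) * i⁻¹) * x⁻¹ * (x * w * x⁻¹)⁻¹ := by rw [hfx]; group
      _ = x * (f * w * f⁻¹ * w⁻¹) * x⁻¹ := by rw [e1]; group
      _ = f * w * f⁻¹ * w⁻¹ := by rw [(h w hw) x hx, mul_inv_cancel_right]
  let K : Subgroup G :=
    { carrier := {w | w ∈ bW p E ∧ f * w * f⁻¹ * w⁻¹ = 1}
      one_mem' := ⟨one_mem _, by simp⟩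
      mul_mem' := fun {a b} ha hb => ⟨mul_mem ha.1 hb.1, by
        rw [show f * (a * b) * f⁻¹ * (a * b)⁻¹ = f * a * f⁻¹ * (f * b * f⁻¹ * b⁻¹) * a⁻¹ by group,
          hb.2, mul_one]
        exact ha.2⟩
      inv_mem' := fun {a} ha => ⟨inv_mem ha.1, by
        rw [show f * a⁻¹ * f⁻¹ * a⁻¹⁻¹ = (f * a * f⁻¹)⁻¹ * a by group, mul_inv_eq_one.mp ha.2,
          inv_mul_cancel]⟩ }
  have hle : bW p E ≤ K := by
    conv_lhs => rw [← commutator_bW hE hG]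
    refine Subgroup.commutator_le.mpr fun w hw x hx => ?_
    rw [commutatorElement_def, show w * x * w⁻¹ * x⁻¹ = w * (x * w⁻¹ * x⁻¹) by group]
    refine ⟨mul_mem hw (conj_mem' (hEW hx) (inv_mem hw)), ?_⟩
    have h1 := hinv x hx w⁻¹ (inv_mem hw)
    have hd := h w hw
    have hdW : f * w * f⁻¹ * w⁻¹ ∈ bW p E := mul_mem (conj_mem' hfW hw) (inv_mem hw)
    rw [show f * (w * (x * w⁻¹ * x⁻¹)) * f⁻¹ * (w * (x * w⁻¹ * x⁻¹))⁻¹ =
      f * w * f⁻¹ * (f * (x * w⁻¹ * x⁻¹) * f⁻¹ * (x * w⁻¹ * x⁻¹)⁻¹) * w⁻¹ by group, h1]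
    rw [show f * w * f⁻¹ * (f * w⁻¹ * f⁻¹ * w⁻¹⁻¹) * w⁻¹ = 1 by group]
  intro w hw
  exact (mul_inv_eq_iff_eq_mul.mp (mul_inv_eq_one.mp (hle hw).2)).symm

/-- Blocks with the same module normalizing each other have the same fixed points on it. -/
theorem fixed_eq {E F : Subgroup G} (hE : IsBlock p E) (hF : IsBlock p F)
    (hEF : E ≤ Subgroup.normalizer (F : Set G)) (hW : bW p F = bW p E) :
    bW p E ⊓ Subgroup.centralizer (F : Set G) ≤ Subgroup.centralizer (E : Set G) := by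
  by_contra hne
  have hL : E ≤ Subgroup.normalizer
      ((bW p E ⊓ Subgroup.centralizer (F : Set G) : Subgroup G) : Set G) := fun x hx =>
    mem_normalizer_of_le fun y hy => ⟨conj_mem' (le_normalizer_bW hE hx) hy.1, fun f hf => by
      have h1 : x⁻¹ * f * x ∈ F := by simpa using conj_mem' (inv_mem (hEF hx)) hf
      have h2 := hy.2 _ h1
      calc f * (x * y * x⁻¹) = x * (x⁻¹ * f * x * y) * x⁻¹ := by group
        _ = x * (y * (x⁻¹ * f * x)) * x⁻¹ := by rw [h2]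
        _ = x * y * x⁻¹ * f := by group⟩
  have h := irredW hE hG inf_le_left hL hne
  refine bW_not_le_centralizer hF hG ?_
  rw [hW, ← h]
  exact inf_le_right

/-- The coordinates of a block of linear kind. -/
theorem exists_coords_sl2 {E : Subgroup G} (hE : IsBlock p E) {F : Type*} [Field F]
    (hiso : Nonempty (↥E ⧸ Cfsg.pCore p ↥E ≃* ↥(commutator (SpecialLinearGroup (Fin 2) F))))
    (hact : Cfsg.ActsAsSL2OnSection F (commutator (SpecialLinearGroup (Fin 2) F)) E (bV p E)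
      (bV p E ⊓ Subgroup.centralizer (E : Set G))) :
    ∃ (φ : ↥(bW p E) →* Multiplicative (Fin 2 → F)) (ρ : ↥E →* SpecialLinearGroup (Fin 2) F),
      Function.Surjective φ ∧
      (∀ w : ↥(bW p E), φ w = 1 ↔ (w : G) ∈ Subgroup.centralizer (E : Set G)) ∧
      ρ.range = commutator (SpecialLinearGroup (Fin 2) F) ∧
      (∀ x : ↥E, ρ x = 1 ↔ (x : G) ∈ bQ p E) ∧
      ∀ (x : ↥E) (w : ↥(bW p E)),
        (φ ⟨(x : G) * w * (x : G)⁻¹, conj_mem' (le_normalizer_bW hE x.2) w.2⟩).toAdd =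
          (ρ x : Matrix (Fin 2) (Fin 2) F).mulVec (φ w).toAdd := by
  obtain ⟨hEV, -, ρ, ψ, hρ, hψ, hψker, hψeq⟩ := hact
  refine ⟨ψ.comp (Subgroup.inclusion (bW_le_bV hE)), ρ, fun v => ?_, fun w => ?_, hρ,
    sl2_ker_iff hiso hρ hψ hψker hψeq, fun x w => ?_⟩
  · obtain ⟨u, hu⟩ := hψ v
    obtain ⟨w, hw, z, hz, huv⟩ := exists_decomp hE hG u.2
    refine ⟨⟨w, hw⟩, ?_⟩
    show ψ ⟨w, bW_le_bV hE hw⟩ = v
    have : u = ⟨w, bW_le_bV hE hw⟩ * ⟨z, hz.1⟩ := Subtype.ext huv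
    rw [this, map_mul, (hψker ⟨z, hz.1⟩).mpr hz, mul_one] at hu
    exact hu
  · exact (hψker _).trans ⟨fun h => h.2, fun h => ⟨bW_le_bV hE w.2, h⟩⟩
  · obtain ⟨u, hu, hu2⟩ := hψeq x ⟨w, bW_le_bV hE w.2⟩
    show (ψ ⟨_, _⟩).toAdd = _
    rw [show (⟨(x : G) * w * (x : G)⁻¹, bW_le_bV hE (conj_mem' (le_normalizer_bW hE x.2) w.2)⟩ :
      ↥(bV p E)) = u from Subtype.ext hu.symm, hu2]
    rfl

/-- The coordinates of a block of alternating kind. -/
theorem exists_coords_alt {E : Subgroup G} (hE : IsBlock p E) {m : ℕ}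
    (hact : Cfsg.ActsAsOddPermModuleOnSection (2 * m + 1) (alternatingGroup (Fin (2 * m + 1))) E
      (bV p E) (bV p E ⊓ Subgroup.centralizer (E : Set G))) :
    ∃ (φ : ↥(bW p E) →* Multiplicative (Fin (2 * m + 1) → ZMod 2))
      (ρ : ↥E →* Equiv.Perm (Fin (2 * m + 1))),
      (∀ v, (∃ w, (φ w).toAdd = v) ↔ ∑ i, v i = 0) ∧
      (∀ w : ↥(bW p E), φ w = 1 ↔ (w : G) ∈ Subgroup.centralizer (E : Set G)) ∧
      ρ.range = alternatingGroup (Fin (2 * m + 1)) ∧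
      ∀ (x : ↥E) (w : ↥(bW p E)) i,
        (φ ⟨(x : G) * w * (x : G)⁻¹, conj_mem' (le_normalizer_bW hE x.2) w.2⟩).toAdd i =
          (φ w).toAdd ((ρ x)⁻¹ i) := by
  obtain ⟨hEV, -, ρ, ψ, hρ, heven, hψ, hψker, hψeq⟩ := hact
  refine ⟨ψ.comp (Subgroup.inclusion (bW_le_bV hE)), ρ, fun v => ⟨?_, fun hv => ?_⟩, fun w => ?_, hρ,
    fun x w i => ?_⟩
  · rintro ⟨w, rfl⟩
    exact heven _
  · obtain ⟨u, hu⟩ := hψ v hv
    obtain ⟨w, hw, z, hz, huv⟩ := exists_decomp hE hG u.2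
    refine ⟨⟨w, hw⟩, ?_⟩
    show (ψ ⟨w, bW_le_bV hE hw⟩).toAdd = v
    have : u = ⟨w, bW_le_bV hE hw⟩ * ⟨z, hz.1⟩ := Subtype.ext huv
    rw [this, map_mul, (hψker ⟨z, hz.1⟩).mpr hz, mul_one] at hu
    exact hu
  · exact (hψker _).trans ⟨fun h => h.2, fun h => ⟨bW_le_bV hE w.2, h⟩⟩
  · obtain ⟨u, hu, hu2⟩ := hψeq x ⟨w, bW_le_bV hE w.2⟩
    show (ψ ⟨_, _⟩).toAdd i = _
    rw [show (⟨(x : G) * w * (x : G)⁻¹, bW_le_bV hE (conj_mem' (le_normalizer_bW hE x.2) w.2)⟩ :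
      ↥(bV p E)) = u from Subtype.ext hu.symm, hu2 i]
    rfl

end CfsgLib.BlockPair
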