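import Cfsg.Agent.Lib.BlockPair.Orbit

/-!
# A block normalizes a smaller block normalizing it

The natural modules are not sums of modules permuted by the group.
-/

set_option autoImplicit false
set_option linter.unusedSectionVars false
set_option linter.style.haveILetI false

open Matrix
open scoped MatrixGroups commutatorElement

namespace CfsgLib.BlockPair

open CfsgLib.LocalEven CfsgLib.LocalEven.BBlock CfsgLib.BlockNorm

variable {G : Type*} [Group G] [Finite G] {p : ℕ} [Fact p.Prime]
  (hG : Subgroup.centralizer (Cfsg.pCore p G : Set G) ≤ Cfsg.pCore p G)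

include hG

/-- The natural module has order at least `p²`. -/
theorem sq_le_uCard {E : Subgroup G} (hE : IsBlock p E) : p * p ≤ uCard p E := by
  classical
  have hone := one_lt_uCard hG hE
  obtain ⟨T, -, -, -, -, hcase⟩ := id hE
  rcases hcase with ⟨K, iK, iKt, n, hn, hiso, hact, -⟩ | ⟨hp, m, hiso, hact, -⟩
  · obtain ⟨φ, ρ, hφ, hφker, -, -, -⟩ := exists_coords_sl2 hG hE hiso hact
    rw [uCard_eq φ hφker, MonoidHom.range_eq_top.mpr hφ, Subgroup.card_top,
      Nat.card_congr Multiplicative.toAdd, Nat.card_eq_fintype_card, Fintype.card_fun, hn,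
      Fintype.card_fin, pow_two]
    have hn0 : n ≠ 0 := by
      rintro rfl
      rw [pow_zero] at hn
      exact (Fintype.one_lt_card (α := K)).ne' hn
    exact Nat.mul_le_mul (Nat.le_self_pow hn0 p) (Nat.le_self_pow hn0 p)
  · subst hp
    obtain ⟨φ, ρ, hφ, hφker, -, -⟩ := exists_coords_alt hG hE hact
    have hm : m ≠ 0 := by
      rintro rfl
      refine bW_not_le_centralizer hE hG fun w hw => (hφker ⟨w, hw⟩).mp
        (Multiplicative.toAdd.injective (funext fun i => ?_))
      have h := (hφ _).mp ⟨⟨w, hw⟩, rfl⟩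
      have hsub : Subsingleton (Fin (2 * 0 + 1)) := ⟨fun a b => Fin.ext (by omega)⟩
      rw [Finset.sum_eq_single_of_mem i (Finset.mem_univ i) fun j _ hj =>
        absurd (Subsingleton.elim j i) hj] at h
      exact h
    let i0 : Fin (2 * m + 1) := ⟨0, by omega⟩
    let i1 : Fin (2 * m + 1) := ⟨1, by omega⟩
    let i2 : Fin (2 * m + 1) := ⟨2, by omega⟩
    rw [uCard_eq φ hφker]
    refine le_trans (le_of_eq ?_) (Nat.card_le_card_of_surjective
      (fun u : ↥φ.range => ((u.1.toAdd i1, u.1.toAdd i2) : ZMod 2 × ZMod 2)) fun ab => ?_)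
    · rw [Nat.card_prod, Nat.card_zmod]
    · obtain ⟨w, hw⟩ := (hφ (Pi.single i0 (ab.1 + ab.2) + Pi.single i1 ab.1 + Pi.single i2 ab.2)).mpr (by
        simp only [Pi.add_apply, Finset.sum_add_distrib, Finset.sum_pi_single', Finset.mem_univ,
          if_true]
        have h2 : (2 : ZMod 2) = 0 := rfl
        linear_combination (ab.1 + ab.2) * h2)
      refine ⟨⟨φ w, w, rfl⟩, ?_⟩
      have h10 : i1 ≠ i0 := by simp [i1, i0, Fin.ext_iff]
      have h20 : i2 ≠ i0 := by simp [i2, i0, Fin.ext_iff]
      have h12 : i1 ≠ i2 := by simp [i1, i2, Fin.ext_iff]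
      simp [hw, h10, h20, h12, h12.symm]

/-- A block normalizes a block with a smaller module that normalizes it and is permuted by it. -/
theorem le_normalizer_of_larger {E F : Subgroup G} (hE : IsBlock p E) (hF : IsBlock p F)
    (hgE : bQ p E ≤ Cfsg.pCore p G) (hgF : bQ p F ≤ Cfsg.pCore p G)
    (hFE : F ≤ Subgroup.normalizer (E : Set G))
    (hfam : ∀ x ∈ E, x ∈ Subgroup.normalizer (F : Set G) ∨ ⁅F, F.map (MulAut.conj x).toMonoidHom⁆ = ⊥)
    (hlt : uCard p F < uCard p E) : E ≤ Subgroup.normalizer (F : Set G) := by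
  classical
  have hCF : Subgroup.centralizer (bW p F : Set G) ≤ Subgroup.normalizer (F : Set G) :=
    centralizer_le_normalizer hG hF.choose hF.choose_spec
  set W := bW p E with hWdef
  set W' := bW p F with hW'def
  have hWcomm : ∀ a ∈ W, ∀ b ∈ W, Commute a b := fun a ha b hb =>
    bV_comm (bW_le_bV hE ha) (bW_le_bV hE hb)
  have hEW : E ≤ Subgroup.normalizer (W : Set G) := le_normalizer_bW hE
  have hFW : F ≤ Subgroup.normalizer (W : Set G) := hFE.trans (normalizer_le_normalizer_bW E)
  have hFW' : F ≤ Subgroup.normalizer (W' : Set G) := le_normalizer_bW hF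
  by_cases hC : F ≤ Subgroup.centralizer (W : Set G)
  · exact (le_centralizer_bW hG hE hF hgE hFE hC).trans hCF
  have hWM : W ≤ Cfsg.omegaOneCenter p (Cfsg.pCore p G) := bW_le_omega hE hG
  have hp : ∀ w ∈ W, w ^ p = 1 := fun w hw => (bV_isEA p E).2 w (bW_le_bV hE hw)
  -- `W' ≤ W`
  have hsub : W' ≤ W := by
    have hL : W' ⊓ W = W' := by
      refine irredW hF hG inf_le_left (fun f hf => mem_normalizer_of_le fun v hv =>
        Subgroup.mem_inf.mpr ⟨conj_mem' (hFW' hf) hv.1, conj_mem' (hFW hf) hv.2⟩) fun h => hC ?_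
      refine residual_induction (res hF) fun f hf hcop w hw => ?_
      have hc : f * w * f⁻¹ * w⁻¹ ∈ W' ⊓ W := Subgroup.mem_inf.mpr
        ⟨conj_omega_mem hF hG hgF hf (hWM hw), W.mul_mem (conj_mem' (hFW hf) hw) (W.inv_mem hw)⟩
      exact (mul_inv_eq_iff_eq_mul.mp (fixed_of_stable hcop (h hc f hf) (hp _ hc.2))).symm
    exact hL ▸ inf_le_right
  by_cases hC' : W' ≤ Subgroup.centralizer (E : Set G)
  · exact (Subgroup.le_centralizer_iff.mp hC').trans hCF
  -- the fixed points of `E` are fixed by `F`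
  have hDF : W ⊓ Subgroup.centralizer (E : Set G) ≤ Subgroup.centralizer (F : Set G) := by
    have hFD : F ≤ Subgroup.normalizer ((W ⊓ Subgroup.centralizer (E : Set G) : Subgroup G) : Set G) :=
      fun f hf => mem_normalizer_of_le fun v hv => Subgroup.mem_inf.mpr
        ⟨conj_mem' (hFW hf) hv.1, conj_centralizer_mem (hFE hf) hv.2⟩
    have hL : W' ⊓ (W ⊓ Subgroup.centralizer (E : Set G)) ≤ Subgroup.centralizer (F : Set G) := by
      by_contra hne
      have h := irredW hF hG inf_le_left (fun f hf => mem_normalizer_of_le fun v hv =>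
        Subgroup.mem_inf.mpr ⟨conj_mem' (hFW' hf) hv.1, conj_mem' (hFD hf) hv.2⟩) hne
      exact hC' (h.ge.trans (inf_le_right.trans inf_le_right))
    refine Subgroup.le_centralizer_iff.mp (residual_induction (res hF) fun f hf hcop d hd => ?_)
    have hc : f * d * f⁻¹ * d⁻¹ ∈ W' ⊓ (W ⊓ Subgroup.centralizer (E : Set G)) := Subgroup.mem_inf.mpr
      ⟨conj_omega_mem hF hG hgF hf (hWM hd.1),
        Subgroup.mul_mem _ (conj_mem' (hFD hf) hd) (Subgroup.inv_mem _ hd)⟩
    exact (mul_inv_eq_iff_eq_mul.mp (fixed_of_stable hcop (hL hc f hf) (hp _ hc.2.1))).symm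
  -- the fixed points of `F` on its module are fixed by `E`
  have hfix : ∀ c ∈ W', c ∈ Subgroup.centralizer (F : Set G) → c ∈ Subgroup.centralizer (E : Set G) := by
    let L0 : Subgroup G :=
      { carrier := {v | v ∈ W ∧ ∀ x ∈ E, x⁻¹ * v * x ∈ Subgroup.centralizer (F : Set G)}
        one_mem' := ⟨one_mem _, fun x _ => by simp⟩
        mul_mem' := fun {a b} ha hb => ⟨mul_mem ha.1 hb.1, fun x hx => by
          rw [show x⁻¹ * (a * b) * x = x⁻¹ * a * x * (x⁻¹ * b * x) by group]
          exact mul_mem (ha.2 x hx) (hb.2 x hx)⟩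
        inv_mem' := fun {a} ha => ⟨inv_mem ha.1, fun x hx => by
          rw [show x⁻¹ * a⁻¹ * x = (x⁻¹ * a * x)⁻¹ by group]
          exact inv_mem (ha.2 x hx)⟩ }
    have hL0 : L0 ≤ Subgroup.centralizer (E : Set G) := by
      by_contra hne
      have h := irredW hE hG (L := L0) (fun v hv => hv.1) (fun y hy => mem_normalizer_of_le fun v hv =>
        ⟨conj_mem' (hEW hy) hv.1, fun x hx => by
          have h := hv.2 (y⁻¹ * x) (mul_mem (inv_mem hy) hx)
          rwa [show x⁻¹ * (y * v * y⁻¹) * x = (y⁻¹ * x)⁻¹ * v * (y⁻¹ * x) by group]⟩) hne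
      refine bW_not_le_centralizer hF hG fun v hv => ?_
      simpa using (h.ge (hsub hv)).2 1 (one_mem _)
    intro c hc hcF
    refine hL0 ⟨hsub hc, fun x hx => ?_⟩
    rcases hfam x hx with h | h
    · simpa using conj_centralizer_mem (inv_mem h) hcF
    · exact (conj_mem_centralizer h (bW_le hF hc)).2
  -- a vector of `W'` moved by an element of `E`
  obtain ⟨w, hwW', hwF⟩ : ∃ w ∈ W', w ∉ Subgroup.centralizer (F : Set G) := by
    by_contra h
    push Not at h
    exact bW_not_le_centralizer hF hG h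
  have hmove : ∀ x ∈ E, x ∉ Subgroup.normalizer (F : Set G) →
      x * w * x⁻¹ ∈ Subgroup.centralizer (F : Set G) := fun x hx hxF =>
    (conj_mem_centralizer ((hfam x hx).resolve_left hxF) (bW_le hF hwW')).1
  have hQN : ∀ q ∈ bQ p E, q ∈ Subgroup.normalizer (F : Set G) := fun q hq =>
    pCore_le_normalizer hF hG (hgE hq)
  obtain ⟨T, -, -, -, -, hcase⟩ := id hE
  rcases hcase with ⟨K, iK, iKt, n, hn, hiso, hact, -⟩ | ⟨hp2, m, hiso, hact, -⟩
  · obtain ⟨φ, ρ, hφ, hφker, hρ, hρker, hφeq⟩ := exists_coords_sl2 hG hE hiso hact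
    have h4 : 4 ≤ Fintype.card K := by
      have h1 := sq_le_uCard hG hF
      have h2 : uCard p E = p ^ n * p ^ n := by
        rw [uCard_eq φ hφker, MonoidHom.range_eq_top.mpr hφ, Subgroup.card_top,
          Nat.card_congr Multiplicative.toAdd, Nat.card_eq_fintype_card, Fintype.card_fun, hn,
          Fintype.card_fin, pow_two]
      have h3 : 2 ≤ n := by
        by_contra h
        interval_cases n
        · rw [pow_zero] at hn
          exact (Fintype.one_lt_card (α := K)).ne' hn
        · rw [pow_one] at h2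
          omega
      rw [hn]
      calc 4 = 2 ^ 2 := rfl
        _ ≤ p ^ 2 := Nat.pow_le_pow_left (Fact.out : p.Prime).two_le 2
        _ ≤ p ^ n := Nat.pow_le_pow_right (Fact.out : p.Prime).pos h3
    have hsurj : Function.Surjective ρ :=
      MonoidHom.range_eq_top.mp (hρ.trans (commutator_eq_top h4))
    choose g hg using hsurj
    set w0 : ↥W := ⟨w, hsub hwW'⟩ with hw0
    -- a one-parameter family of translations fixes the subgroup
    have key : ∀ (a : K → ↥E) (η : Fin 2 → K),
        (∀ t, (φ ⟨(a t : G) * w * (a t : G)⁻¹, conj_mem' (hEW (a t).2) (hsub hwW')⟩).toAdd =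
          (φ w0).toAdd + t • η) →
        ∀ t, (a t : G) ∈ Subgroup.normalizer (F : Set G) := by
      intro a η hη
      let wt : K → ↥W := fun t => ⟨(a t : G) * w * (a t : G)⁻¹, conj_mem' (hEW (a t).2) (hsub hwW')⟩
      have hηt : ∀ t, (φ (wt t)).toAdd = (φ w0).toAdd + t • η := hη
      have heq : ∀ r s, ((w0 * wt (r + s))⁻¹ * (wt r * wt s) : ↥W) ∈
          (W ⊓ Subgroup.centralizer (E : Set G)).subgroupOf W := by
        intro r s
        refine Subgroup.mem_subgroupOf.mpr ⟨Subtype.prop _, (hφker _).mp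
          (Multiplicative.toAdd.injective ?_)⟩
        rw [map_mul φ, map_inv φ, map_mul φ, map_mul φ, toAdd_mul, toAdd_inv, toAdd_mul, toAdd_mul, hηt,
          hηt, hηt,
          toAdd_one, add_smul]
        abel
      intro t
      by_contra ht
      have hFt := (hfam _ (a t).2).resolve_left ht
      have hwt : (wt t : G) ∈ Subgroup.centralizer (F : Set G) := hmove _ (a t).2 ht
      by_cases hzero : t • η = 0
      · apply hwF
        have hd : ((wt t)⁻¹ * w0 : ↥W) ∈ (W ⊓ Subgroup.centralizer (E : Set G)).subgroupOf W :=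
          Subgroup.mem_subgroupOf.mpr ⟨Subtype.prop _, (hφker _).mp (Multiplicative.toAdd.injective (by
            rw [map_mul, map_inv, toAdd_mul, toAdd_inv, hηt, hzero, add_zero, neg_add_cancel, toAdd_one]))⟩
        have h := mul_mem hwt (hDF hd)
        simpa using h
      have hη0 : η ≠ 0 := fun h => hzero (by rw [h, smul_zero])
      have ht0 : t ≠ 0 := fun h => hzero (by rw [h, zero_smul])
      -- the stabilizer is trivial
      have hstab : ∀ r, r ≠ 0 → (a r : G) ∉ Subgroup.normalizer (F : Set G) := by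
        intro r hr0 hr
        have hd := heq t r
        have hwr : (wt r : G) ∈ W' :=
          conj_mem' (normalizer_le_normalizer_bW F hr) hwW'
        by_cases htr : (a (t + r) : G) ∈ Subgroup.normalizer (F : Set G)
        · have hwtr : (wt (t + r) : G) ∈ W' := conj_mem' (normalizer_le_normalizer_bW F htr) hwW'
          have hconj : ∀ v ∈ W', (a t : G)⁻¹ * v * (a t : G) ∈ Subgroup.centralizer (F : Set G) :=
            fun v hv => (conj_mem_centralizer hFt (bW_le hF hv)).2
          set δ : G := (((w0 * wt (t + r))⁻¹ * (wt t * wt r) : ↥W) : G) with hδ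
          have hδE : δ ∈ Subgroup.centralizer (E : Set G) := hd.2
          have hδF : δ ∈ Subgroup.centralizer (F : Set G) := hDF hd
          apply hwF
          have e : w = (a t : G)⁻¹ * w * (a t) * ((a t : G)⁻¹ * (wt (t + r)) * (a t)) *
              ((a t : G)⁻¹ * δ * (a t)) * ((a t : G)⁻¹ * (wt r) * (a t))⁻¹ := by
            rw [hδ]
            simp only [Subgroup.coe_mul, Subgroup.coe_inv, wt, hw0]
            group
          rw [e, show (a t : G)⁻¹ * δ * (a t) = δ by
            rw [mul_assoc, ← hδE _ (a t).2, inv_mul_cancel_left]]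
          exact mul_mem (mul_mem (mul_mem (hconj w hwW') (hconj _ hwtr)) hδF) (inv_mem (hconj _ hwr))
        · have hc : (wt r * w0⁻¹ : ↥W) = (wt t)⁻¹ * wt (t + r) *
              ((w0 * wt (t + r))⁻¹ * (wt t * wt r)) := by
            have hcm : ∀ x y : ↥W, x * y = y * x := fun x y => Subtype.ext (hWcomm _ x.2 _ y.2).eq
            calc wt r * w0⁻¹ = w0⁻¹ * wt r := hcm _ _
              _ = (wt t)⁻¹ * (w0⁻¹ * wt t) * wt r := by
                rw [hcm w0⁻¹ (wt t), inv_mul_cancel_left]
              _ = _ := by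
                rw [_root_.mul_inv_rev, mul_assoc ((wt (t + r))⁻¹), mul_assoc ((wt t)⁻¹) (wt (t + r)),
                  mul_inv_cancel_left]
                simp [mul_assoc]
          have hcF : (wt r : G) * w⁻¹ ∈ Subgroup.centralizer (F : Set G) := by
            have h := congrArg Subtype.val hc
            rw [show ((wt r * w0⁻¹ : ↥W) : G) = (wt r : G) * w⁻¹ from rfl] at h
            rw [h]
            exact mul_mem (mul_mem (inv_mem hwt) (hmove _ (a (t + r)).2 htr)) (hDF hd)
          have h := (hφker (wt r * w0⁻¹)).mpr (hfix _ (mul_mem hwr (inv_mem hwW')) hcF)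
          have h1 := congrArg Multiplicative.toAdd h
          rw [map_mul, map_inv, toAdd_mul, toAdd_inv, hηt, toAdd_one, add_comm (φ w0).toAdd,
            add_neg_cancel_right, smul_eq_zero] at h1
          exact h1.elim hr0 hη0
      obtain ⟨s, -, hs⟩ := Finset.exists_mem_notMem_of_card_lt_card (t := Finset.univ)
        (s := ({0, t, -t} : Finset K)) ((Finset.card_le_three).trans_lt (by
          rw [Finset.card_univ]; omega))
      simp only [Finset.mem_insert, Finset.mem_singleton, not_or] at hs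
      have hts : t + s ≠ 0 := fun h => hs.2.2 (eq_neg_of_add_eq_zero_right h)
      apply hwF
      have e : w = (wt t : G) * wt s *
          ((((w0 * wt (t + s))⁻¹ * (wt t * wt s) : ↥W) : G))⁻¹ * (wt (t + s) : G)⁻¹ := by
        simp only [Subgroup.coe_mul, Subgroup.coe_inv, hw0]
        group
      rw [e]
      exact mul_mem (mul_mem (mul_mem hwt (hmove _ (a s).2 (hstab s hs.1))) (inv_mem (hDF (heq t s))))
        (inv_mem (hmove _ (a (t + s)).2 (hstab _ hts)))
    have hU : ∀ t, CfsgLib.RootSub.slU t ∈ ((Subgroup.normalizer (F : Set G)).subgroupOf E).map ρ := by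
      intro t
      refine ⟨g (CfsgLib.RootSub.slU t), key (fun t => g (CfsgLib.RootSub.slU t))
        ![(φ w0).toAdd 1, 0] (fun t => ?_) t, hg _⟩
      refine (hφeq _ w0).trans ?_
      rw [hg]
      ext i
      fin_cases i <;> simp [CfsgLib.RootSub.slU_val, mulVec, dotProduct, Fin.sum_univ_two, mul_comm]
    have hL : ∀ t, CfsgLib.RootSub.slL t ∈ ((Subgroup.normalizer (F : Set G)).subgroupOf E).map ρ := by
      intro t
      refine ⟨g (CfsgLib.RootSub.slL t), key (fun t => g (CfsgLib.RootSub.slL t))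
        ![0, (φ w0).toAdd 0] (fun t => ?_) t, hg _⟩
      refine (hφeq _ w0).trans ?_
      rw [hg]
      ext i
      fin_cases i <;>
        simp [CfsgLib.RootSub.slL_val, mulVec, dotProduct, Fin.sum_univ_two, mul_comm, add_comm]
    have htop : ⊤ ≤ ((Subgroup.normalizer (F : Set G)).subgroupOf E).map ρ := by
      rw [← CfsgLib.LocalEven.SL2Natural.closure_slU_slW (F := K), Subgroup.closure_le]
      rintro _ (⟨t, rfl⟩ | rfl)
      · exact hU t
      · exact mul_mem (mul_mem (hU 1) (hL _)) (hU 1)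
    intro x hx
    obtain ⟨i, hi, hix⟩ := htop (Subgroup.mem_top (ρ ⟨x, hx⟩))
    have hq := (hρker (i⁻¹ * ⟨x, hx⟩)).mp (by rw [map_mul, map_inv, hix, inv_mul_cancel])
    have h := mul_mem (Subgroup.mem_subgroupOf.mp hi) (hQN ((i⁻¹ * ⟨x, hx⟩ : ↥E) : G) hq)
    simpa using h
  · subst hp2
    obtain ⟨φ, ρ, hφ, hφker, hρ, hφeq⟩ := exists_coords_alt hG hE hact
    have hall : alternatingGroup (Fin (2 * m + 1)) ≤
        ((Subgroup.normalizer (F : Set G)).subgroupOf E).map ρ := by
      rw [← Equiv.Perm.closure_three_cycles_eq_alternating, Subgroup.closure_le]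
      intro σ hσ
      obtain ⟨x, hx⟩ : σ ∈ ρ.range := by
        rw [hρ]
        exact hσ.mem_alternatingGroup
      obtain ⟨j, r, hr, hord⟩ := Nat.exists_eq_pow_mul_and_not_dvd
        (orderOf_pos (x : G)).ne' 2 (by norm_num)
      set y : ↥E := x ^ 4 ^ j with hy
      have hρy : ρ y = σ := by
        obtain ⟨k, hk⟩ : 3 ∣ 4 ^ j - 1 := by simpa using Nat.sub_dvd_pow_sub_pow 4 1 j
        have h4 : 4 ^ j = 3 * k + 1 := by
          have : 1 ≤ 4 ^ j := Nat.one_le_pow _ _ (by norm_num)
          omega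
        rw [hy, map_pow, hx, h4, pow_succ, pow_mul, ← hσ.orderOf, pow_orderOf_eq_one, one_pow, one_mul]
      have hcop : (orderOf (y : G)).Coprime 2 := by
        refine Nat.Coprime.coprime_dvd_left (orderOf_dvd_of_pow_eq_one ?_)
          ((Nat.prime_two.coprime_iff_not_dvd.mpr hr).symm)
        rw [hy, SubmonoidClass.coe_pow, ← pow_mul]
        refine orderOf_dvd_iff_pow_eq_one.mp ?_
        rw [hord]
        refine Nat.mul_dvd_mul ?_ dvd_rfl
        rw [show 4 ^ j = 2 ^ j * 2 ^ j by rw [← mul_pow]; norm_num]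
        exact dvd_mul_right _ _
      refine ⟨y, ?_, hρy⟩
      by_contra hyF
      have hyy : (y : G) * y ∉ Subgroup.normalizer (F : Set G) := fun h => hyF (by
        obtain ⟨k, hk⟩ := exists_pow_eq_self_of_coprime (x := (y : G)) (n := 2) hcop.symm
        refine Subgroup.mem_subgroupOf.mpr ?_
        rw [← hk, pow_two]
        exact pow_mem h k)
      let c := commOn hWcomm (y : G) le_rfl fun s hs =>
        mul_mem (conj_mem' (hEW y.2) hs) (inv_mem hs)
      have h1 := uCard_sq_le_of_move (E := F) hsub hWcomm (bW_le hF) (hEW y.2) (φ.comp c)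
        (fun s hs => fixed_of_stable hcop (((hφker (c s)).mp hs) y y.2) (hp _ (c s).2))
        ((hfam _ y.2).resolve_left hyF) ((hfam _ (mul_mem y.2 y.2)).resolve_left hyy)
      have h2 : Nat.card (φ.comp c).range ≤ 8 := by
        have hsupp : ∀ (u : ↥(φ.comp c).range) i, i ∉ σ.support → u.1.toAdd i = 0 := by
          rintro ⟨_, s, rfl⟩ i hi
          show (φ (⟨_, conj_mem' (hEW y.2) s.2⟩ * s⁻¹)).toAdd i = 0
          rw [map_mul, map_inv, toAdd_mul, toAdd_inv, Pi.add_apply, Pi.neg_apply, hφeq y s i, hρy]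
          rw [Equiv.Perm.notMem_support] at hi
          rw [show σ⁻¹ i = i from Equiv.Perm.inv_eq_iff_eq.mpr hi.symm]
          exact add_neg_cancel _
        refine le_trans (Nat.card_le_card_of_injective
          (fun (u : ↥(φ.comp c).range) (i : {i // i ∈ σ.support}) => u.1.toAdd i) fun u v huv => ?_) ?_
        · refine Subtype.ext (Multiplicative.toAdd.injective (funext fun i => ?_))
          by_cases hi : i ∈ σ.support
          · exact congrFun huv ⟨i, hi⟩
          · rw [hsupp u i hi, hsupp v i hi]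
        · rw [Nat.card_fun, Nat.card_zmod, Nat.card_eq_fintype_card, Fintype.card_coe, hσ.card_support]
          norm_num
      have h3 := sq_le_uCard hG hF
      have h4 : 4 * 4 ≤ uCard 2 F * uCard 2 F := Nat.mul_le_mul h3 h3
      omega
    intro x hx
    obtain ⟨i, hi, hix⟩ := hall (hρ ▸ ⟨⟨x, hx⟩, rfl⟩ : ρ ⟨x, hx⟩ ∈ alternatingGroup (Fin (2 * m + 1)))
    have hq : ((i⁻¹ * ⟨x, hx⟩ : ↥E) : G) ∈ bQ 2 E := by
      refine faithfulW hE hG (Subtype.prop _) fun v hv => ?_
      refine (hφker (⟨_, conj_mem' (hEW (Subtype.prop _)) hv⟩ * (⟨v, hv⟩ : ↥W)⁻¹)).mp ?_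
      rw [map_mul, map_inv, mul_inv_eq_one]
      refine Multiplicative.toAdd.injective (funext fun k => ?_)
      rw [hφeq (i⁻¹ * ⟨x, hx⟩) ⟨v, hv⟩ k, map_mul, map_inv, hix, inv_mul_cancel, inv_one,
        Equiv.Perm.one_apply]
    have h := mul_mem (Subgroup.mem_subgroupOf.mp hi) (hQN ((i⁻¹ * ⟨x, hx⟩ : ↥E) : G) hq)
    simpa using h

end CfsgLib.BlockPair
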