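import Cfsg.Agent.Lib.BlockPair.Large
import Cfsg.Agent.Lib.BlockPair.Matching

/-!
# Blocks normalizing each other with the same module are equal
-/

set_option autoImplicit false
set_option linter.unusedSectionVars false
set_option linter.style.haveILetI false

open Matrix
open scoped MatrixGroups commutatorElement

namespace CfsgLib.BlockPair

open CfsgLib.LocalEven CfsgLib.LocalEven.BBlock CfsgLib.BlockNorm

variable {G : Type*} [Group G] [Finite G] {p : ℕ} [Fact p.Prime]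

variable (hG : Subgroup.centralizer (Cfsg.pCore p G : Set G) ≤ Cfsg.pCore p G)

include hG

/-- For an exceptional block `E` and a block `F` with the same module, `O_p(E) ≤ O_p(F)`. -/
theorem bQ_le_of_exceptional {E F : Subgroup G} (hE : IsBlock p E) (hF : IsBlock p F)
    (hEF : E ≤ Subgroup.normalizer (F : Set G)) (hFE : F ≤ Subgroup.normalizer (E : Set G))
    (hW : bW p F = bW p E) (hM : E ≤ F ⊔ Subgroup.centralizer (bW p E : Set G))
    (hne : bQ p E ≠ bW p E) : bQ p E ≤ bQ p F := by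
  classical
  obtain ⟨T, -, -, hQE, -, hcase⟩ := id hE
  have hlin : Cfsg.pCoreOf p E = bV p E → bQ p E = bW p E := fun h => by
    show bQ p E = ⁅bV p E, E⁆
    conv_lhs => rw [bQ, ← hQE, h]
  rcases hcase with ⟨K, iK, iKt, n, hn, hiso, hact, hQ | ⟨hp, hact2, hQQ, -, -, -, -⟩⟩ |
    ⟨-, m, -, -, hQ⟩
  · exact absurd (hlin hQ) hne
  swap
  · exact absurd (hlin hQ) hne
  subst hp
  haveI : CharP K 3 := by
    have h0 := FiniteField.cast_card_eq_zero K
    rw [hn] at h0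
    push_cast at h0
    exact (CharP.charP_iff_prime_eq_zero Nat.prime_three).mpr
      (by exact_mod_cast eq_zero_of_pow_eq_zero h0)
  obtain ⟨-, -, ρ, ψ, hρ, hψ, hψker, hψeq⟩ := hact
  obtain ⟨hEQ, -, ρ2, ψ2, hρ2, hψ2, hψ2ker, hψ2eq⟩ := hact2
  have hρker := sl2_ker_iff hiso hρ hψ hψker hψeq
  have hρ2ker := ker_iff hiso ρ2 hρ2 fun x hx =>
    Subtype.ext (Matrix.ext_of_mulVec_single fun i => by
      obtain ⟨u, hu⟩ := hψ2 (Multiplicative.ofAdd (Pi.single i 1))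
      obtain ⟨w, hw, hw2⟩ := hψ2eq x u
      rw [show w = (⟨x, hx⟩ : ↥(Cfsg.pCoreOf 3 E)) * u * (⟨x, hx⟩ : ↥(Cfsg.pCoreOf 3 E))⁻¹ from
          Subtype.ext hw, map_mul ψ2, map_mul ψ2, map_inv ψ2,
        mul_comm (ψ2 ⟨x, hx⟩), mul_inv_cancel_right, hu, toAdd_ofAdd] at hw2
      exact hw2.symm.trans (one_mulVec _).symm)
  have hFQ : F ≤ Subgroup.normalizer (bQ 3 E : Set G) :=
    hFE.trans (normalizer_le_normalizer_pCoreOf E)
  have hcomm : ∀ x ∈ E, ∀ y ∈ F, y * x * y⁻¹ * x⁻¹ ∈ E ⊓ F := fun x hx y hy =>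
    ⟨E.mul_mem (conj_mem' (hFE hy) hx) (E.inv_mem hx), by
      rw [show y * x * y⁻¹ * x⁻¹ = y * (x * y⁻¹ * x⁻¹) by group]
      exact F.mul_mem hy (conj_mem' (hEF hx) (F.inv_mem hy))⟩
  obtain ⟨i, hiF, hi⟩ : ∃ i : ↥E, (i : G) ∈ F ∧ ρ i ≠ 1 := by
    by_contra hno
    obtain ⟨a, ha, b, hb, hab⟩ := not_commutative (F := K)
    rw [← hρ] at ha hb
    obtain ⟨a, rfl⟩ := ha
    obtain ⟨b, rfl⟩ := hb
    refine hab (commutatorElement_eq_one_iff_mul_comm.mp ?_)
    rw [← map_commutatorElement]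
    refine (hρker _).mpr ?_
    obtain ⟨y, hy, hc⟩ := exists_of_mem_sup hG hF (show (a : G) ∈ F ⊔ _ by rw [hW]; exact hM a.2)
    rw [hW] at hc
    set c := y⁻¹ * (a : G) with hcdef
    have hcE : c ∈ Subgroup.normalizer (E : Set G) :=
      mul_mem (inv_mem (hFE hy)) (Subgroup.le_normalizer a.2)
    have h1 : c * b * c⁻¹ * (b : G)⁻¹ ∈ bQ 3 E := by
      have h := inv_mem (conj_mem_bQ hG hE b.2 hcE hc)
      rwa [show ((b : G) * c * (b : G)⁻¹ * c⁻¹)⁻¹ = c * b * c⁻¹ * (b : G)⁻¹ by group] at h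
    have h2 : y * b * y⁻¹ * (b : G)⁻¹ ∈ bQ 3 E := by
      have h := hcomm b b.2 y hy
      by_contra hnQ
      exact hno ⟨⟨_, h.1⟩, h.2, fun he => hnQ ((hρker ⟨_, h.1⟩).mp he)⟩
    rw [show ((⁅a, b⁆ : ↥E) : G) = y * (c * b * c⁻¹ * (b : G)⁻¹) * y⁻¹ * (y * b * y⁻¹ * (b : G)⁻¹) by
      rw [hcdef, commutatorElement_def]
      simp only [Subgroup.coe_mul, Subgroup.coe_inv]
      group]
    exact mul_mem (conj_mem' (hFQ hy) h1) h2
  obtain ⟨i0, hi0F, hi0⟩ : (-1 : SpecialLinearGroup (Fin 2) K) ∈ (F.subgroupOf E).map ρ := by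
    refine neg_one_mem_of_normal _ ?_ ?_ ?_
    · rw [← hρ]; exact Subgroup.map_le_range _ _
    · intro g hg z hz
      rw [← hρ] at hg
      obtain ⟨g, rfl⟩ := hg
      obtain ⟨z, hz, rfl⟩ := hz
      exact ⟨g * z * g⁻¹, Subgroup.mem_subgroupOf.mpr (conj_mem' (hEF g.2) hz),
        by rw [map_mul, map_mul, map_inv]⟩
    · intro hbot
      exact hi ((Subgroup.mem_bot).mp (hbot ▸ ⟨i, hiF, rfl⟩))
  have hi02 : ρ2 i0 = -1 := by
    refine eq_neg_one_of_sq ?_ fun h => ?_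
    · rw [← map_mul]
      exact (hρ2ker _).mpr ((hρker _).mp (by rw [map_mul, hi0, neg_mul_neg, one_mul]))
    · have h1 := (hρker i0).mpr ((hρ2ker i0).mp h)
      rw [hi0] at h1
      have h2 := congrArg (fun g : SpecialLinearGroup (Fin 2) K => g.1 0 0) h1
      simp at h2
      exact neg_one_ne_one (F := K) h2
  have h30 := three_eq_zero (F := K)
  have hdec : ∀ q ∈ bQ 3 E, ∃ d, d ∈ bQ 3 E ∧ d ∈ F ∧ d⁻¹ * q ∈ bV 3 E := by
    intro q hq
    obtain ⟨w, hw, hw2⟩ := hψ2eq i0 ⟨q, hq⟩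
    refine ⟨(i0 : G) * q * (i0 : G)⁻¹ * q⁻¹, mul_mem (hw ▸ w.2) (inv_mem hq), ?_, ?_⟩
    · rw [show (i0 : G) * q * (i0 : G)⁻¹ * q⁻¹ = i0 * (q * (i0 : G)⁻¹ * q⁻¹) by group]
      exact F.mul_mem hi0F (conj_mem' (hEF (bQ_le 3 E hq)) (F.inv_mem hi0F))
    · have e : ((((w * (⟨q, hq⟩ : ↥(bQ 3 E))⁻¹)⁻¹ * ⟨q, hq⟩ : ↥(bQ 3 E))) : G) =
          ((i0 : G) * q * (i0 : G)⁻¹ * q⁻¹)⁻¹ * q := by
        simp only [Subgroup.coe_mul, Subgroup.coe_inv, hw]
      rw [← e]
      refine (hψ2ker _).mp (Multiplicative.toAdd.injective ?_)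
      rw [map_mul ψ2, map_inv ψ2, map_mul ψ2, map_inv ψ2, toAdd_mul, toAdd_inv, toAdd_mul, toAdd_inv,
        hw2, hi02,
        toAdd_one]
      show -((-(1 : Matrix (Fin 2) (Fin 2) K)).mulVec (ψ2 ⟨q, hq⟩).toAdd + -(ψ2 ⟨q, hq⟩).toAdd) + _ = 0
      rw [neg_mulVec, one_mulVec]
      ext k
      simp only [Pi.add_apply, Pi.neg_apply, Pi.zero_apply]
      linear_combination (ψ2 ⟨q, hq⟩).toAdd k * h30
  have hZF : ⁅bQ 3 E, bQ 3 E⁆ ≤ F := by
    refine Subgroup.commutator_le.mpr fun a ha b hb => ?_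
    obtain ⟨d, hdQ, hdF, hv⟩ := hdec a ha
    obtain ⟨d', hd'Q, hd'F, hv'⟩ := hdec b hb
    set v := d⁻¹ * a with hvdef
    set v' := d'⁻¹ * b with hv'def
    have : ⁅a, b⁆ = ⁅d, d'⁆ := by
      rw [show a = d * v by rw [hvdef]; group, show b = d' * v' by rw [hv'def]; group,
        commutatorElement_def, commutatorElement_def]
      calc d * v * (d' * v') * (d * v)⁻¹ * (d' * v')⁻¹
          = d * (v * (d' * v')) * v⁻¹ * d⁻¹ * v'⁻¹ * d'⁻¹ := by group
        _ = d * d' * (v' * d⁻¹) * v'⁻¹ * d'⁻¹ := by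
            rw [(bV_central hv (mul_mem hd'Q (bV_le_bQ 3 E hv'))).eq]; group
        _ = d * d' * d⁻¹ * d'⁻¹ := by
            rw [(bV_central hv' (inv_mem hdQ)).eq]; group
    rw [this, commutatorElement_def]
    exact F.mul_mem (F.mul_mem (F.mul_mem hdF hd'F) (F.inv_mem hdF)) (F.inv_mem hd'F)
  have hWF : bW 3 E ≤ F := hW ▸ ((bW_le_bV hF).trans ((bV_le_bQ 3 F).trans (bQ_le 3 F)))
  refine le_pCoreOf (fun q hq => ?_) hFQ (pCoreOf_isPGroup 3 E)
  obtain ⟨d, -, hdF, hv⟩ := hdec q hq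
  obtain ⟨w, hw, z, hz, hvz⟩ := exists_decomp hE hG hv
  rw [show q = d * (d⁻¹ * q) by group, hvz]
  exact F.mul_mem hdF (F.mul_mem (hWF hw) (hZF (hQQ ▸ hz)))

/-- Blocks with the same small module have the same `O_p`. -/
theorem bQ_eq_of_small {E F : Subgroup G} (hE : IsBlock p E) (hF : IsBlock p F)
    (hEF : E ≤ Subgroup.normalizer (F : Set G)) (hFE : F ≤ Subgroup.normalizer (E : Set G))
    (hW : bW p F = bW p E) (hEM : E ≤ F ⊔ Subgroup.centralizer (bW p E : Set G))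
    (hFM : F ≤ E ⊔ Subgroup.centralizer (bW p E : Set G)) : bQ p F = bQ p E := by
  have h1 : bQ p E ≠ bW p E → bQ p E ≤ bQ p F := bQ_le_of_exceptional hG hE hF hEF hFE hW hEM
  have h2 : bQ p F ≠ bW p F → bQ p F ≤ bQ p E :=
    bQ_le_of_exceptional hG hF hE hFE hEF hW.symm (by rw [hW]; exact hFM)
  have hWE : bW p E ≤ bQ p E := (bW_le_bV hE).trans (bV_le_bQ p E)
  have hWF : bW p F ≤ bQ p F := (bW_le_bV hF).trans (bV_le_bQ p F)
  by_cases hE1 : bQ p E = bW p E <;> by_cases hF1 : bQ p F = bW p F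
  · rw [hE1, hF1, hW]
  · exact absurd (le_antisymm ((h2 hF1).trans (by rw [hE1, hW])) hWF) hF1
  · exact absurd (le_antisymm ((h1 hE1).trans (by rw [hF1, hW])) hWE) hE1
  · exact le_antisymm (h2 hF1) (h1 hE1)

/-- A matched block with the same `O_p` is contained. -/
theorem le_of_matching {E F : Subgroup G} (hE : IsBlock p E) (hF : IsBlock p F)
    (hgood : bQ p E ≤ Cfsg.pCore p G) (hFE : F ≤ Subgroup.normalizer (E : Set G))
    (hW : bW p F = bW p E) (hQ : bQ p F = bQ p E) (hu : uCard p E = p * p)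
    (hM : F ≤ E ⊔ Subgroup.centralizer (bW p E : Set G)) : F ≤ E := by
  classical
  haveI := core_normal p G
  have hCE : Subgroup.centralizer (bW p E : Set G) ≤ Subgroup.normalizer (E : Set G) :=
    centralizer_le_normalizer hG hE.choose hE.choose_spec
  have hEW := le_normalizer_bW hE
  refine residual_induction (res hF) fun y hy hcop => ?_
  obtain ⟨x, hx, hc⟩ := exists_of_mem_sup hG hE (hM hy)
  by_cases hlin : bQ p E = bW p E
  · -- linear kind
    set O := Cfsg.pCore p G with hO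
    set W := bW p E with hWdef
    let K : Subgroup G :=
      { carrier := {g | g ∈ Subgroup.centralizer (W : Set G) ∧ ∀ o ∈ O, g * o * g⁻¹ * o⁻¹ ∈ W}
        one_mem' := ⟨one_mem _, fun o _ => by simp⟩
        mul_mem' := fun {a b} ha hb => ⟨mul_mem ha.1 hb.1, fun o ho => by
          rw [show a * b * o * (a * b)⁻¹ * o⁻¹ =
            a * (b * o * b⁻¹ * o⁻¹) * a⁻¹ * (a * o * a⁻¹ * o⁻¹) by group,
            ← ha.1 _ (hb.2 o ho), mul_inv_cancel_right]
          exact mul_mem (hb.2 o ho) (ha.2 o ho)⟩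
        inv_mem' := fun {a} ha => ⟨inv_mem ha.1, fun o ho => by
          have h := inv_mem (ha.2 o ho)
          rw [show a⁻¹ * o * a⁻¹⁻¹ * o⁻¹ = a⁻¹ * (a * o * a⁻¹ * o⁻¹)⁻¹ * a by group, mul_assoc,
            ha.1 _ h, inv_mul_cancel_left]
          exact h⟩ }
    have hKp : IsPGroup p ↥K := by
      intro g
      have hW1 : ∀ o ∈ O, ((g : G) ^ p) * o * ((g : G) ^ p)⁻¹ = o := by
        intro o ho
        obtain ⟨w, hw, hwe⟩ : ∃ w ∈ W, (g : G) * o * (g : G)⁻¹ = w * o := ⟨_, g.2.2 o ho, by group⟩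
        have key : ∀ n : ℕ, (g : G) ^ n * o * ((g : G) ^ n)⁻¹ = w ^ n * o := by
          intro n
          induction n with
          | zero => simp
          | succ n ih =>
            have hc : Commute (g : G) (w ^ n) :=
              (show Commute (g : G) w from (g.2.1 w hw).symm).pow_right n
            calc (g : G) ^ (n + 1) * o * ((g : G) ^ (n + 1))⁻¹
                = (g : G) * ((g : G) ^ n * o * ((g : G) ^ n)⁻¹) * (g : G)⁻¹ := by rw [pow_succ']; group
              _ = w ^ n * ((g : G) * o * (g : G)⁻¹) := by rw [ih, ← mul_assoc, hc.eq]; group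
              _ = w ^ (n + 1) * o := by rw [hwe, pow_succ]; group
        rw [key p, (bV_isEA p E).2 w (bW_le_bV hE hw), one_mul]
      obtain ⟨k, hk⟩ := core_isPGroup p G ⟨(g : G) ^ p,
        hG fun o ho => (mul_inv_eq_iff_eq_mul.mp (hW1 o ho)).symm⟩
      refine ⟨k + 1, Subtype.ext ?_⟩
      show ((g : G)) ^ p ^ (k + 1) = 1
      rw [pow_succ', pow_mul]
      exact congrArg Subtype.val hk
    refine mem_of_coprime_sup hKp (fun g hg => hCE hg.1) ?_ hcop
    rw [show y = x * (x⁻¹ * y) by group]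
    refine mul_mem (Subgroup.mem_sup_left hx) (Subgroup.mem_sup_right ⟨hc, fun o ho => ?_⟩)
    rw [show x⁻¹ * y * o * (x⁻¹ * y)⁻¹ * o⁻¹ =
      x⁻¹ * (y * o * y⁻¹ * o⁻¹) * x⁻¹⁻¹ * (x⁻¹ * o * x⁻¹⁻¹ * o⁻¹) by group]
    refine mul_mem (conj_mem' (inv_mem (hEW hx)) ?_) ?_
    · rw [← hlin, ← hQ]; exact conj_pCore_mem hF hG hy ho
    · rw [← hlin]; exact conj_pCore_mem hE hG (inv_mem hx) ho
  -- exceptional kind
  have hlinF : bQ p F ≠ bW p F := fun h => hlin (by rw [← hQ, h, hW])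
  obtain ⟨hp, F1, iF1, iF1t, iC1, d, dE, dQ, dV, dW, dO, hd⟩ :=
    (exists_ctx_of_good hE hG hgood).resolve_left hlin
  obtain ⟨-, F2, iF2, iF2t, iC2, d', dE', dQ', -, dW', dO', -⟩ :=
    (exists_ctx_of_good hF hG (hQ ▸ hgood)).resolve_left hlinF
  subst hp
  have hOO : d'.O = d.O := by rw [dO', dO, hW]
  have h3 : Fintype.card F1 = 3 := by
    have hle : bW 3 E ≤ d.V := by rw [dV]; exact bW_le_bV hE
    have hker : ∀ w : ↥(bW 3 E), d.ψ.comp (Subgroup.inclusion hle) w = 1 ↔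
        (w : G) ∈ Subgroup.centralizer (E : Set G) := by
      intro w
      refine (d.hψker _).trans ⟨fun h z hz => (d.hZE _ h z (by rw [dE]; exact hz)).eq.symm,
        fun h => ?_⟩
      show (w : G) ∈ d.Z
      have he : d.e * w * d.e⁻¹ = (w : G) := by
        rw [h d.e (by rw [← dE]; exact d.he), mul_inv_cancel_right]
      have h2 := (d.hWe w (by rw [dW]; exact w.2)).symm.trans he
      have hw1 : (w : G) = 1 := orderOf_eq_one_iff.mp (Nat.eq_one_of_dvd_coprimes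
        (by norm_num : Nat.Coprime 2 3)
        (orderOf_dvd_of_pow_eq_one (by rw [pow_two]; nth_rewrite 1 [← h2]; exact inv_mul_cancel _))
        (orderOf_dvd_of_pow_eq_one (d.hV3 _ (hle w.2))))
      rw [hw1]; exact one_mem _
    have hsurj : Function.Surjective (d.ψ.comp (Subgroup.inclusion hle)) := by
      intro v
      obtain ⟨u, rfl⟩ := d.hψ v
      obtain ⟨w, hw, z, hz, huv⟩ := d.hWsup u u.2
      refine ⟨⟨w, by rw [← dW]; exact hw⟩, ?_⟩
      show d.ψ ⟨w, d.hWV hw⟩ = d.ψ u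
      rw [show u = ⟨w, d.hWV hw⟩ * ⟨z, d.hZV hz⟩ from Subtype.ext huv, map_mul,
        (d.hψker ⟨z, d.hZV hz⟩).mpr hz, mul_one]
    rw [uCard_eq _ hker, MonoidHom.range_eq_top.mpr hsurj, Subgroup.card_top,
      Nat.card_congr Multiplicative.toAdd, Nat.card_eq_fintype_card, Fintype.card_fun,
      Fintype.card_fin] at hu
    exact Nat.pow_left_injective (by norm_num : 2 ≠ 0) (hu.trans (by norm_num : 3 * 3 = 3 ^ 2))
  set c0 := x⁻¹ * y with hc0
  have hxd : x ∈ d.E := by rw [dE]; exact hx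
  have hCd : d.C = Subgroup.centralizer (bW 3 E : Set G) := by
    show Subgroup.centralizer (d.W : Set G) = _
    rw [dW]
  have hc0C : c0 ∈ d.C := by rw [hCd]; exact hc
  have hyNW : y ∈ d.NW := by
    show y ∈ Subgroup.normalizer (d.W : Set G)
    rw [dW, ← hW]
    exact le_normalizer_bW hF hy
  have hyS : y ∈ d.S0 := by
    refine ⟨hyNW, fun o ho hoc => ?_⟩
    have h := d'.hEZ0 y (by rw [dE']; exact hy) o (by rw [hOO]; exact ho)
      (fun o' ho' => hoc o' (by rw [← hOO]; exact ho'))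
    rw [dW', hW] at h
    rw [dW]; exact h
  have hc0S : c0 ∈ d.S0 := mul_mem (inv_mem (d.E_le_S0 hxd)) hyS
  have hc0NO : c0 ∈ d.NO := d.hON hc0S.1
  have hc0Q : ∀ o ∈ d.O, c0 * o * c0⁻¹ * o⁻¹ ∈ d.Q := by
    intro o ho
    rw [hc0, show x⁻¹ * y * o * (x⁻¹ * y)⁻¹ * o⁻¹ =
      x⁻¹ * (y * o * y⁻¹ * o⁻¹) * x⁻¹⁻¹ * (x⁻¹ * o * x⁻¹⁻¹ * o⁻¹) by group]
    refine mul_mem (conj_mem' (d.hEQ (inv_mem hxd)) ?_) (d.hEO _ (inv_mem hxd) o ho)
    have h := d'.hEO y (by rw [dE']; exact hy) o (by rw [hOO]; exact ho)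
    rw [dQ', hQ] at h
    rw [dQ]; exact h
  set a := d.act c0 with hadef
  have hcomm : ∀ z ∈ d.E, Commute (d.act z) a := by
    intro z hz
    have hs : z * c0 * z⁻¹ * c0⁻¹ ∈ d.Q := by
      rw [dQ]
      exact conj_mem_bQ hG hE (by rw [← dE]; exact hz)
        (mul_mem (inv_mem (Subgroup.le_normalizer hx)) (hFE hy)) hc
    have h := d.act_Q hs
    rw [d.act_mul (mul_mem (mul_mem (d.E_le_NO hz) hc0NO) (inv_mem (d.E_le_NO hz)))
      (inv_mem hc0NO), d.act_conj (d.E_le_NO hz) hc0NO,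
      d.act_inv hc0NO, mul_inv_eq_one, mul_inv_eq_iff_eq_mul] at h
    exact h
  have hMd := d.model
  obtain ⟨A, hA⟩ := hMd.exists_on_range (hcomm d.e d.he).symm
  obtain ⟨k, hk⟩ := exists_scalar_char_three A.toAddMonoidHom fun g hg u => by
    obtain ⟨a', ha', hga⟩ := hMd.surj g hg
    obtain ⟨z, hz, rfl⟩ := ha'
    refine hMd.inj ?_
    show d.iota (A _) = d.iota ((g : Matrix (Fin 2) (Fin 2) F1).mulVec (A u))
    rw [← hA, ← hga, ← hga, ← hA, ← MulAut.mul_apply, ← MulAut.mul_apply, (hcomm z hz).eq]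
  have hk' : ∀ u, A u = k • u := hk
  have hfixed : ∀ m, d.act d.e m = m → a m = m := by
    intro m hm
    have h1 : d.act d.e (a m * m⁻¹) = a m * m⁻¹ := by
      rw [map_mul, map_inv, hm, ← MulAut.mul_apply, (hcomm d.e d.he).eq, MulAut.mul_apply, hm]
    induction m using QuotientGroup.induction_on with
    | H o =>
      have hd2 : a ((o : ↥d.O) : d.Quo) * ((o : ↥d.O) : d.Quo)⁻¹ =
          d.iota (d.ψ2 ⟨_, hc0Q o o.2⟩).toAdd := by
        rw [← d.mk_eq_iota, hadef, d.act_apply hc0NO, ← QuotientGroup.mk_inv, ← QuotientGroup.mk_mul]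
        rfl
      rw [hd2] at h1
      rw [hMd.eq_one_of_fixed h1, mul_inv_eq_one] at hd2
      exact hd2
  rcases three_values h3 k with h | h | h
  · exfalso
    have h1 : A ![1, 0] = A 0 := by rw [hk', hk', h, zero_smul, zero_smul]
    simpa using congrFun (A.injective h1) 0
  · -- `c0` is in the kernel of the stable series
    have hK : c0 ∈ d.Kst := by
      refine ⟨hc0S, hc0C, hMd.ext_aut (fun u => ?_) fun m hm => ?_⟩
      · rw [hA, hk', h, one_smul]; rfl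
      · exact hfixed m hm
    refine mem_of_coprime_sup d.Kst_isPGroup (fun g hg => hCE ?_) ?_ hcop
    · rw [← hCd]; exact hg.2.1
    rw [show y = x * c0 by rw [hc0]; group]
    exact mul_mem (Subgroup.mem_sup_left hx) (Subgroup.mem_sup_right hK)
  · exfalso
    have hg : d.act (c0 * d.e) = 1 := by
      rw [d.act_mul hc0NO (d.E_le_NO d.he)]
      refine hMd.ext_aut (fun u => ?_) fun m hm => ?_
      · rw [MulAut.mul_apply, hMd.e_apply, ← hadef, hA, hk', h, smul_neg, neg_smul, one_smul, neg_neg]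
        rfl
      · rw [MulAut.mul_apply, hm]; exact hfixed m hm
    have h1 := d.mem_C_of_act_eq_one hd
      (mul_mem (Subgroup.mem_sup_right hc0C) (Subgroup.mem_sup_left d.he))
      (mul_mem hc0S (d.E_le_S0 d.he)) hg
    have h2 : d.e ∈ d.C := by
      rw [show d.e = c0⁻¹ * (c0 * d.e) by group]
      exact mul_mem (inv_mem hc0C) h1
    have h3' := (d.hρker ⟨d.e, d.he⟩).mpr (d.mem_Q_of_mem_C d.he h2)
    rw [d.hρe] at h3'
    have h4 := congrArg (fun g : SpecialLinearGroup (Fin 2) F1 => g.1 0 0) h3'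
    simp at h4
    exact neg_one_ne_one (F := F1) h4

/-- Blocks normalizing each other with the same module are equal. -/
theorem eq_of_same_module {E F : Subgroup G} (hE : IsBlock p E) (hF : IsBlock p F)
    (hgood : bQ p E ≤ Cfsg.pCore p G) (hEF : E ≤ Subgroup.normalizer (F : Set G))
    (hFE : F ≤ Subgroup.normalizer (E : Set G)) (hW : bW p F = bW p E) : E = F := by
  classical
  have hu : uCard p F = uCard p E := by
    rw [uCard, uCard, hW]
    congr 1
    refine le_antisymm (fun d hd => ⟨hd.1, fixed_eq hG hE hF hEF hW ⟨hd.1, hd.2⟩⟩) fun d hd =>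
      ⟨hd.1, fixed_eq hG hF hE hFE hW.symm ⟨?_, hd.2⟩⟩
    rw [hW]; exact hd.1
  by_cases hs : IsSmall p E
  · obtain ⟨hu1, hp⟩ := hs
    have hFM := le_sup_of_small hG hE hF hEF hFE hW hu1 hp
    have hEM := le_sup_of_small hG hF hE hFE hEF hW.symm (hu.trans hu1) hp
    rw [hW] at hEM
    have hQ := bQ_eq_of_small hG hE hF hEF hFE hW hEM hFM
    refine le_antisymm ?_ (le_of_matching hG hE hF hgood hFE hW hQ hu1 hFM)
    refine le_of_matching hG hF hE (hQ ▸ hgood) hEF hW.symm hQ.symm (hu.trans hu1) ?_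
    rw [hW]; exact hEM
  · have hs' : ¬ IsSmall p F := fun h => hs ⟨hu ▸ h.1, h.2⟩
    exact le_antisymm (le_of_not_small hG hE hF hEF hFE hW hs)
      (le_of_not_small hG hF hE hFE hEF hW.symm hs')

end CfsgLib.BlockPair
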