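import Cfsg.Agent.Lib.BlockPair.Same
import Cfsg.Agent.Lib.BlockPair.Permute
import Cfsg.Agent.Lib.BlockPair.Conj

/-!
# Two subnormal blocks are equal or commute
-/

set_option autoImplicit false
set_option linter.unusedSectionVars false
set_option linter.style.haveILetI false

open scoped commutatorElement

namespace CfsgLib.BlockPair

open CfsgLib.LocalEven CfsgLib.LocalEven.BBlock CfsgLib.BlockNorm

variable {G : Type*} [Group G] [Finite G] {p : ℕ} [Fact p.Prime]
  (hG : Subgroup.centralizer (Cfsg.pCore p G : Set G) ≤ Cfsg.pCore p G)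

include hG

/-- Blocks normalizing each other, with `O_p` in `O_p(G)`, are equal or commute. -/
theorem eq_or_commute {E F : Subgroup G} (hE : IsBlock p E) (hF : IsBlock p F)
    (hgE : bQ p E ≤ Cfsg.pCore p G) (hgF : bQ p F ≤ Cfsg.pCore p G)
    (hEF : E ≤ Subgroup.normalizer (F : Set G)) (hFE : F ≤ Subgroup.normalizer (E : Set G)) :
    E = F ∨ ⁅E, F⁆ = ⊥ := by
  by_cases hC : F ≤ Subgroup.centralizer (bW p E : Set G)
  · exact Or.inr (commutator_eq_bot_of_centralizes hG hE hF hgE hEF hFE
      (le_centralizer_bW hG hE hF hgE hFE hC) hC)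
  by_cases hC' : E ≤ Subgroup.centralizer (bW p F : Set G)
  · exact Or.inr (commutator_eq_bot_of_centralizes hG hE hF hgE hEF hFE hC'
      (le_centralizer_bW hG hF hE hgF hEF hC'))
  left
  -- `[W_E, F]` is in both modules
  have key : ∀ {A B : Subgroup G}, IsBlock p A → IsBlock p B → bQ p B ≤ Cfsg.pCore p G →
      A ≤ Subgroup.normalizer (B : Set G) → B ≤ Subgroup.normalizer (A : Set G) →
      ¬ B ≤ Subgroup.centralizer (bW p A : Set G) → bW p A ≤ bW p B := by
    intro A B hA hB hgB hAB hBA hnc
    have hBW := hBA.trans (normalizer_le_normalizer_bW (p := p) A)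
    have hinv : A ≤ Subgroup.normalizer ((bW p A ⊓ bW p B : Subgroup G) : Set G) := fun a ha =>
      mem_normalizer_of_le fun w hw => Subgroup.mem_inf.mpr
        ⟨conj_mem' (le_normalizer_bW hA ha) hw.1,
          conj_mem' ((hAB.trans (normalizer_le_normalizer_bW (p := p) B)) ha) hw.2⟩
    refine (inf_eq_left.mp (irredW hA hG inf_le_left hinv fun h => hnc fun f hf => ?_))
    refine centralizes_of_stable hG hA (hBA hf) (hBW hf) fun w hw => h (Subgroup.mem_inf.mpr
      ⟨Subgroup.mul_mem _ (conj_mem' (hBW hf) hw) (Subgroup.inv_mem _ hw),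
        conj_omega_mem hB hG hgB hf (bW_le_omega hA hG hw)⟩)
  exact eq_of_same_module hG hE hF hgE hEF hFE
    (le_antisymm (key hF hE hgE hFE hEF hC') (key hE hF hgF hEF hFE hC))

/-- Subnormal blocks normalize each other. -/
theorem le_normalizer_of_isSubnormal {E F : Subgroup G} (hE : IsBlock p E) (hF : IsBlock p F)
    (hEs : E.IsSubnormal) (hFs : F.IsSubnormal) : F ≤ Subgroup.normalizer (E : Set G) := by
  suffices key : ∀ n, ∀ H : Subgroup G, H.IsSubnormal → Nat.card ↥H ≤ n → ∀ {E F : Subgroup G},
      IsBlock p E → IsBlock p F → E.IsSubnormal → F.IsSubnormal → E ≤ H → F ≤ H →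
      F ≤ Subgroup.normalizer (E : Set G) from
    key _ ⊤ .top le_rfl hE hF hEs hFs le_top le_top
  intro n
  induction n with
  | zero =>
    intro H _ hc
    have := Nat.card_pos (α := ↥H)
    omega
  | succ n ih =>
    intro H hH hc E F hE hF hEs hFs hEH hFH
    have fam : ∀ {E : Subgroup G}, IsBlock p E → E.IsSubnormal → E ≤ H → ∀ x ∈ H,
        x ∈ Subgroup.normalizer (E : Set G) ∨ ⁅E, E.map (MulAut.conj x).toMonoidHom⁆ = ⊥ := by
      intro E hE hEs hEH x hx
      by_cases hEq : E = H
      · exact Or.inl (hEq ▸ Subgroup.le_normalizer hx)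
      obtain ⟨K, hKn, hEK, hK⟩ := (hEs.subgroupOf (K := H)).exists_normal_and_le_and_lt_top_of_ne
        fun h => hEq (le_antisymm hEH (Subgroup.subgroupOf_eq_top.mp h))
      set N := K.map H.subtype with hN
      have hNH : N ≤ H := Subgroup.map_subtype_le _
      have hNK : N.subgroupOf H = K :=
        Subgroup.comap_map_eq_self_of_injective H.subtype_injective K
      have hHN : H ≤ Subgroup.normalizer (N : Set G) :=
        (Subgroup.normal_subgroupOf_iff_le_normalizer hNH).mp (hNK.symm ▸ hKn)
      have hNs : N.IsSubnormal := CfsgLib.Components.isSubnormal_of_le_normalizer hNH hHN hH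
      have hNc : Nat.card ↥N ≤ n := by
        have : Nat.card ↥N < Nat.card ↥H := by
          refine lt_of_le_of_ne (Subgroup.card_le_of_le hNH) fun h => hK.ne ?_
          rw [← hNK, Subgroup.subgroupOf_eq_top.mpr]
          exact (Subgroup.eq_of_le_of_card_ge hNH h.ge).ge
        omega
      have hEN : E ≤ N := fun e he => ⟨⟨e, hEH he⟩, hEK (Subgroup.mem_subgroupOf.mpr he), rfl⟩
      have hE' := hE.conj x
      have hE's := CfsgLib.Components.isSubnormal_map_conj hEs x
      have hE'N : E.map (MulAut.conj x).toMonoidHom ≤ N := by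
        rintro _ ⟨e, he, rfl⟩
        exact conj_mem' (hHN hx) (hEN he)
      rcases eq_or_commute hG hE hE' (good_of_isSubnormal hE hG hEs) (good_of_isSubnormal hE' hG hE's)
        (ih N hNs hNc hE' hE hE's hEs hE'N hEN) (ih N hNs hNc hE hE' hEs hE's hEN hE'N) with h | h
      · exact Or.inl (Subgroup.mem_normalizer_iff_map_conj_eq.mpr h.symm)
      · exact Or.inr h
    rcases le_or_gt (uCard p F) (uCard p E) with hd | hd
    · exact le_normalizer_of_family hG hE hF (good_of_isSubnormal hF hG hFs)
        (fun x hx => fam hE hEs hEH x (hFH hx)) hd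
    · exact le_normalizer_of_larger hG hF hE (good_of_isSubnormal hF hG hFs)
        (good_of_isSubnormal hE hG hEs)
        (le_normalizer_of_family hG hF hE (good_of_isSubnormal hE hG hEs)
          (fun x hx => fam hF hFs hFH x (hEH hx)) hd.le)
        (fun x hx => fam hE hEs hEH x (hFH hx)) hd

/-- Subnormal blocks are equal or commute. -/
theorem eq_or_commute_of_isSubnormal {E F : Subgroup G} (hE : IsBlock p E) (hF : IsBlock p F)
    (hEs : E.IsSubnormal) (hFs : F.IsSubnormal) : E = F ∨ ⁅E, F⁆ = ⊥ :=
  eq_or_commute hG hE hF (good_of_isSubnormal hE hG hEs) (good_of_isSubnormal hF hG hFs)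
    (le_normalizer_of_isSubnormal hG hF hE hFs hEs) (le_normalizer_of_isSubnormal hG hE hF hEs hFs)

end CfsgLib.BlockPair
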